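import Cfsg.Agent.OddLocal44.PF11.Chief
import Cfsg.Agent.OddLocal44.PFArith
import Cfsg.Agent.Coherence.SeqInd
import Cfsg.Agent.Coherence.Grow
import Cfsg.Agent.S1517
import Cfsg.Agent.S1519
import Cfsg.Agent.S1520

set_option autoImplicit false

/-!
Peterfalvi (11.3)-(11.6): non-coherence of the characters induced from the derived subgroup forces
`H` to be elementary abelian and `C = U'`.
-/

open scoped commutatorElement

namespace Cfsg.Agent.OddLocal44.PF11

open Cfsg Cfsg.Agent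

universe u v

variable {L : Type u} [Group L]

section Group

variable [Finite L] {K H U W₁ W₂ H₀ C : Subgroup L} {p q : ℕ}

theorem ChiefHyp.not_mem_of_gen (hc : ChiefHyp H U W₂ H₀ C p q) (hp : 1 < p) (hq : q ≠ 0) {a : L}
    (hgen : H₀ ⊔ Subgroup.closure {x | ∃ w ∈ W₁, x = w * a * w⁻¹} = H) : a ∉ H₀ := by
  intro ha
  have h : H ≤ H₀ := hgen ▸ sup_le le_rfl ((Subgroup.closure_le H₀).2 (by
    rintro _ ⟨w, -, rfl⟩
    exact hc.normal.conj_mem a ha w))
  have := hc.card_eq
  rw [Subgroup.relIndex_eq_one.2 h] at this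
  exact absurd this (Nat.one_lt_pow hq hp).ne

/-- The character of `U` on a line. -/
theorem ChiefHyp.exists_lineChar (hc : ChiefHyp H U W₂ H₀ C p q) [hp : Fact p.Prime] {a : L}
    (ha : a ∈ H) (ha0 : a ∉ H₀) (hline : ∀ u ∈ U, ∃ k : ℕ, u * a * u⁻¹ * (a ^ k)⁻¹ ∈ H₀) :
    ∃ k : L → ZMod p, k 1 = 1 ∧ (∀ u ∈ U, u * a * u⁻¹ * (a ^ (k u).val)⁻¹ ∈ H₀) ∧
      ∀ u ∈ U, ∀ v ∈ U, k (u * v) = k u * k v := by
  classical
  haveI := hc.normal
  set π := QuotientGroup.mk' H₀
  have hiff : ∀ x y : L, x * y⁻¹ ∈ H₀ ↔ π x = π y := fun x y => by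
    rw [← QuotientGroup.eq_one_iff]
    show π (x * y⁻¹) = 1 ↔ _
    rw [map_mul, map_inv, mul_inv_eq_one]
  have hord : orderOf (π a) = p := orderOf_eq_prime
    (by rw [← map_pow]; exact (QuotientGroup.eq_one_iff _).2 (hc.pow a ha))
    fun e => ha0 ((QuotientGroup.eq_one_iff a).1 e)
  choose n hn using hline
  let k : L → ZMod p := fun u => if h : u ∈ U then (n u h : ZMod p) else 1
  have hk : ∀ u ∈ U, π (u * a * u⁻¹) = π a ^ (k u).val := by
    intro u hu
    rw [(hiff _ _).1 (hn u hu), map_pow, pow_eq_pow_iff_modEq, hord,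
      ← ZMod.natCast_eq_natCast_iff]
    simp [k, hu]
  have huniq : ∀ u ∈ U, ∀ m : ℕ, π (u * a * u⁻¹) = π a ^ m → (m : ZMod p) = k u := by
    intro u hu m hm
    rw [hk u hu, pow_eq_pow_iff_modEq, hord, ← ZMod.natCast_eq_natCast_iff,
      ZMod.natCast_zmod_val] at hm
    exact hm.symm
  refine ⟨k, ?_, fun u hu => (hiff _ _).2 (by rw [map_pow]; exact hk u hu), fun u hu v hv => ?_⟩
  · have := huniq 1 U.one_mem 1 (by simp)
    simpa using this.symm
  · have h : π (u * v * a * (u * v)⁻¹) = π a ^ ((k u).val * (k v).val) := by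
      rw [show u * v * a * (u * v)⁻¹ = u * (v * a * v⁻¹) * u⁻¹ by group, map_mul, map_mul,
        hk v hv, map_inv, ← conj_pow, ← map_inv, ← map_mul, ← map_mul, hk u hu, ← pow_mul]
    rw [← huniq _ (U.mul_mem hu hv) _ h]
    simp

/-- The situation of §11 once `H₀ = 1`. -/
structure Reduced (H U W₂ C : Subgroup L) (p q : ℕ) : Prop where
  chief : ChiefHyp H U W₂ ⊥ C p q
  faithful : ¬ ∀ u ∈ U, ∀ h ∈ H, u * h = h * u
  C_eq : C = ⁅U, U⁆

omit [Finite L] in
theorem Reduced.U_ne (hr : Reduced H U W₂ C p q) : U ≠ ⊥ := fun e => hr.faithful fun u hu h _ => by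
  rw [e, Subgroup.mem_bot] at hu
  rw [hu, one_mul, mul_one]

omit [Finite L] in
theorem Reduced.abelian (hr : Reduced H U W₂ C p q) : ∀ x ∈ H, ∀ y ∈ H, x * y = y * x :=
  fun _ hx _ hy => commutatorElement_eq_one_iff_mul_comm.1
    (Subgroup.mem_bot.1 (hr.chief.comm (Subgroup.commutator_mem_commutator hx hy)))

omit [Finite L] in
theorem Reduced.exponent (hr : Reduced H U W₂ C p q) : ∀ x ∈ H, x ^ p = 1 := fun x hx =>
  Subgroup.mem_bot.1 (hr.chief.pow x hx)

omit [Finite L] in
theorem Reduced.card_H (hr : Reduced H U W₂ C p q) : Nat.card H = p ^ q := by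
  rw [← hr.chief.card_eq, Subgroup.relIndex_bot_left]

theorem relIndex_HC (hG : GroupHyp K H U W₁ W₂ p q) (hCU : C ≤ U) :
    (H ⊔ C).relIndex K = C.relIndex U := by
  haveI := hG.H_normal
  have hle : H ⊔ C ≤ K := sup_le hG.H_le (hCU.trans hG.U_le)
  have h2 : (H ⊔ C).relIndex K * Nat.card ↥(H ⊔ C) = Nat.card K := by
    rw [mul_comm, ← Nat.card_congr (Subgroup.subgroupOfEquivOfLe hle).toEquiv]
    exact Subgroup.card_mul_index _
  have h3 : C.relIndex U * Nat.card C = Nat.card U := by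
    rw [mul_comm, ← Nat.card_congr (Subgroup.subgroupOfEquivOfLe hCU).toEquiv]
    exact Subgroup.card_mul_index _
  rw [ChiefHyp.card_sup hG le_rfl hCU] at h2
  refine Nat.eq_of_mul_eq_mul_right
    (Nat.mul_pos (Nat.card_pos (α := H)) (Nat.card_pos (α := C))) ?_
  rw [h2, ← hG.card_K.2.1, ← h3]
  ring

theorem eq_of_mul_eq_mul (hG : GroupHyp K H U W₁ W₂ p q) {a a' b b' : L} (ha : a ∈ H) (ha' : a' ∈ H)
    (hb : b ∈ U) (hb' : b' ∈ U) (e : a * b = a' * b') : a = a' ∧ b = b' := by
  have h : a'⁻¹ * a ∈ H ⊓ U := ⟨H.mul_mem (H.inv_mem ha') ha, by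
    have : a'⁻¹ * a = b' * b⁻¹ := by
      calc a'⁻¹ * a = a'⁻¹ * (a * b) * b⁻¹ := by group
        _ = _ := by rw [e]; group
    exact this ▸ U.mul_mem hb' (U.inv_mem hb)⟩
  rw [hG.H_inf_U, Subgroup.mem_bot, inv_mul_eq_one] at h
  exact ⟨h.symm, mul_left_cancel (a := a) (by rw [e, h])⟩

theorem derived_le (hG : GroupHyp K H U W₁ W₂ p q) : ⁅K, K⁆ ≤ H ⊔ ⁅U, U⁆ := by
  haveI := hG.H_normal
  rw [Subgroup.commutator_le]
  intro x hx y hy
  rw [← hG.HU] at hx hy
  obtain ⟨a, ha, b, hb, rfl⟩ := Subgroup.mem_sup_of_normal_left.1 hx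
  obtain ⟨a', ha', b', hb', rfl⟩ := Subgroup.mem_sup_of_normal_left.1 hy
  have hq' : QuotientGroup.mk' H ⁅a * b, a' * b'⁆ = QuotientGroup.mk' H ⁅b, b'⁆ := by
    rw [map_commutatorElement, map_commutatorElement, map_mul, map_mul,
      show QuotientGroup.mk' H a = 1 from (QuotientGroup.eq_one_iff a).2 ha,
      show QuotientGroup.mk' H a' = 1 from (QuotientGroup.eq_one_iff a').2 ha', one_mul, one_mul]
  have h2 : ⁅a * b, a' * b'⁆ * ⁅b, b'⁆⁻¹ ∈ H := by
    refine (QuotientGroup.eq_one_iff _).1 ?_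
    show QuotientGroup.mk' H _ = 1
    rw [map_mul, map_inv, hq', mul_inv_cancel]
  have := Subgroup.mul_mem_sup h2 (Subgroup.commutator_mem_commutator hb hb')
  rwa [inv_mul_cancel_right] at this

theorem C_ne_relIndex (hCU : C ≤ U) (hne : C ≠ U) : 2 ≤ C.relIndex U := by
  have h0 : C.relIndex U ≠ 0 := Subgroup.index_ne_zero_of_finite
  have h1 : C.relIndex U ≠ 1 := fun h => hne (le_antisymm hCU (Subgroup.relIndex_eq_one.1 h))
  omega

end Group

variable [Fintype L] {G : Type v} [Group G] [Fintype G] {τ : (L → ℂ) → (G → ℂ)}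
  {R : (L → ℂ) → Finset (G → ℂ)} {K H U W₁ W₂ H₀ C : Subgroup L} {p q : ℕ}

/-- The members induced from linear characters form a coherent set. -/
theorem coherent_linear (hG : GroupHyp K H U W₁ W₂ p q)
    (hS : IsCoherenceSystem (inducedIrrAbove K ⊥) τ R) (A : Subgroup L) [A.Normal]
    (hA : ⁅K, K⁆ ≤ A) (hne : ¬ K ≤ A) : IsCoherent (inducedIrrAbove K A) {1}ᶜ τ := by
  haveI := hG.K_normal
  have hsub := Coherence.sys_subset hS (Coherence.seq_subset_bot K A) (by
    obtain ⟨θ, hθ, -⟩ := Coherence.exists_linear K hG.solvable A hne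
    obtain ⟨h1, h2⟩ := (Coherence.mem_irrNP K).1 hθ
    exact ⟨_, θ, θ.2, h1, h2, rfl⟩) (fun χ hχ => Coherence.seq_conj K hχ)
  refine S1517.result _ τ R hsub fun φ hφ ψ hψ => ?_
  haveI : Fintype K := Fintype.ofFinite _
  have key : ∀ θ : K → ℂ, IsIrrCharacter K θ → (∀ a : K, (a : L) ∈ A → θ a = θ 1) → θ 1 = 1 := by
    intro θ hθ hker
    obtain ⟨d, hd, hpos⟩ := Coherence.char_one_nat (Coherence.irr_isCharacter hθ)
    have hb := Coherence.degree_bound hθ (⁅(⊤ : Subgroup K), ⊤⁆) ⊤ ⊤ le_rfl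
      (fun x hx y hy => Subgroup.commutator_mem_commutator hx hy) (fun b hb => hker b (hA ?_))
    · rw [hd, Complex.natCast_re, Subgroup.card_top] at hb
      have hK : (0 : ℝ) < Nat.card K := by exact_mod_cast Nat.card_pos
      have : (d : ℝ) ^ 2 ≤ 1 := by
        by_contra hlt
        push Not at hlt
        nlinarith [mul_pos hK hK]
      have h1 : 0 < d := hpos fun h0 => by
        exact Coherence.irr_one_ne_zero hθ (by simp [h0])
      have h2 : (d : ℝ) = 1 := by
        have : (1 : ℝ) ≤ d := by exact_mod_cast h1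
        nlinarith
      rw [hd]
      exact_mod_cast h2
    · have := Subgroup.mem_map_of_mem K.subtype hb
      rw [Subgroup.map_commutator, ← MonoidHom.range_eq_map, Subgroup.range_subtype] at this
      exact this
  obtain ⟨θ, hθ, -, hk, rfl⟩ := hφ
  obtain ⟨η, hη, -, hk', rfl⟩ := hψ
  rw [CharInd.indFun_apply_one, CharInd.indFun_apply_one, key θ hθ hk, key η hη hk']

/-- Peterfalvi (11.4): the bound on the index of a coherent level. -/
theorem bound (hG : GroupHyp K H U W₁ W₂ p q) (hS : IsCoherenceSystem (inducedIrrAbove K ⊥) τ R)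
    (hc : ChiefHyp H U W₂ H₀ C p q) (hU : U ≠ ⊥) (hCU : C ≠ U)
    (hncB : ∀ B : Subgroup L, B = H₀ ⊔ ⁅C, C⁆ → ¬ IsCoherent (inducedIrrAbove K B) {1}ᶜ τ)
    (A : Subgroup L) [A.Normal] (hAK : A < K) (hA : IsCoherent (inducedIrrAbove K A) {1}ᶜ τ) :
    A.relIndex K - 1 ≤ 2 * q * C.relIndex U := by
  haveI := hG.K_normal
  haveI := hG.H_normal
  haveI := hc.normal
  haveI := hc.C_normal hG hU
  have hCH := hc.C_centralizes hG hU
  have hCK : C ≤ K := hc.C_le.trans hG.U_le
  have hcomm : ∀ x ∈ H ⊔ C, ∀ y ∈ H ⊔ C, x * y * x⁻¹ * y⁻¹ ∈ H₀ ⊔ ⁅C, C⁆ := by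
    intro x hx y hy
    obtain ⟨a, ha, b, hb, rfl⟩ := Subgroup.mem_sup_of_normal_left.1 hx
    obtain ⟨a', ha', b', hb', rfl⟩ := Subgroup.mem_sup_of_normal_left.1 hy
    have e1 : Commute b a' := hCH b hb a' ha'
    have e2 : Commute b' a := hCH b' hb' a ha
    have e3 : Commute ⁅a, a'⁆ b := (hCH b hb _ (H.mul_mem (H.mul_mem (H.mul_mem ha ha')
      (H.inv_mem ha)) (H.inv_mem ha'))).symm
    have : a * b * (a' * b') * (a * b)⁻¹ * (a' * b')⁻¹ = ⁅a, a'⁆ * ⁅b, b'⁆ := by
      calc a * b * (a' * b') * (a * b)⁻¹ * (a' * b')⁻¹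
          = a * (b * a') * b' * b⁻¹ * a⁻¹ * b'⁻¹ * a'⁻¹ := by group
        _ = a * a' * (b * b' * b⁻¹) * a⁻¹ * b'⁻¹ * a'⁻¹ := by rw [e1.eq]; group
        _ = a * a' * a⁻¹ * (b * b' * b⁻¹) * b'⁻¹ * a'⁻¹ := by
            have hcm : Commute (b * b' * b⁻¹) a⁻¹ := Commute.inv_right
              (hCH _ (C.mul_mem (C.mul_mem hb hb') (C.inv_mem hb)) a ha)
            rw [mul_assoc (a * a'), hcm.eq]; group
        _ = a * a' * a⁻¹ * (b * b' * b⁻¹ * b'⁻¹) * a'⁻¹ := by group
        _ = a * a' * a⁻¹ * a'⁻¹ * (b * b' * b⁻¹ * b'⁻¹) := by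
            have hcm : Commute (b * b' * b⁻¹ * b'⁻¹) a'⁻¹ := Commute.inv_right
              (hCH _ (C.mul_mem (C.mul_mem (C.mul_mem hb hb') (C.inv_mem hb)) (C.inv_mem hb')) a' ha')
            rw [mul_assoc (a * a' * a⁻¹), hcm.eq]; group
    rw [this]
    exact Subgroup.mul_mem_sup (hc.comm (Subgroup.commutator_mem_commutator ha ha'))
      (Subgroup.commutator_mem_commutator hb hb')
  have hBD : H₀ ⊔ ⁅C, C⁆ ≤ H ⊔ C := sup_le_sup hc.le (Subgroup.commutator_le_right C C)
  have hHCK : H ⊔ C ≤ K := sup_le hG.H_le hCK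
  have hHClt : H ⊔ C < K := by
    refine lt_of_le_of_ne hHCK fun he => hCU (le_antisymm hc.C_le fun u hu => ?_)
    have hu' : u ∈ H ⊔ C := he ▸ hG.U_le hu
    obtain ⟨a, ha, b, hb, rfl⟩ := Subgroup.mem_sup_of_normal_left.1 hu'
    have : a ∈ H ⊓ U := ⟨ha, by
      have := U.mul_mem hu (U.inv_mem (hc.C_le hb))
      rwa [mul_inv_cancel_right] at this⟩
    rw [hG.H_inf_U, Subgroup.mem_bot] at this
    rwa [this, one_mul]
  have hidx : (H ⊔ C).index = q * C.relIndex U := by
    obtain ⟨hKi, hKc, -, -⟩ := hG.card_K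
    have h1 : (H ⊔ C).index = (H ⊔ C).relIndex K * q := by
      rw [← hKi, Subgroup.relIndex_mul_index hHCK]
    have h2 : (H ⊔ C).relIndex K * Nat.card ↥(H ⊔ C) = Nat.card K := by
      rw [mul_comm, ← Nat.card_congr (Subgroup.subgroupOfEquivOfLe hHCK).toEquiv]
      exact Subgroup.card_mul_index _
    have h3 : C.relIndex U * Nat.card C = Nat.card U := by
      rw [mul_comm, ← Nat.card_congr (Subgroup.subgroupOfEquivOfLe hc.C_le).toEquiv]
      exact Subgroup.card_mul_index _
    rw [ChiefHyp.card_sup hG le_rfl hc.C_le] at h2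
    have : (H ⊔ C).relIndex K = C.relIndex U := by
      refine Nat.eq_of_mul_eq_mul_right (Nat.mul_pos (Nat.card_pos (α := H)) (Nat.card_pos (α := C))) ?_
      rw [h2, ← hKc, ← h3]
      ring
    rw [h1, this, mul_comm]
  by_contra hlt
  push Not at hlt
  refine hncB _ rfl (S1519.result (hK := hG.K_normal) K hG.solvable τ R hS A (H₀ ⊔ ⁅C, C⁆) (H ⊔ C)
    (H ⊔ C) hAK (lt_of_le_of_lt hBD hHClt) hBD le_rfl hHCK hcomm hA ?_)
  rw [hidx, Subgroup.relIndex_self, mul_one]
  calc 4 * (q * C.relIndex U) ^ 2 = (2 * q * C.relIndex U) ^ 2 := by ring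
    _ < (A.relIndex K - 1) ^ 2 := Nat.pow_lt_pow_left hlt (by norm_num)


set_option maxHeartbeats 800000 in
/-- Peterfalvi (11.3)-(11.6). -/
theorem reduce (hG : GroupHyp K H U W₁ W₂ p q) (hS : IsCoherenceSystem (inducedIrrAbove K ⊥) τ R)
    (hU : U ≠ ⊥) (hUH : ¬ ∀ u ∈ U, ∀ h ∈ H, u * h = h * u)
    (hnc : ¬ IsCoherent (inducedIrrAbove K ⊥) {1}ᶜ τ) (hc : ChiefHyp H U W₂ H₀ C p q)
    (hUC : ∀ x ∈ ⁅U, U⁆, ∀ h ∈ H, x * h = h * x) :
    Reduced H U W₂ C p q ∧ ∀ (A : Subgroup L) [A.Normal], A < K →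
      IsCoherent (inducedIrrAbove K A) {1}ᶜ τ → A.relIndex K - 1 ≤ 2 * q * C.relIndex U := by
  classical
  haveI := hG.K_normal
  haveI := hG.H_normal
  haveI := hc.normal
  haveI := hc.C_normal hG hU
  haveI := hG.H_nil
  haveI : Fact p.Prime := ⟨hG.hp⟩
  haveI : Fact q.Prime := ⟨hG.hq⟩
  have hCH := hc.C_centralizes hG hU
  have hUH₀ := hG.U_centralizes hU H₀ hc.le hc.W₂_inf
  have hCK : C ≤ K := hc.C_le.trans hG.U_le
  have hCU : C ≠ U := hc.C_ne hG hU hUH
  have hU'C : ⁅U, U⁆ ≤ C := fun x hx => (hc.mem_C x).2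
    ⟨Subgroup.commutator_le_self U hx, fun h hh => by rw [hUC x hx h hh]; simp⟩
  have hncB : ∀ B : Subgroup L, B = H₀ ⊔ ⁅C, C⁆ → ¬ IsCoherent (inducedIrrAbove K B) {1}ᶜ τ := by
    rintro B rfl hcoh
    refine hnc ?_
    have hnil : Group.IsNilpotent ↥(H ⊔ C) := by
      haveI := hG.U_nil
      haveI : Group.IsNilpotent C := Subgroup.isNilpotent_of_ker_le_center (Subgroup.inclusion hc.C_le)
        (((MonoidHom.ker_eq_bot_iff _).2 (Subgroup.inclusion_injective hc.C_le)).le.trans bot_le)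
      let φ : H × C →* ↥(H ⊔ C) :=
        { toFun := fun x => ⟨(x.1 : L) * x.2, Subgroup.mul_mem_sup x.1.2 x.2.2⟩
          map_one' := Subtype.ext (by simp)
          map_mul' := fun x y => Subtype.ext (by
            show ((x.1 * y.1 : H) : L) * ((x.2 * y.2 : C) : L) = (x.1 : L) * x.2 * ((y.1 : L) * y.2)
            rw [Subgroup.coe_mul, Subgroup.coe_mul]
            calc (x.1 : L) * y.1 * (x.2 * y.2) = (x.1 : L) * (y.1 * x.2) * y.2 := by group
              _ = (x.1 : L) * (x.2 * y.1) * y.2 := by rw [hCH _ x.2.2 _ y.1.2]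
              _ = _ := by group) }
      refine Group.nilpotent_of_surjective φ fun ⟨x, hx⟩ => ?_
      obtain ⟨a, ha, b, hb, rfl⟩ := Subgroup.mem_sup_of_normal_left.1 hx
      exact ⟨(⟨a, ha⟩, ⟨b, hb⟩), rfl⟩
    haveI := hnil
    have hle : H₀ ⊔ ⁅C, C⁆ ≤ H₀ ⊔ C := sup_le_sup_left (Subgroup.commutator_le_right C C) _
    refine S1520.result (hK := hG.K_normal) K hG.solvable τ R hS ⊥ (H₀ ⊔ ⁅C, C⁆) (H ⊔ C) bot_le
      (hle.trans (sup_le_sup_right hc.le _)) (sup_le hG.H_le hCK)
      (Group.nilpotent_of_surjective (QuotientGroup.mk' _) (QuotientGroup.mk'_surjective _)) hcoh ?_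
    rw [hG.card_K.1]
    refine lt_of_lt_of_le (four_sq_lt_pow hG.hp hG.hq hG.p_ne_two hG.q_ne_two hG.hpq) ?_
    have h1 : (H₀ ⊔ C).relIndex (H ⊔ C) = p ^ q := by
      have h2 : (H₀ ⊔ C).relIndex (H ⊔ C) * Nat.card ↥(H₀ ⊔ C) = Nat.card ↥(H ⊔ C) := by
        rw [mul_comm, ← Nat.card_congr
          (Subgroup.subgroupOfEquivOfLe (sup_le_sup_right hc.le C)).toEquiv]
        exact Subgroup.card_mul_index _
      have h3 : H₀.relIndex H * Nat.card H₀ = Nat.card H := by
        rw [mul_comm, ← Nat.card_congr (Subgroup.subgroupOfEquivOfLe hc.le).toEquiv]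
        exact Subgroup.card_mul_index _
      rw [ChiefHyp.card_sup hG hc.le hc.C_le, ChiefHyp.card_sup hG le_rfl hc.C_le, ← h3, hc.card_eq] at h2
      refine Nat.eq_of_mul_eq_mul_right (Nat.mul_pos (Nat.card_pos (α := H₀)) (Nat.card_pos (α := C))) ?_
      rw [h2]; ring
    rw [← h1]
    exact Nat.le_of_dvd (Nat.pos_of_ne_zero Subgroup.index_ne_zero_of_finite)
      (Subgroup.relIndex_dvd_of_le_left _ hle)
  set u := C.relIndex U with hu_def
  have hu2 : 2 ≤ u := C_ne_relIndex hc.C_le hCU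
  -- `K' = H C`
  have hK' : ⁅K, K⁆ = H ⊔ C := by
    haveI : (⁅K, K⁆ : Subgroup L).Normal := inferInstance
    have hle : ⁅K, K⁆ ≤ H ⊔ C := (derived_le hG).trans (sup_le_sup_left hU'C _)
    by_contra hne
    have hnKA : ¬ K ≤ ⁅K, K⁆ := by
      intro h
      have h' := h.trans hle
      exact hCU (le_antisymm hc.C_le fun x hx => by
        obtain ⟨a, ha, b, hb, rfl⟩ := Subgroup.mem_sup_of_normal_left.1 (h' (hG.U_le hx))
        have : a ∈ H ⊓ U := ⟨ha, by
          have := U.mul_mem hx (U.inv_mem (hc.C_le hb))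
          rwa [mul_inv_cancel_right] at this⟩
        rw [hG.H_inf_U, Subgroup.mem_bot] at this
        rwa [this, one_mul])
    have hAK : ⁅K, K⁆ < K := lt_of_le_not_ge (Subgroup.commutator_le_self K) hnKA
    have hb := bound hG hS hc hU hCU hncB ⁅K, K⁆ hAK (coherent_linear hG hS _ le_rfl hnKA)
    rw [← hu_def] at hb
    have hm : (⁅K, K⁆).relIndex (H ⊔ C) * (H ⊔ C).relIndex K = (⁅K, K⁆).relIndex K :=
      Subgroup.relIndex_mul_relIndex _ _ _ hle (sup_le hG.H_le hCK)
    have hidx : (H ⊔ C).relIndex K = u := relIndex_HC hG hc.C_le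
    rw [hidx] at hm
    set x := (⁅K, K⁆).relIndex (H ⊔ C) with hx_def
    have hx1 : x ≠ 1 := fun h => hne (le_antisymm hle (Subgroup.relIndex_eq_one.1 h))
    have hmod1 := hG.index_modEq ⁅K, K⁆ (Subgroup.commutator_le_self K) hG.W₂_le'
      (hG.not_q_dvd _ (Subgroup.commutator_le_self K))
    have hmod2 := hG.index_modEq (H ⊔ C) (sup_le hG.H_le hCK) (hG.W₂_le.trans le_sup_left)
      (hG.not_q_dvd _ (sup_le hG.H_le hCK))
    rw [← hm] at hmod1
    rw [hidx] at hmod2
    have hxmod : x ≡ 1 [MOD q] := by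
      calc x = x * 1 := (mul_one x).symm
        _ ≡ x * u [MOD q] := (Nat.ModEq.mul_left x hmod2).symm
        _ ≡ 1 [MOD q] := hmod1
    have hxodd : Odd x := hG.odd_of_dvd
      ((Subgroup.index_dvd_card _).trans (Subgroup.card_subgroup_dvd_card _))
    have hx0 : 1 ≤ x := hxodd.pos
    obtain ⟨k, hk⟩ := (Nat.modEq_iff_dvd' hx0).1 hxmod.symm
    have hk2 : 2 ≤ k := by
      rcases Nat.lt_or_ge k 2 with hk' | hk'
      · interval_cases k
        · omega
        · rw [mul_one] at hk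
          have := hG.q_odd
          obtain ⟨m, hm⟩ := this
          obtain ⟨m', hm'⟩ := hxodd
          omega
      · exact hk'
    have hx2 : 2 * q + 1 ≤ x := by
      have : q * 2 ≤ q * k := Nat.mul_le_mul_left q hk2
      omega
    have h4 : (2 * q + 1) * u ≤ x * u := Nat.mul_le_mul_right _ hx2
    have h5 : (2 * q + 1) * u = 2 * q * u + u := by ring
    omega
  -- `C = U'`
  have hCeq : C = ⁅U, U⁆ := by
    refine le_antisymm (fun c hcC => ?_) hU'C
    have hc' : c ∈ ⁅K, K⁆ := hK'.symm ▸ Subgroup.mem_sup_right hcC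
    obtain ⟨a, ha, b, hb, hab⟩ := Subgroup.mem_sup_of_normal_left.1 (derived_le hG hc')
    have := (eq_of_mul_eq_mul hG ha H.one_mem (Subgroup.commutator_le_self U hb) (hc.C_le hcC)
      (hab.trans (one_mul c).symm)).2
    rwa [← this]
  -- `H = [H, U]`
  have hHU : ⁅H, U⁆ = H := by
    have hle : ⁅H, U⁆ ≤ H := Subgroup.commutator_le_left H U
    have hn : ∀ x ∈ K, ∀ z ∈ ⁅H, U⁆, x * z * x⁻¹ ∈ ⁅H, U⁆ := by
      intro x hx z hz
      rw [← hG.HU] at hx
      have h1 : Subgroup.normalizer ((⁅H, U⁆ : Subgroup L) : Set L) ≥ H ⊔ U := by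
        rw [ge_iff_le, sup_comm, sup_le_iff]
        exact ⟨Subgroup.normalizer_commutator_ge_right H U, Subgroup.normalizer_commutator_ge_left H U⟩
      exact (Subgroup.mem_normalizer_iff.1 (h1 hx) z).1 hz
    have htop := eq_top_of_sup_commutator hG.H_nil ((⁅H, U⁆).subgroupOf H) (by
      apply Subgroup.map_injective H.subtype_injective
      rw [Subgroup.map_sup, Subgroup.map_subgroupOf_eq_of_le hle, commutator_def,
        Subgroup.map_commutator, ← MonoidHom.range_eq_map, Subgroup.range_subtype]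
      refine le_antisymm (sup_le hle (Subgroup.commutator_le_self H)) ?_
      set N := (⁅H, U⁆ ⊔ ⁅H, H⁆ : Subgroup L)
      have hNH : N ≤ H := sup_le hle (Subgroup.commutator_le_self H)
      have hnK : ∀ x ∈ K, ∀ z ∈ N, x * z * x⁻¹ ∈ N := by
        intro x hx z hz
        have : N ≤ N.comap (MulAut.conj x).toMonoidHom := sup_le
          (fun z hz => Subgroup.mem_sup_left (hn x hx z hz))
          (fun z hz => Subgroup.mem_sup_right
            ((inferInstance : (⁅H, H⁆ : Subgroup L).Normal).conj_mem z hz x))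
        exact this hz
      have hnorm : C ≤ Subgroup.normalizer (N : Set L) := fun c hc' => by
        rw [Subgroup.mem_normalizer_iff]
        exact fun z => ⟨hnK c (hCK hc') z, fun h => by
          simpa [mul_assoc] using hnK c⁻¹ (K.inv_mem (hCK hc')) _ h⟩
      suffices hKN : ⁅K, K⁆ ≤ N ⊔ C by
        intro h hh
        have h1 : h ∈ N ⊔ C := hKN (hK'.symm ▸ Subgroup.mem_sup_left hh)
        rw [← SetLike.mem_coe, Subgroup.coe_mul_of_right_le_normalizer_left N C hnorm] at h1
        obtain ⟨a, ha, c, hc', rfl⟩ := Set.mem_mul.1 h1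
        have h2 := (eq_of_mul_eq_mul hG hh (hNH ha) U.one_mem (hc.C_le hc') (mul_one _)).2
        rw [← h2, mul_one]
        exact ha
      rw [Subgroup.commutator_le]
      intro x hx y hy
      rw [← hG.HU] at hx hy
      obtain ⟨a, ha, b, hb, rfl⟩ := Subgroup.mem_sup_of_normal_left.1 hx
      obtain ⟨a', ha', b', hb', rfl⟩ := Subgroup.mem_sup_of_normal_left.1 hy
      have haa' : ⁅a, a'⁆ ∈ N := Subgroup.mem_sup_right (Subgroup.commutator_mem_commutator ha ha')
      have e1 : ⁅a, b'⁆ ∈ N := Subgroup.mem_sup_left (Subgroup.commutator_mem_commutator ha hb')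
      have e2 : ⁅b, a'⁆ ∈ N := by
        rw [← commutatorElement_inv]
        exact N.inv_mem (Subgroup.mem_sup_left (Subgroup.commutator_mem_commutator ha' hb))
      set c := ⁅b, b'⁆ with hcdef
      have hcC : c ∈ C := hU'C (Subgroup.commutator_mem_commutator hb hb')
      have key : ⁅a * b, a' * b'⁆ = a * (⁅b, a'⁆ * (a' * c * a'⁻¹)) * a⁻¹
          * (⁅a, a'⁆ * (a' * ⁅a, b'⁆ * a'⁻¹)) := by
        rw [hcdef]; simp only [commutatorElement_def]; group
      have hca : a' * c * a'⁻¹ = c := by rw [← hCH c hcC a' ha', mul_inv_cancel_right]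
      have hca2 : a * c * a⁻¹ = c := by rw [← hCH c hcC a ha, mul_inv_cancel_right]
      rw [key, hca, show a * (⁅b, a'⁆ * c) * a⁻¹ = a * ⁅b, a'⁆ * a⁻¹ * (a * c * a⁻¹) by group, hca2]
      exact Subgroup.mul_mem _ (Subgroup.mul_mem _
        (Subgroup.mem_sup_left (hnK a (hG.H_le ha) _ e2)) (Subgroup.mem_sup_right hcC))
        (Subgroup.mem_sup_left (N.mul_mem haa' (hnK a' (hG.H_le ha') _ e1))))
    exact le_antisymm hle (Subgroup.subgroupOf_eq_top.1 htop)
  -- `H₀` is central in `H`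
  have hcentral : ∀ a ∈ H₀, ∀ h ∈ H, a * h = h * a := by
    intro a ha h hh
    have hle : ⁅H, U⁆ ≤ Subgroup.centralizer (H₀ : Set L) := by
      rw [Subgroup.commutator_le]
      intro x hx v hv
      rw [Subgroup.mem_centralizer_iff]
      intro b hb
      have hb' : x⁻¹ * b * x ∈ H₀ := by simpa using hc.normal.conj_mem b hb x⁻¹
      have h1 : Commute v⁻¹ b := (Commute.inv_left (hUH₀ v hv b hb))
      have h2 : Commute v (x⁻¹ * b * x) := hUH₀ v hv _ hb'
      rw [commutatorElement_def]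
      calc b * (x * v * x⁻¹ * v⁻¹) = x * ((x⁻¹ * b * x) * v) * x⁻¹ * v⁻¹ := by group
        _ = x * (v * (x⁻¹ * b * x)) * x⁻¹ * v⁻¹ := by rw [h2.eq]
        _ = x * v * x⁻¹ * (b * v⁻¹) := by group
        _ = x * v * x⁻¹ * (v⁻¹ * b) := by rw [h1.eq]
        _ = _ := by group
    rw [hHU] at hle
    exact Subgroup.mem_centralizer_iff.1 (hle hh) a ha
  -- `H` is abelian
  have habel : ∀ x ∈ H, ∀ y ∈ H, x * y = y * x := by
    by_contra hno
    push Not at hno
    obtain ⟨x₀, hx₀, y₀, hy₀, hne⟩ := hno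
    set D := ⁅H, H⁆ with hD
    have hDle : D ≤ H₀ := hc.comm
    letI : CommGroup D :=
      { (inferInstance : Group D) with
        mul_comm := fun a b => Subtype.ext (hcentral _ (hDle a.2) _ (hc.le (hDle b.2))) }
    have hD1 : (D : Subgroup L) ≠ ⊥ := fun h => hne (commutatorElement_eq_one_iff_mul_comm.1
      (Subgroup.mem_bot.1 (h ▸ Subgroup.commutator_mem_commutator hx₀ hy₀)))
    let cm : H → H → D := fun a b => ⟨⁅(a : L), (b : L)⁆, Subgroup.commutator_mem_commutator a.2 b.2⟩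
    have hc1 : ∀ a b c : H, cm (a * b) c = cm a c * cm b c := by
      intro a b c
      apply Subtype.ext
      show ⁅(a : L) * b, (c : L)⁆ = ⁅(a : L), (c : L)⁆ * ⁅(b : L), (c : L)⁆
      have hbc := hcentral _ (hDle (Subgroup.commutator_mem_commutator b.2 c.2))
      have h1 : (a : L) * ⁅(b : L), (c : L)⁆ * (a : L)⁻¹ = ⁅(b : L), (c : L)⁆ := by
        rw [← hbc _ a.2, mul_inv_cancel_right]
      have h2 : ⁅(b : L), (c : L)⁆ * ⁅(a : L), (c : L)⁆ = ⁅(a : L), (c : L)⁆ * ⁅(b : L), (c : L)⁆ :=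
        hbc _ (hc.le (hDle (Subgroup.commutator_mem_commutator a.2 c.2)))
      calc ⁅(a : L) * b, (c : L)⁆ = ((a : L) * ⁅(b : L), (c : L)⁆ * (a : L)⁻¹) * ⁅(a : L), (c : L)⁆ := by
            simp only [commutatorElement_def]; group
        _ = _ := by rw [h1, h2]
    have hc2 : ∀ a b c : H, cm a (b * c) = cm a b * cm a c := by
      intro a b c
      apply Subtype.ext
      show ⁅(a : L), (b : L) * c⁆ = ⁅(a : L), (b : L)⁆ * ⁅(a : L), (c : L)⁆
      have hac := hcentral _ (hDle (Subgroup.commutator_mem_commutator a.2 c.2))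
      have h1 : (b : L) * ⁅(a : L), (c : L)⁆ * (b : L)⁻¹ = ⁅(a : L), (c : L)⁆ := by
        rw [← hac _ b.2, mul_inv_cancel_right]
      calc ⁅(a : L), (b : L) * c⁆ = ⁅(a : L), (b : L)⁆ * ((b : L) * ⁅(a : L), (c : L)⁆ * (b : L)⁻¹) := by
            simp only [commutatorElement_def]; group
        _ = _ := by rw [h1]
    have hcalt : ∀ a : H, cm a a = 1 := fun a => Subtype.ext (commutatorElement_self _)
    -- a maximal subgroup of `D` and the quotient pairing
    haveI : Nontrivial D := (Subgroup.nontrivial_iff_ne_bot D).2 hD1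
    obtain ⟨N, hN⟩ : ∃ N : Subgroup D, IsCoatom N := by
      rcases eq_top_or_exists_le_coatom (⊥ : Subgroup D) with h | ⟨N, hN, -⟩
      · exact absurd h bot_ne_top
      · exact ⟨N, hN⟩
    haveI : N.Normal := inferInstance
    have hsimple : IsSimpleGroup (D ⧸ N) := by
      haveI : Nontrivial (D ⧸ N) := QuotientGroup.nontrivial_iff.2 hN.1
      refine ⟨fun M _ => ?_⟩
      rcases eq_or_lt_of_le (show N ≤ M.comap (QuotientGroup.mk' N) from fun a ha => by
        rw [Subgroup.mem_comap, show QuotientGroup.mk' N a = 1 from (QuotientGroup.eq_one_iff a).2 ha]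
        exact M.one_mem) with h | h
      · left
        rw [← Subgroup.map_comap_eq_self_of_surjective (QuotientGroup.mk'_surjective N) M, ← h,
          QuotientGroup.map_mk'_self]
      · right
        rw [← Subgroup.map_comap_eq_self_of_surjective (QuotientGroup.mk'_surjective N) M, hN.2 _ h,
          Subgroup.map_top_of_surjective _ (QuotientGroup.mk'_surjective N)]
    haveI := hsimple
    have hrp : (Nat.card (D ⧸ N)).Prime := IsSimpleGroup.prime_card
    haveI : Fact (Nat.card (D ⧸ N)).Prime := ⟨hrp⟩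
    let β : H → H → D ⧸ N := fun a b => QuotientGroup.mk' N (cm a b)
    have hb1 : ∀ a b c : H, β (a * b) c = β a c * β b c := fun a b c => by simp only [β, hc1, map_mul]
    have hb2 : ∀ a b c : H, β a (b * c) = β a b * β a c := fun a b c => by simp only [β, hc2, map_mul]
    have hbsw : ∀ a b : H, β b a = (β a b)⁻¹ := fun a b => by
      rw [← map_inv]
      show QuotientGroup.mk' N _ = QuotientGroup.mk' N _
      congr 1
      exact Subtype.ext (commutatorElement_inv _ _).symm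
    have hb10 : ∀ c : H, β 1 c = 1 := fun c => by
      have := hb1 1 1 c
      rw [mul_one] at this
      exact mul_eq_left.1 this.symm
    -- the radical is `H₀`
    let Rd : Subgroup L :=
      { carrier := {a | ∃ ha : a ∈ H, ∀ b : H, β ⟨a, ha⟩ b = 1}
        one_mem' := ⟨H.one_mem, fun b => hb10 b⟩
        mul_mem' := by
          rintro a b ⟨ha, ha'⟩ ⟨hb, hb'⟩
          refine ⟨H.mul_mem ha hb, fun c => ?_⟩
          rw [show (⟨a * b, H.mul_mem ha hb⟩ : H) = ⟨a, ha⟩ * ⟨b, hb⟩ from rfl, hb1, ha' c, hb' c,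
            one_mul]
        inv_mem' := by
          rintro a ⟨ha, ha'⟩
          refine ⟨H.inv_mem ha, fun c => ?_⟩
          have := hb1 ⟨a⁻¹, H.inv_mem ha⟩ ⟨a, ha⟩ c
          rw [show (⟨a⁻¹, H.inv_mem ha⟩ : H) * ⟨a, ha⟩ = 1 from Subtype.ext (inv_mul_cancel a), hb10,
            ha' c, mul_one] at this
          exact this.symm }
    have hRd₀ : H₀ ≤ Rd := fun a ha => ⟨hc.le ha, fun b => by
      have : cm ⟨a, hc.le ha⟩ b = 1 :=
        Subtype.ext (commutatorElement_eq_one_iff_mul_comm.2 (hcentral a ha b b.2))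
      simp only [β, this, map_one]⟩
    have hRdU : U ≤ Subgroup.normalizer (Rd : Set L) := by
      intro v hv
      have hinv : ∀ v ∈ U, ∀ a ∈ Rd, v * a * v⁻¹ ∈ Rd := by
        rintro v hv a ⟨ha, ha'⟩
        refine ⟨hG.H_normal.conj_mem a ha v, fun b => ?_⟩
        have hb' : v⁻¹ * (b : L) * v ∈ H := by simpa using hG.H_normal.conj_mem _ b.2 v⁻¹
        have h1 : cm ⟨v * a * v⁻¹, hG.H_normal.conj_mem a ha v⟩ b = cm ⟨a, ha⟩ ⟨_, hb'⟩ := by
          apply Subtype.ext
          show ⁅v * a * v⁻¹, (b : L)⁆ = ⁅a, v⁻¹ * (b : L) * v⁆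
          have := hUH₀ v hv _ (hDle (Subgroup.commutator_mem_commutator ha hb'))
          calc ⁅v * a * v⁻¹, (b : L)⁆ = v * ⁅a, v⁻¹ * (b : L) * v⁆ * v⁻¹ := by
                simp only [commutatorElement_def]; group
            _ = _ := by rw [this, mul_inv_cancel_right]
        simp only [β, h1]
        exact ha' ⟨_, hb'⟩
      rw [Subgroup.mem_normalizer_iff]
      exact fun a => ⟨hinv v hv a, fun h => by
        simpa [mul_assoc] using hinv v⁻¹ (U.inv_mem hv) _ h⟩
    have hz : ∀ z : H, (z : L) ∈ H₀ → ∀ c, β z c = 1 ∧ β c z = 1 := by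
      intro z hz c
      obtain ⟨h, h'⟩ := hRd₀ hz
      exact ⟨h' c, by rw [hbsw]; rw [show z = ⟨(z : L), h⟩ from rfl, h', inv_one]⟩
    have hcases : Rd = H₀ ∨ Rd = H := by
      rcases hc.dichotomy hG hU hUH with hirr | ⟨a, ha, hline, hgen⟩
      · exact hirr Rd hRd₀ (fun a ha => ha.1) hRdU
      refine Or.inr (le_antisymm (fun a ha => ha.1) ?_)
      rw [← hgen]
      refine sup_le hRd₀ ((Subgroup.closure_le Rd).2 ?_)
      rintro _ ⟨w, hw, rfl⟩
      have haw : ∀ w : L, w * a * w⁻¹ ∈ H := fun w => hG.H_normal.conj_mem a ha w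
      refine ⟨haw w, fun b => ?_⟩
      let Br : H →* D ⧸ N := MonoidHom.mk' (fun c => β ⟨w * a * w⁻¹, haw w⟩ c) (hb2 _)
      suffices hall : ∀ w' ∈ W₁, Br ⟨w' * a * w'⁻¹, haw w'⟩ = 1 by
        have hle : H ≤ Br.ker.map H.subtype := by
          conv_lhs => rw [← hgen]
          refine sup_le (fun z hz' => ⟨⟨z, hc.le hz'⟩, (hz ⟨z, hc.le hz'⟩ hz' _).2, rfl⟩)
            ((Subgroup.closure_le _).2 ?_)
          rintro _ ⟨w', hw', rfl⟩
          exact ⟨⟨_, haw w'⟩, hall w' hw', rfl⟩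
        obtain ⟨y, hy, he⟩ := hle b.2
        rw [← Subtype.ext he]
        exact hy
      intro w' hw'
      by_contra hne1
      set b₀ := β ⟨w * a * w⁻¹, haw w⟩ ⟨w' * a * w'⁻¹, haw w'⟩ with hb₀
      replace hne1 : b₀ ≠ 1 := hne1
      have ha0 := hc.not_mem_of_gen hG.hp.one_lt hG.hq.ne_zero hgen
      obtain ⟨k, hk1, hk, hkm⟩ := hc.exists_lineChar ha ha0 hline
      have hpow1 : ∀ (x : H) (n : ℕ) (y : H), β (x ^ n) y = β x y ^ n := fun x n y =>
        map_pow (MonoidHom.mk' (fun c => β c y) fun u v => hb1 u v y) x n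
      have hpow2 : ∀ (x : H) (n : ℕ) (y : H), β y (x ^ n) = β y x ^ n := fun x n y =>
        map_pow (MonoidHom.mk' (fun c => β y c) (hb2 y)) x n
      have hord : orderOf b₀ = p := by
        refine orderOf_eq_prime ?_ hne1
        rw [hb₀, ← hpow1]
        exact (hz _ (by
          show ((⟨w * a * w⁻¹, haw w⟩ : H) ^ p : H).1 ∈ H₀
          rw [SubmonoidClass.coe_pow]
          exact hc.pow _ (haw w)) _).1
      -- the exponent by which `v` moves a conjugate of `a`
      have hmove : ∀ z ∈ W₁, ∀ v ∈ U, ∀ c : H, (c : L) = v * (z * a * z⁻¹) * v⁻¹ →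
          ∀ y : H, β c y = β ⟨z * a * z⁻¹, haw z⟩ y ^ (k (z⁻¹ * v * z)).val ∧
            β y c = β y ⟨z * a * z⁻¹, haw z⟩ ^ (k (z⁻¹ * v * z)).val := by
        intro z hzW v hv c hcv y
        have hv' : z⁻¹ * v * z ∈ U := by
          have := (Subgroup.mem_normalizer_iff.1 (inv_mem (hG.U_norm hzW)) v).1 hv
          rwa [inv_inv] at this
        set n := (k (z⁻¹ * v * z)).val
        have hd : (((⟨z * a * z⁻¹, haw z⟩ : H) ^ n)⁻¹ * c : L) ∈ H₀ := by
          have h1 := hc.normal.conj_mem (z⁻¹ * v * z * a * (z⁻¹ * v * z)⁻¹ * (a ^ n)⁻¹) (hk _ hv')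
            (z * (a ^ n)⁻¹)
          simp only [InvMemClass.coe_inv, SubmonoidClass.coe_pow, conj_pow, hcv]
          convert h1 using 1
          group
        set d : H := ((⟨z * a * z⁻¹, haw z⟩ : H) ^ n)⁻¹ * c with hddef
        have e : c = (⟨z * a * z⁻¹, haw z⟩ : H) ^ n * d := by rw [hddef]; group
        have hd' : (d : L) ∈ H₀ := by
          rw [hddef, Subgroup.coe_mul, InvMemClass.coe_inv]; exact hd
        constructor
        · rw [e, hb1, (hz d hd' y).1, mul_one, hpow1]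
        · rw [e, hb2, (hz d hd' y).2, mul_one, hpow2]
      have hrel : ∀ v ∈ U, k (w⁻¹ * v * w) * k (w'⁻¹ * v * w') = 1 := by
        intro v hv
        have hcH : ∀ z : L, v * (z * a * z⁻¹) * v⁻¹ ∈ H := fun z =>
          hG.H_normal.conj_mem _ (haw z) v
        have hinv : β ⟨_, hcH w⟩ ⟨_, hcH w'⟩ = b₀ := by
          rw [hb₀]
          simp only [β]
          congr 1
          apply Subtype.ext
          show ⁅v * (w * a * w⁻¹) * v⁻¹, v * (w' * a * w'⁻¹) * v⁻¹⁆ = ⁅w * a * w⁻¹, w' * a * w'⁻¹⁆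
          set x := w * a * w⁻¹
          set y := w' * a * w'⁻¹
          have := hUH₀ v hv _ (hDle (Subgroup.commutator_mem_commutator (haw w) (haw w')))
          calc ⁅v * x * v⁻¹, v * y * v⁻¹⁆ = v * ⁅x, y⁆ * v⁻¹ := by
                simp only [commutatorElement_def]; group
            _ = _ := by rw [this, mul_inv_cancel_right]
        rw [(hmove w hw v hv _ rfl _).1, (hmove w' hw' v hv _ rfl _).2, ← hb₀, ← pow_mul] at hinv
        conv_rhs at hinv => rw [← pow_one b₀]
        rw [pow_eq_pow_iff_modEq, hord, ← ZMod.natCast_eq_natCast_iff] at hinv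
        rw [mul_comm]
        simpa using hinv
      set z := w⁻¹ * w' with hzdef
      have hzW : z ∈ W₁ := W₁.mul_mem (W₁.inv_mem hw) hw'
      have hWU : ∀ z ∈ W₁, ∀ v ∈ U, z⁻¹ * v * z ∈ U := by
        intro z hzW v hv
        have := (Subgroup.mem_normalizer_iff.1 (inv_mem (hG.U_norm hzW)) v).1 hv
        rwa [inv_inv] at this
      refine ha0 (hc.fixed_trivial hG hU hUH a ha fun v hv => ?_)
      let f : ℕ → ZMod p := fun n => k ((z ^ n)⁻¹ * v * z ^ n)
      have hf : ∀ n, f n * f (n + 1) = 1 := by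
        intro n
        have h1 := hrel (w * ((z ^ n)⁻¹ * v * z ^ n) * w⁻¹)
          ((Subgroup.mem_normalizer_iff.1 (hG.U_norm hw) _).1 (hWU _ (W₁.pow_mem hzW n) v hv))
        have e : w' = w * z := by rw [hzdef]; group
        rw [e] at h1
        show k _ * k _ = 1
        rw [pow_succ]
        convert h1 using 3 <;> group
      have hf2 : ∀ n, f (n + 2) = f n := fun n => by
        calc f (n + 2) = f n * f (n + 1) * f (n + 2) := by rw [hf n, one_mul]
          _ = f n * (f (n + 1) * f (n + 1 + 1)) := mul_assoc _ _ _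
          _ = f n := by rw [hf (n + 1), mul_one]
      have heven : ∀ m, f (2 * m) = f 0 := by
        intro m
        induction m with
        | zero => rfl
        | succ m ih => rw [show 2 * (m + 1) = 2 * m + 2 by ring, hf2, ih]
      have hzq : z ^ q = 1 := by
        have := pow_card_eq_one' (x := (⟨z, hzW⟩ : W₁))
        rw [hG.card_W₁] at this
        exact congrArg Subtype.val this
      obtain ⟨m, hm⟩ := hG.q_odd
      have h10 : f 1 = f 0 := by
        rw [← heven (m + 1), show 2 * (m + 1) = q + 1 by omega]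
        simp only [f]
        rw [pow_add, hzq, one_mul]
      have hsq : k v * k v = 1 := by
        have := hf 0
        rw [h10] at this
        simpa [f] using this
      have hkpow : ∀ j : ℕ, k (v ^ j) = k v ^ j := fun j => by
        induction j with
        | zero => simp [hk1]
        | succ j ih => rw [pow_succ, hkm _ (U.pow_mem hv j) v hv, ih, pow_succ]
      obtain ⟨o, ho⟩ := hG.odd_of_dvd (orderOf_dvd_natCard v)
      have hone : k v = 1 := by
        have := hkpow (orderOf v)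
        rw [pow_orderOf_eq_one, hk1, ho, pow_succ, pow_mul, pow_two, hsq, one_pow, one_mul] at this
        exact this.symm
      have h2 := hk v hv
      rwa [hone, ZMod.val_one, pow_one] at h2
    rcases hcases with hRd | hRd
    · -- nondegenerate pairing on `H / H₀`
      haveI : (H₀.subgroupOf H).Normal := Subgroup.normal_subgroupOf
      have hwell : ∀ a a' b b' : H, (a : H ⧸ H₀.subgroupOf H) = a' →
          (b : H ⧸ H₀.subgroupOf H) = b' → β a b = β a' b' := by
        intro a a' b b' ha hb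
        rw [QuotientGroup.eq] at ha hb
        have e1 := hb1 a (a⁻¹ * a') b'
        have e2 := hb2 a b (b⁻¹ * b')
        rw [mul_inv_cancel_left, (hz _ (Subgroup.mem_subgroupOf.1 ha) b').1, mul_one] at e1
        rw [mul_inv_cancel_left, (hz _ (Subgroup.mem_subgroupOf.1 hb) a).2, mul_one] at e2
        rw [e1, e2]
      let β' : H ⧸ H₀.subgroupOf H → H ⧸ H₀.subgroupOf H → D ⧸ N := fun a b => β a.out b.out
      have hβ' : ∀ a b : H, β' a b = β a b := fun a b =>
        hwell _ _ _ _ (QuotientGroup.out_eq' _) (QuotientGroup.out_eq' _)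
      obtain ⟨m, hm⟩ := exists_sq_of_pairing (Nat.card (D ⧸ N)) rfl _ (H ⧸ H₀.subgroupOf H) rfl β'
        (fun a b c => by
          induction a using QuotientGroup.induction_on with | H a => ?_
          induction b using QuotientGroup.induction_on with | H b => ?_
          induction c using QuotientGroup.induction_on with | H c => ?_
          rw [← QuotientGroup.mk_mul, hβ', hβ', hβ', hb1])
        (fun a b c => by
          induction a using QuotientGroup.induction_on with | H a => ?_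
          induction b using QuotientGroup.induction_on with | H b => ?_
          induction c using QuotientGroup.induction_on with | H c => ?_
          rw [← QuotientGroup.mk_mul, hβ', hβ', hβ', hb2])
        (fun a => by
          induction a using QuotientGroup.induction_on with | H a => ?_
          rw [hβ']; simp only [β, hcalt, map_one])
        (fun a ha => by
          induction a using QuotientGroup.induction_on with | H a => ?_
          have : (a : L) ∈ Rd := ⟨a.2, fun b => (hβ' a b).symm.trans (ha b)⟩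
          rw [hRd] at this
          exact (QuotientGroup.eq_one_iff a).2 this)
      have hcard : Nat.card (H ⧸ H₀.subgroupOf H) = p ^ q := hc.card_eq
      rw [hcard] at hm
      have h1 : (p ^ q).factorization p = q := by
        rw [hG.hp.factorization_pow, Finsupp.single_eq_same]
      rw [hm, Nat.factorization_pow] at h1
      have h2 : 2 * m.factorization p = q := by simpa using h1
      obtain ⟨k, hk⟩ := hG.q_odd
      omega
    · -- all commutators lie in `N`
      have hall : ∀ d : D, d ∈ N := by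
        have hle : D ≤ N.map D.subtype := by
          refine hD.le.trans (Subgroup.commutator_le.2 ?_)
          intro a ha b hb
          have h0 : a ∈ Rd := by rw [hRd]; exact ha
          obtain ⟨_, h'⟩ := h0
          exact ⟨cm ⟨a, ha⟩ ⟨b, hb⟩, (QuotientGroup.eq_one_iff _).1 (h' ⟨b, hb⟩), rfl⟩
        intro d
        obtain ⟨d', hd', he⟩ := hle d.2
        rwa [← Subtype.ext he]
      exact hN.1 (eq_top_iff.2 fun d _ => hall d)
  -- `H₀ = 1`
  have hH₀ : H₀ = ⊥ := by
    haveI : IsMulCommutative H := ⟨⟨fun x y => Subtype.ext (habel x x.2 y y.2)⟩⟩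
    have h := Coprime.commutator_inf_centralizer_eq_bot U H
      (by rw [Subgroup.normalizer_eq_top]; exact le_top)
      (hG.coprime_compl.symm.coprime_dvd_left (Subgroup.card_dvd_of_le le_sup_left))
    rw [hHU] at h
    exact le_bot_iff.1 (h ▸ fun a ha => ⟨hc.le ha,
      Subgroup.mem_centralizer_iff.2 fun v hv => hUH₀ v hv a ha⟩)
  refine ⟨⟨hH₀ ▸ hc, hUH, hCeq⟩, fun A _ hAK hA => bound hG hS hc hU hCU hncB A hAK hA⟩

end Cfsg.Agent.OddLocal44.PF11
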