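import Cfsg.Agent.OddChar.PrimeTIK
import Cfsg.Agent.PF.PrimeDade
import Cfsg.Agent.S1500
import Cfsg.Agent.S1501
import Cfsg.Agent.Coherence.Irr

set_option autoImplicit false

/-!
The Dade map and the family `η` in the situation of Peterfalvi (11.8): the combinations used there
vanish at the identity and on `W₁`.
-/

namespace Cfsg.Agent.OddLocal44.PF11

open Cfsg Cfsg.Agent OddChar OddChar.CycTI
open scoped ComplexConjugate

section Eta

variable {G : Type*} [Group G] [Fintype G] {L : Subgroup G} [Fintype L] {W₁ W₂ : Subgroup L}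
  {η : (↥(W₁ ⊔ W₂) →* ℂˣ) → G → ℂ}

/-- Outside both factors. -/
def InV (W₁ W₂ : Subgroup L) (w : ↥(W₁ ⊔ W₂)) : Prop := (w : L) ∉ W₁ ∧ (w : L) ∉ W₂

/-- The duals of both factors have at least three elements. -/
def BigDuals (W₁ W₂ : Subgroup L) : Prop :=
  3 ≤ Nat.card ↥(D1 W₁ W₂) ∧ 3 ≤ Nat.card ↥(D2 W₁ W₂)

theorem eta_sparse (E : PF.Eta L W₁ W₂ η) (hs : Split W₁ W₂) (hb : BigDuals W₁ W₂)
    {θ : G → ℂ} (hθ : IsClassFunction G θ)
    (hV : ∀ w, InV W₁ W₂ w → θ ((w : L) : G) = 0) (p₁ p₂ : ↥(W₁ ⊔ W₂) →* ℂˣ)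
    (hp : ∀ ω, ω ≠ p₁ → ω ≠ p₂ → classInner θ (η ω) = 0) (ω : ↥(W₁ ⊔ W₂) →* ℂˣ) :
    classInner θ (η ω) = 0 := by
  classical
  haveI := hs.finite_dual
  haveI : Fintype ↥(D1 W₁ W₂) := Fintype.ofFinite _
  haveI : Fintype ↥(D2 W₁ W₂) := Fintype.ofFinite _
  have hadd := fun φ (hφ : φ ∈ D1 W₁ W₂) ψ (hψ : ψ ∈ D2 W₁ W₂) =>
    E.additive θ hθ (fun w a b => hV w ⟨a, b⟩) φ hφ ψ hψ
  obtain ⟨a₁, ha₁, b₁, hb₁, he₁⟩ := exists_factor W₁ W₂ hs.disj hs.comm p₁
  obtain ⟨a₂, ha₂, b₂, hb₂, he₂⟩ := exists_factor W₁ W₂ hs.disj hs.comm p₂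
  obtain ⟨φ, hφ, ψ, hψ, rfl⟩ := exists_factor W₁ W₂ hs.disj hs.comm ω
  have key := additive_sparse (X := ↥(D1 W₁ W₂)) (Y := ↥(D2 W₁ W₂))
    (by rw [← Nat.card_eq_fintype_card]; exact hb.1) (by rw [← Nat.card_eq_fintype_card]; exact hb.2)
    (fun φ => classInner θ (η φ.1)) (fun ψ => classInner θ (η ψ.1) - classInner θ (η 1))
    (⟨a₁, ha₁⟩, ⟨b₁, hb₁⟩) (⟨a₂, ha₂⟩, ⟨b₂, hb₂⟩)
    (fun φ ψ hne hne' => by
      have h1 : φ.1 * ψ.1 ≠ p₁ := fun e => hne (by
        obtain ⟨u, v⟩ := mul_inj W₁ W₂ φ.2 ha₁ ψ.2 hb₁ (e.trans he₁.symm)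
        exact Prod.ext (Subtype.ext u) (Subtype.ext v))
      have h2 : φ.1 * ψ.1 ≠ p₂ := fun e => hne' (by
        obtain ⟨u, v⟩ := mul_inj W₁ W₂ φ.2 ha₂ ψ.2 hb₂ (e.trans he₂.symm)
        exact Prod.ext (Subtype.ext u) (Subtype.ext v))
      have e := hadd φ.1 φ.2 ψ.1 ψ.2
      rw [hp _ h1 h2] at e
      linear_combination -e) ⟨φ, hφ⟩ ⟨ψ, hψ⟩
  rw [hadd φ hφ ψ hψ]
  linear_combination key

/-- A signed irreducible character with the values of `η ω` outside both factors is `η ω`. -/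
theorem eta_unique (E : PF.Eta L W₁ W₂ η) (hs : Split W₁ W₂) (hb : BigDuals W₁ W₂)
    {α : G → ℂ} (hα : IsSignedIrr α) (ω : ↥(W₁ ⊔ W₂) →* ℂˣ)
    (hV : ∀ w, InV W₁ W₂ w → α ((w : L) : G) = (ω w : ℂ)) : α = η ω := by
  obtain ⟨p, hp⟩ := E.exists_point hα
  have hcl : IsClassFunction G (α - η ω) := fun a b => by
    simp only [Pi.sub_apply, E.isClassFun ω a b,
      CharCore.IsGeneralizedCharacter.isClassFunction (IsSignedIrr.isGeneralizedCharacter hα) a b]
  have h := eta_sparse E hs hb hcl (fun w hw => by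
      rw [Pi.sub_apply, hV w hw, E.eq_on ω w hw.1 hw.2, sub_self]) p ω
    (fun x h1 h2 => by rw [CharCore.classInner_sub_left, hp x h1, E.orth ω x h2.symm, sub_zero]) ω
  rw [CharCore.classInner_sub_left, E.self] at h
  exact signed_eq_of_inner_eq_one hα (E.signed ω) (sub_eq_zero.1 h)

omit [Fintype G] in
theorem isSignedIrr_conjFun [Finite G] {α : G → ℂ} (h : IsSignedIrr α) :
    IsSignedIrr (conjFun α) := by
  rcases h with h | h
  · exact Or.inl (CharCore.isIrrCharacter_star h)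
  · refine Or.inr ?_
    have := CharCore.isIrrCharacter_star h
    simpa [conjFun, Pi.neg_def] using this

theorem eta_conj (E : PF.Eta L W₁ W₂ η) (hs : Split W₁ W₂) (hb : BigDuals W₁ W₂)
    (ω : ↥(W₁ ⊔ W₂) →* ℂˣ) : conjFun (η ω) = η ω⁻¹ := by
  refine eta_unique E hs hb (isSignedIrr_conjFun (E.signed ω)) _ fun w hw => ?_
  rw [conjFun, E.eq_on ω w hw.1 hw.2, conj_hom_apply, map_inv, MonoidHom.inv_apply]

/-- An orthonormal family of virtual characters whose differences vanish outside both factors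
is orthogonal to every `η ω`, and hence vanishes there. -/
theorem eta_orth_of_diff (E : PF.Eta L W₁ W₂ η) (hs : Split W₁ W₂) (hb : BigDuals W₁ W₂)
    {ι : Type*} [DecidableEq ι] [Nontrivial ι] (g : ι → G → ℂ)
    (hgen : ∀ a, IsGeneralizedCharacter G (g a))
    (hg : ∀ a b, classInner (g a) (g b) = if a = b then 1 else 0)
    (hd : ∀ a b, ∀ w, InV W₁ W₂ w → g a ((w : L) : G) - g b ((w : L) : G) = 0) :
    (∀ a ω, classInner (g a) (η ω) = 0) ∧
      ∀ a, ∀ w, InV W₁ W₂ w → g a ((w : L) : G) = 0 := by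
  have hsig : ∀ a, IsSignedIrr (g a) := fun a =>
    Coherence.gen_norm_one (hgen a) (by rw [hg, if_pos rfl])
  have h1 : ∀ a ω, classInner (g a) (η ω) = 0 := by
    intro a ω
    obtain ⟨b, hb'⟩ := exists_ne a
    obtain ⟨p, hp⟩ := E.exists_point (hsig a)
    obtain ⟨r, hr⟩ := E.exists_point (hsig b)
    have hz := eta_sparse E hs hb
      (CharCore.IsGeneralizedCharacter.isClassFunction (Coherence.gen_sub (hgen a) (hgen b)))
      (fun w hw => hd a b w hw) p r
      (fun x u v => by rw [CharCore.classInner_sub_left, hp x u, hr x v, sub_zero]) ω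
    rw [CharCore.classInner_sub_left, sub_eq_zero] at hz
    have hab := hg a b
    rw [if_neg hb'.symm] at hab
    have hna : classInner (g a) (g a) = 1 := by rw [hg, if_pos rfl]
    have hnb : classInner (g b) (g b) = 1 := by rw [hg, if_pos rfl]
    rcases signed_eq_or_inner (hsig a) (E.signed ω) with e | e | e
    · rcases signed_eq_or_inner (hsig b) (E.signed ω) with e' | e' | e'
      · rw [e', ← e, hna] at hab; simp at hab
      · rw [e', ← e, CharCore.classInner_neg_right, hna] at hab; simp at hab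
      · rw [hz, e']
    · rcases signed_eq_or_inner (hsig b) (E.signed ω) with e' | e' | e'
      · rw [e, e', CharCore.classInner_neg_left, E.self] at hab; simp at hab
      · rw [e, e', CharCore.classInner_neg_left, CharCore.classInner_neg_right, E.self] at hab
        simp at hab
      · rw [hz, e']
    · exact e
  exact ⟨h1, fun a w hw => E.vanish _
    (CharCore.IsGeneralizedCharacter.isClassFunction (hgen a)) (h1 a) w hw.1 hw.2⟩

end Eta

section Dade

variable {G : Type*} [Group G]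

/-- The hypotheses on `(A₀, L, R)` and `W = W₁ × W₂` used in (11.8). -/
structure Setup (A₀ : Set G) (L : Subgroup G) (R : G → Subgroup G) (K W₁ W₂ : Subgroup L) :
    Prop where
  pti : PrimeTI.Hyp K W₁ W₂
  cyc : IsSelfNormalizingCyclic (W₁.map L.subtype) (W₂.map L.subtype)
  dade : DadeHypothesis A₀ L R
  onK : ∀ x ∈ K, x ≠ 1 → (x : G) ∈ A₀
  onV : ∀ w : ↥(W₁ ⊔ W₂), (w : L) ∉ W₁ → (w : L) ∉ W₂ → ((w : L) : G) ∈ A₀

/-- Virtual characters vanishing at `1` and on `W₁`. -/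
def Supp {L : Type*} [Group L] (W₁ : Subgroup L) (f : L → ℂ) : Prop :=
  IsGeneralizedCharacter L f ∧ f 1 = 0 ∧ ∀ w ∈ W₁, w ≠ 1 → f w = 0

variable {A₀ : Set G} {L : Subgroup G} {R : G → Subgroup G} {K W₁ W₂ : Subgroup L}

theorem Supp.gen {f : L → ℂ} (hf : Supp W₁ f) : IsGeneralizedCharacter L f := hf.1

theorem Supp.cl [Fintype L] {f : L → ℂ} (hf : Supp W₁ f) : IsClassFunction L f :=
  CharCore.IsGeneralizedCharacter.isClassFunction hf.1

theorem tau_add (α β : L → ℂ) :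
    dadeIsometry A₀ L R (α + β) = dadeIsometry A₀ L R α + dadeIsometry A₀ L R β := by
  funext g
  simp only [dadeIsometry, Pi.add_apply]
  split_ifs <;> simp

theorem tau_sub (α β : L → ℂ) :
    dadeIsometry A₀ L R (α - β) = dadeIsometry A₀ L R α - dadeIsometry A₀ L R β := by
  funext g
  simp only [dadeIsometry, Pi.sub_apply]
  split_ifs <;> simp

theorem tau_smul (c : ℂ) (α : L → ℂ) :
    dadeIsometry A₀ L R (c • α) = c • dadeIsometry A₀ L R α := by
  funext g
  simp only [dadeIsometry, Pi.smul_apply]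
  split_ifs <;> simp

theorem tau_sum {ι : Type*} (s : Finset ι) (f : ι → L → ℂ) :
    dadeIsometry A₀ L R (∑ i ∈ s, f i) = ∑ i ∈ s, dadeIsometry A₀ L R (f i) := by
  funext g
  simp only [dadeIsometry, Finset.sum_apply]
  split_ifs <;> simp

theorem tau_conj (α : L → ℂ) :
    dadeIsometry A₀ L R (conjFun α) = conjFun (dadeIsometry A₀ L R α) := by
  funext g
  simp only [dadeIsometry, conjFun]
  split_ifs <;> simp

theorem Setup.centralizer_le (S : Setup A₀ L R K W₁ W₂) {w : ↥(W₁ ⊔ W₂)} (h1 : (w : L) ∉ W₁)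
    (h2 : (w : L) ∉ W₂) : Subgroup.centralizer ({((w : L) : G)} : Set G) ≤ L := by
  obtain ⟨-, -, -, -, -, hN⟩ := S.cyc
  have hsub : ({((w : L) : G)} : Set G) ⊆
      (↑(W₁.map L.subtype ⊔ W₂.map L.subtype) : Set G) \
        (↑(W₁.map L.subtype) ∪ ↑(W₂.map L.subtype)) := by
    intro x hx
    rw [Set.mem_singleton_iff] at hx
    subst hx
    refine ⟨?_, ?_⟩
    · rw [← Subgroup.map_sup]; exact ⟨w, w.2, rfl⟩
    · rintro (h | h)
      · exact h1 (PF.mem_up.1 h)
      · exact h2 (PF.mem_up.1 h)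
  intro c hc
  have hc' : c ∈ Subgroup.normalizer ({((w : L) : G)} : Set G) := by
    rw [Subgroup.mem_centralizer_singleton_iff] at hc
    rw [Subgroup.mem_set_normalizer_iff]
    intro x
    simp only [Set.mem_singleton_iff]
    refine ⟨fun h => by rw [h, hc]; group, fun h => ?_⟩
    have : c * x * c⁻¹ = c * ((w : L) : G) * c⁻¹ := by rw [h, hc]; group
    simpa using this
  rw [hN _ hsub (Set.singleton_nonempty _), ← Subgroup.map_sup] at hc'
  obtain ⟨d, -, rfl⟩ := hc'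
  exact d.2

variable [Fintype G] [Fintype L]

/-- Off `K` a supported function lives on the conjugates of the elements outside both factors. -/
theorem Setup.exists_V (S : Setup A₀ L R K W₁ W₂) {f : L → ℂ} (hf : Supp W₁ f) {x : L}
    (hx : x ∉ K) (hne : f x ≠ 0) :
    ∃ y : L, ∃ w : ↥(W₁ ⊔ W₂), (w : L) ∉ W₁ ∧ (w : L) ∉ W₂ ∧ x = y⁻¹ * w * y := by
  obtain ⟨y, w, hw, rfl⟩ := S.pti.exists_conj hx
  refine ⟨y, w, fun h1 => hne ?_, hw, rfl⟩
  have := hf.cl (w : L) y⁻¹
  rw [inv_inv] at this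
  rw [this]
  exact hf.2.2 _ h1 fun e => hw (by rw [e]; exact W₂.one_mem)

theorem Setup.supp (S : Setup A₀ L R K W₁ W₂) {f : L → ℂ} (hf : Supp W₁ f) (x : L)
    (hx : (x : G) ∉ A₀) : f x = 0 := by
  by_contra hne
  by_cases hK : x ∈ K
  · exact hx (S.onK x hK fun e => hne (by rw [e]; exact hf.2.1))
  · obtain ⟨y, w, h1, h2, rfl⟩ := S.exists_V hf hK hne
    refine hx ?_
    have := S.dade.conj_mem ((y⁻¹ : L) : G) (y⁻¹).2 _ (S.onV w h1 h2)
    simpa using this

theorem Setup.inner (S : Setup A₀ L R K W₁ W₂) {f g : L → ℂ} (hf : Supp W₁ f) (hg : Supp W₁ g) :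
    classInner (dadeIsometry A₀ L R f) (dadeIsometry A₀ L R g) = classInner f g :=
  (S1500.result A₀ L R S.dade f hf.cl (S.supp hf)).1 g hg.cl (S.supp hg)

theorem Setup.gen (S : Setup A₀ L R K W₁ W₂) {f : L → ℂ} (hf : Supp W₁ f) :
    IsGeneralizedCharacter G (dadeIsometry A₀ L R f) :=
  S1501.result A₀ L R S.dade f hf.1 (S.supp hf)

theorem Setup.inner_one (S : Setup A₀ L R K W₁ W₂) {f : L → ℂ} (hf : Supp W₁ f) :
    classInner (dadeIsometry A₀ L R f) (fun _ => (1 : ℂ)) = classInner f (fun _ => (1 : ℂ)) := by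
  refine (S1500.result A₀ L R S.dade f hf.cl (S.supp hf)).2 _ _ (fun _ _ => rfl) fun a _ => ?_
  rw [finsum_mem_eq_finite_toFinset_sum _ (Set.toFinite _), Finset.sum_const, nsmul_eq_mul,
    mul_one, ← Set.ncard_eq_toFinset_card]
  exact (inv_mul_cancel₀ (Nat.cast_ne_zero.2 (Nat.card_pos (α := R (a : G))).ne')).symm

theorem Setup.apply_V (S : Setup A₀ L R K W₁ W₂) {f : L → ℂ} (hf : Supp W₁ f) {w : ↥(W₁ ⊔ W₂)}
    (h1 : (w : L) ∉ W₁) (h2 : (w : L) ∉ W₂) : dadeIsometry A₀ L R f ((w : L) : G) = f w :=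
  dadeIsometry_apply S.dade hf.cl (a := (w : L)) (S.onV w h1 h2) (u := 1) (Subgroup.one_mem _)
    (x := 1) (by simp)

/-- The image of a function vanishing on `K` is orthogonal to what vanishes outside both
factors. -/
theorem Setup.orth_V (S : Setup A₀ L R K W₁ W₂) {f : L → ℂ} (hf : Supp W₁ f)
    (hfK : ∀ x ∈ K, f x = 0) {θ : G → ℂ} (hθ : IsClassFunction G θ)
    (hV : ∀ w : ↥(W₁ ⊔ W₂), (w : L) ∉ W₁ → (w : L) ∉ W₂ → θ ((w : L) : G) = 0) :
    classInner (dadeIsometry A₀ L R f) θ = 0 := by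
  rw [(S1500.result A₀ L R S.dade f hf.cl (S.supp hf)).2 θ
    (fun a => (Nat.card (R (a : G)) : ℂ)⁻¹ * ∑ᶠ u ∈ (R (a : G) : Set G), θ ((a : G) * u)) hθ
    (fun a _ => rfl), CharCore.classInner_def, Finset.sum_eq_zero, mul_zero]
  intro x _
  by_cases hne : f x = 0
  · rw [hne, zero_mul]
  have hxK : x ∉ K := fun h => hne (hfK x h)
  have hxA : (x : G) ∈ A₀ := by by_contra h; exact hne (S.supp hf x h)
  obtain ⟨y, w, h1, h2, he⟩ := S.exists_V hf hxK hne
  have hxG : (x : G) = (y : G)⁻¹ * ((w : L) : G) * y := by rw [he]; simp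
  have hR : R (x : G) = ⊥ := by
    have hcl : Subgroup.centralizer ({(x : G)} : Set G) ≤ L := by
      intro c hc
      rw [Subgroup.mem_centralizer_singleton_iff, hxG] at hc
      have hd : (y : G) * c * (y : G)⁻¹ ∈ L := S.centralizer_le h1 h2 (by
        rw [Subgroup.mem_centralizer_singleton_iff]
        calc (y : G) * c * (y : G)⁻¹ * ((w : L) : G)
            = (y : G) * (c * ((y : G)⁻¹ * ((w : L) : G) * y)) * (y : G)⁻¹ := by group
          _ = ((w : L) : G) * ((y : G) * c * (y : G)⁻¹) := by rw [hc]; group)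
      have := L.mul_mem (L.mul_mem (L.inv_mem y.2) hd) y.2
      simpa [mul_assoc] using this
    rw [eq_bot_iff]
    intro r hr
    have hrC := S.dade.le_centralizer _ hxA hr
    rw [← S.dade.inf_eq_bot _ hxA]
    exact ⟨hr, hcl hrC, hrC⟩
  have hθx : θ (x : G) = 0 := by
    rw [hxG]
    have := hθ ((w : L) : G) (y : G)⁻¹
    rw [inv_inv] at this
    rw [this]
    exact hV w h1 h2
  simp only [hR, Subgroup.coe_bot, finsum_mem_singleton, mul_one, hθx, mul_zero, map_zero]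

end Dade

end Cfsg.Agent.OddLocal44.PF11
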