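import Cfsg.Agent.OddLocal44.PF11.Structure
import Cfsg.Agent.OddChar.PrimeTIK
import Cfsg.Agent.Coherence.SeqInd
import Cfsg.Agent.Lib.CharCore.Linear
import Cfsg.Agent.Lib.Coprime.Abelian

set_option autoImplicit false

/-!
The irreducible characters of `K = HU` trivial on `C = U'` once `H` is elementary abelian of order
`p ^ q` (Peterfalvi (11.7), (11.8)).
-/

open scoped commutatorElement

namespace Cfsg.Agent.OddLocal44.PF11

open Cfsg Cfsg.Agent OddChar OddChar.CycTI OddChar.PrimeTI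

/-- An irreducible character trivial on a subgroup containing all commutators is linear. -/
theorem linear_of_commutator {K : Type*} [Group K] [Fintype K] {θ : K → ℂ}
    (hθ : IsIrrCharacter K θ) (B : Subgroup K) (hB : ∀ x y : K, x * y * x⁻¹ * y⁻¹ ∈ B)
    (hker : ∀ b ∈ B, θ b = θ 1) : θ 1 = 1 := by
  obtain ⟨d, hd, hpos⟩ := Coherence.char_one_nat (Coherence.irr_isCharacter hθ)
  have hb := Coherence.degree_bound hθ B ⊤ ⊤ le_rfl (fun x _ y _ => hB x y) hker
  rw [hd, Complex.natCast_re, Subgroup.card_top] at hb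
  have hK : (0 : ℝ) < Nat.card K := by exact_mod_cast Nat.card_pos
  have : (d : ℝ) ^ 2 ≤ 1 := by
    by_contra hlt
    push Not at hlt
    nlinarith [mul_pos hK hK]
  have h1 : 0 < d := hpos fun h0 => Coherence.irr_one_ne_zero hθ (by simp [h0])
  have h2 : (d : ℝ) = 1 := by
    have : (1 : ℝ) ≤ d := by exact_mod_cast h1
    nlinarith
  rw [hd]
  exact_mod_cast h2

/-- A linear character of a normal subgroup with trivial inertia induces irreducibly. -/
theorem ind_hom_irr {X : Type*} [Group X] [Fintype X] (D : Subgroup X) [D.Normal] (f : D →* ℂˣ)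
    (hst : ∀ g : X, conjBy D g (fun d => (f d : ℂ)) = (fun d => (f d : ℂ)) → g ∈ D) :
    IsIrrCharacter X (indFun D fun d => (f d : ℂ)) := by
  classical
  haveI : Fintype D := Fintype.ofFinite _
  have hf := CharCore.isIrrCharacter_hom f
  rw [CharCore.isIrrCharacter_iff]
  refine ⟨CharInd.isCharacter_indFun D (CharCore.IsIrrCharacter.isCharacter hf), ?_⟩
  rw [classInner_indFun_normal]
  have e : ∀ g : X, classInner (fun d => (f d : ℂ)) (conjBy D g fun d => (f d : ℂ)) =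
      if g ∈ D then 1 else 0 := by
    intro g
    split_ifs with hg
    · rw [conjBy_self (CharCore.irr_isClassFunction ⟨_, hf⟩) ⟨g, hg⟩]
      exact CharCore.classInner_irr_self ⟨_, hf⟩
    · exact CharCore.classInner_irr_of_ne (χ := ⟨_, hf⟩) (ψ := ⟨_, conjBy_isIrr D g hf⟩)
        fun e => hg (hst g (congrArg Subtype.val e).symm)
  rw [Finset.sum_congr rfl fun g _ => e g, Finset.sum_boole, ← Fintype.card_subtype,
    ← Nat.card_eq_fintype_card]
  exact inv_mul_cancel₀ (Nat.cast_ne_zero.mpr Nat.card_pos.ne')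

universe u

section Group

variable {L : Type u} [Group L] {K H U W₁ W₂ C : Subgroup L} {p q : ℕ}

/-- Conjugation on `H`. -/
def conjH (hn : H.Normal) (g : L) (a : H) : H := ⟨g * a * g⁻¹, hn.conj_mem a a.2 g⟩

@[simp] theorem conjH_coe (hn : H.Normal) (g : L) (a : H) : ((conjH hn g a : H) : L) = g * a * g⁻¹ :=
  rfl

theorem conjH_mul (hn : H.Normal) (g k : L) (a : H) :
    conjH hn (g * k) a = conjH hn g (conjH hn k a) :=
  Subtype.ext (by simp [mul_assoc])

variable [Finite L]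

theorem Reduced.conjH_of_mem (hr : Reduced H U W₂ C p q) (hn : H.Normal) {g : L} (hg : g ∈ H)
    (a : H) : conjH hn g a = a :=
  Subtype.ext (by rw [conjH_coe, hr.abelian g hg a a.2, mul_inv_cancel_right])

theorem Reduced.C_normal (hr : Reduced H U W₂ C p q) (hG : GroupHyp K H U W₁ W₂ p q) : C.Normal :=
  hr.chief.C_normal hG hr.U_ne

theorem Reduced.central (hr : Reduced H U W₂ C p q) (hG : GroupHyp K H U W₁ W₂ p q) :
    ∀ c ∈ C, ∀ h ∈ H, c * h = h * c := hr.chief.C_centralizes hG hr.U_ne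

theorem Reduced.C_le_K (hr : Reduced H U W₂ C p q) (hG : GroupHyp K H U W₁ W₂ p q) : C ≤ K :=
  hr.chief.C_le.trans hG.U_le

theorem Reduced.C_ne (hr : Reduced H U W₂ C p q) (hG : GroupHyp K H U W₁ W₂ p q) : C ≠ U :=
  hr.chief.C_ne hG hr.U_ne hr.faithful

theorem Reduced.mem_C_of (hr : Reduced H U W₂ C p q) {v : L} (hv : v ∈ U)
    (h : ∀ a ∈ H, v * a = a * v) : v ∈ C :=
  (hr.chief.mem_C v).2 ⟨hv, fun a ha => by rw [h a ha]; simp⟩

theorem Reduced.u_facts (hr : Reduced H U W₂ C p q) (hG : GroupHyp K H U W₁ W₂ p q) :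
    Odd (C.relIndex U) ∧ C.relIndex U ≡ 1 [MOD q] ∧ 2 * q + 1 ≤ C.relIndex U := by
  haveI := hG.H_normal
  haveI := hr.C_normal hG
  have hle : H ⊔ C ≤ K := sup_le hG.H_le (hr.C_le_K hG)
  have hodd : Odd (C.relIndex U) :=
    hG.odd_of_dvd ((Subgroup.index_dvd_card _).trans (Subgroup.card_subgroup_dvd_card _))
  have hmod : C.relIndex U ≡ 1 [MOD q] := relIndex_HC hG hr.chief.C_le ▸
    hG.index_modEq (H ⊔ C) hle (hG.W₂_le.trans le_sup_left) (hG.not_q_dvd _ hle)
  refine ⟨hodd, hmod, ?_⟩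
  obtain ⟨k, hk⟩ := (Nat.modEq_iff_dvd' hodd.pos).1 hmod.symm
  have h2 := C_ne_relIndex hr.chief.C_le (hr.C_ne hG)
  obtain ⟨a, ha⟩ := hG.q_odd
  obtain ⟨b, hb⟩ := hodd
  rcases Nat.lt_or_ge k 2 with hk' | hk'
  · interval_cases k <;> omega
  · have := Nat.mul_le_mul_left q hk'
    omega

theorem exists_decomp (hG : GroupHyp K H U W₁ W₂ p q) (g : K) :
    ∃ a ∈ H, ∃ v ∈ U, (g : L) = a * v := by
  haveI := hG.H_normal
  have hg : (g : L) ∈ H ⊔ U := hG.HU.symm ▸ g.2
  obtain ⟨a, ha, v, hv, e⟩ := Subgroup.mem_sup_of_normal_left.1 hg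
  exact ⟨a, ha, v, hv, e.symm⟩

theorem Reduced.exists_proj (hr : Reduced H U W₂ C p q) (hG : GroupHyp K H U W₁ W₂ p q) :
    ∃ π : ↥((H ⊔ C).subgroupOf K) →* H,
      ∀ (x : ↥((H ⊔ C).subgroupOf K)) (a : H), (a : L)⁻¹ * ((x : K) : L) ∈ C → π x = a := by
  classical
  haveI := hG.H_normal
  have hex : ∀ x : ↥((H ⊔ C).subgroupOf K), ∃ a : H, (a : L)⁻¹ * ((x : K) : L) ∈ C := fun x => by
    obtain ⟨a, ha, c, hc, e⟩ := Subgroup.mem_sup_of_normal_left.1 (Subgroup.mem_subgroupOf.1 x.2)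
    exact ⟨⟨a, ha⟩, by rw [← e, inv_mul_cancel_left]; exact hc⟩
  choose f hf using hex
  have huniq : ∀ (x : ↥((H ⊔ C).subgroupOf K)) (a : H), (a : L)⁻¹ * ((x : K) : L) ∈ C → f x = a := by
    intro x a ha
    exact Subtype.ext (eq_of_mul_eq_mul hG (f x).2 a.2 (hr.chief.C_le (hf x)) (hr.chief.C_le ha)
      (by simp)).1
  refine ⟨MonoidHom.mk' f fun x y => huniq _ _ ?_, huniq⟩
  have hyc : ((f y : H) : L)⁻¹ * ((f x : H) : L)⁻¹ * ((x : K) : L) * (f y : H) =
      ((f x : H) : L)⁻¹ * ((x : K) : L) := by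
    have hc := hr.central hG _ (hf x) _ (f y).2
    calc ((f y : H) : L)⁻¹ * ((f x : H) : L)⁻¹ * ((x : K) : L) * (f y : H)
        = ((f y : H) : L)⁻¹ * (((f x : H) : L)⁻¹ * ((x : K) : L) * (f y : H)) := by group
      _ = _ := by rw [hc]; group
  have := C.mul_mem (hf x) (hf y)
  rw [← hyc] at this
  simp only [Subgroup.coe_mul, mul_inv_rev]
  convert this using 1
  group

/-- The projection of `H ⊔ C` on `H`. -/
noncomputable def projH (hr : Reduced H U W₂ C p q) (hG : GroupHyp K H U W₁ W₂ p q) :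
    ↥((H ⊔ C).subgroupOf K) →* H := (hr.exists_proj hG).choose

theorem projH_eq (hr : Reduced H U W₂ C p q) (hG : GroupHyp K H U W₁ W₂ p q)
    {x : ↥((H ⊔ C).subgroupOf K)} {a : H} (h : (a : L)⁻¹ * ((x : K) : L) ∈ C) :
    projH hr hG x = a := (hr.exists_proj hG).choose_spec x a h

theorem projH_spec (hr : Reduced H U W₂ C p q) (hG : GroupHyp K H U W₁ W₂ p q)
    (x : ↥((H ⊔ C).subgroupOf K)) : ((projH hr hG x : H) : L)⁻¹ * ((x : K) : L) ∈ C := by
  haveI := hG.H_normal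
  obtain ⟨a, ha, c, hc, e⟩ := Subgroup.mem_sup_of_normal_left.1 (Subgroup.mem_subgroupOf.1 x.2)
  have h : ((⟨a, ha⟩ : H) : L)⁻¹ * ((x : K) : L) ∈ C := by rw [← e, inv_mul_cancel_left]; exact hc
  rwa [projH_eq hr hG h]

/-- The extension of a linear character of `H` to `H ⊔ C`, trivial on `C`. -/
noncomputable def extLam (hr : Reduced H U W₂ C p q) (hG : GroupHyp K H U W₁ W₂ p q)
    (lam : H →* ℂˣ) : ↥((H ⊔ C).subgroupOf K) → ℂ := fun x => (lam (projH hr hG x) : ℂ)

theorem extLam_injective (hr : Reduced H U W₂ C p q) (hG : GroupHyp K H U W₁ W₂ p q) :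
    Function.Injective (extLam hr hG) := by
  intro lam lam' e
  refine MonoidHom.ext fun a => Units.ext ?_
  have := congrFun e ⟨⟨a, hG.H_le a.2⟩, Subgroup.mem_subgroupOf.2 (Subgroup.mem_sup_left a.2)⟩
  simpa [extLam, projH_eq hr hG (x := ⟨⟨(a : L), hG.H_le a.2⟩,
    Subgroup.mem_subgroupOf.2 (Subgroup.mem_sup_left a.2)⟩) (a := a) (by simp)] using this

/-- Two extensions are conjugate only if the characters are conjugate under `U`. -/
theorem exists_U_of_conj (hr : Reduced H U W₂ C p q) (hG : GroupHyp K H U W₁ W₂ p q)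
    [((H ⊔ C).subgroupOf K).Normal] {lam lam' : H →* ℂˣ} {g : K}
    (e : conjBy ((H ⊔ C).subgroupOf K) g (extLam hr hG lam') = extLam hr hG lam) :
    ∃ v ∈ U, (∃ a ∈ H, (g : L) = a * v) ∧ ∀ a : H, lam' (conjH hG.H_normal v a) = lam a := by
  obtain ⟨b, hb, v, hv, hg⟩ := exists_decomp hG g
  refine ⟨v, hv, ⟨b, hb, hg⟩, fun a => Units.ext ?_⟩
  have hx := congrFun e ⟨⟨a, hG.H_le a.2⟩, Subgroup.mem_subgroupOf.2 (Subgroup.mem_sup_left a.2)⟩
  simp only [conjBy, extLam] at hx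
  rw [projH_eq hr hG (a := conjH hG.H_normal g a) (by simp [mul_assoc]), projH_eq hr hG (a := a) (by simp),
    hg, conjH_mul, hr.conjH_of_mem _ hb] at hx
  exact hx

/-- The characters of `H` fixed by `W₁`. -/
theorem card_fixedHom (hr : Reduced H U W₂ C p q) (hG : GroupHyp K H U W₁ W₂ p q) :
    p ≤ Nat.card {f : H →* ℂˣ // ∀ w ∈ W₁, ∀ a : H, f (conjH hG.H_normal w a) = f a} := by
  classical
  haveI := hG.H_normal
  haveI : IsMulCommutative H := ⟨⟨fun x y => Subtype.ext (hr.abelian x x.2 y y.2)⟩⟩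
  letI : CommGroup H := IsMulCommutative.instCommGroup
  set E := (⁅H, W₁⁆).subgroupOf H with hE
  have hW : ∀ w ∈ W₁, ∀ x ∈ W₂, w * x = x * w := by
    intro w hw x hx
    by_cases hw1 : w = 1
    · simp [hw1]
    · rw [← hG.cent w hw hw1] at hx
      exact (Subgroup.mem_centralizer_singleton_iff.1 hx.2).symm
  have hbot := Coprime.commutator_inf_centralizer_eq_bot W₁ H
    (by rw [Subgroup.normalizer_eq_top]; exact le_top)
    (hG.coprime_compl.symm.coprime_dvd_left (Subgroup.card_dvd_of_le le_sup_right))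
  have hinj : Function.Injective fun x : W₂ => ((⟨x, hG.W₂_le x.2⟩ : H) : H ⧸ E) := by
    intro x y e
    rw [QuotientGroup.eq, hE, Subgroup.mem_subgroupOf] at e
    have : ((x : L))⁻¹ * y ∈ ⁅H, W₁⁆ ⊓ Subgroup.centralizer (W₁ : Set L) := ⟨e,
      Subgroup.mem_centralizer_iff.2 fun w hw => hW w hw _ (W₂.mul_mem (W₂.inv_mem x.2) y.2)⟩
    rw [hbot, Subgroup.mem_bot, inv_mul_eq_one] at this
    exact Subtype.ext this
  have hcard : p ≤ Nat.card ((H ⧸ E) →* ℂˣ) := by
    haveI : NeZero ((Monoid.exponent (H ⧸ E) : ℕ) : ℂ) :=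
      ⟨by exact_mod_cast Monoid.exponent_ne_zero_of_finite⟩
    rw [CommGroup.card_monoidHom_of_hasEnoughRootsOfUnity (H ⧸ E) ℂ, ← hG.card_W₂]
    exact Nat.card_le_card_of_injective _ hinj
  refine hcard.trans (Nat.card_le_card_of_injective (fun f => ⟨f.comp (QuotientGroup.mk' E),
    fun w hw a => congrArg f ?_⟩) fun f f' e => ?_)
  · refine (QuotientGroup.eq.2 ?_)
    rw [hE, Subgroup.mem_subgroupOf]
    have e : ((conjH hG.H_normal w a)⁻¹ * a : H).1 = ⁅w, (a : L)⁻¹⁆ := by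
      simp only [Subgroup.coe_mul, InvMemClass.coe_inv, conjH_coe, commutatorElement_def]
      group
    rw [e, Subgroup.commutator_comm]
    exact Subgroup.commutator_mem_commutator hw (H.inv_mem a.2)
  · refine MonoidHom.ext fun x => ?_
    induction x using QuotientGroup.induction_on with | H a => ?_
    exact DFunLike.congr_fun (congrArg Subtype.val e) a

/-- A nontrivial character of `H` fixed by `W₁` has inertia `C` in `U`. -/
theorem stab_of_fixed (hr : Reduced H U W₂ C p q) (hG : GroupHyp K H U W₁ W₂ p q) {lam : H →* ℂˣ}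
    (hlam : lam ≠ 1) (hfix : ∀ w ∈ W₁, ∀ a : H, lam (conjH hG.H_normal w a) = lam a) :
    ∀ v ∈ U, (∀ a : H, lam (conjH hG.H_normal v a) = lam a) → v ∈ C := by
  haveI := hG.H_normal
  haveI := hG.K_normal
  let N : Subgroup L :=
    { carrier := {x | ∃ hx : x ∈ H, ∀ g : L, lam (conjH hG.H_normal g ⟨x, hx⟩) = 1}
      one_mem' := ⟨H.one_mem, fun g => by
        rw [show conjH hG.H_normal g ⟨1, H.one_mem⟩ = 1 from Subtype.ext (by simp), map_one]⟩
      mul_mem' := by
        rintro a b ⟨ha, ha'⟩ ⟨hb, hb'⟩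
        refine ⟨H.mul_mem ha hb, fun g => ?_⟩
        rw [show conjH hG.H_normal g ⟨a * b, H.mul_mem ha hb⟩ =
            conjH hG.H_normal g ⟨a, ha⟩ * conjH hG.H_normal g ⟨b, hb⟩ from
          Subtype.ext (by simp [mul_assoc]), map_mul, ha' g, hb' g, one_mul]
      inv_mem' := by
        rintro a ⟨ha, ha'⟩
        refine ⟨H.inv_mem ha, fun g => ?_⟩
        rw [show conjH hG.H_normal g ⟨a⁻¹, H.inv_mem ha⟩ = (conjH hG.H_normal g ⟨a, ha⟩)⁻¹ from
          Subtype.ext (by simp [mul_assoc]), map_inv, ha' g, inv_one] }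
  haveI : N.Normal := ⟨fun x hx g => by
    obtain ⟨hxH, hx'⟩ := hx
    exact ⟨hG.H_normal.conj_mem x hxH g, fun k => by
      rw [← hx' (k * g), conjH_mul]
      rfl⟩⟩
  have hN : N = ⊥ := by
    refine (hr.chief.minimal hG hr.U_ne hr.faithful N bot_le fun x hx => hx.1).resolve_right
      fun e => hlam (MonoidHom.ext fun a => ?_)
    obtain ⟨_, h'⟩ := show (a : L) ∈ N from e.symm ▸ a.2
    have := h' 1
    rwa [show conjH hG.H_normal 1 (⟨(a : L), a.2⟩ : H) = a from Subtype.ext (by simp)] at this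
  intro v hv hstab
  refine hr.mem_C_of hv fun a ha => ?_
  have hmem : v * a * v⁻¹ * a⁻¹ ∈ N := by
    refine ⟨H.mul_mem (hG.H_normal.conj_mem a ha v) (H.inv_mem ha), fun g => ?_⟩
    have hg : g ∈ K ⊔ W₁ := hG.K_sup.symm ▸ Subgroup.mem_top g
    obtain ⟨k, hk, w, hw, rfl⟩ := Subgroup.mem_sup_of_normal_left.1 hg
    obtain ⟨b, hb, t, ht, hk'⟩ := exists_decomp hG ⟨k, hk⟩
    set h₀ : H := ⟨_, hG.H_normal.conj_mem a ha (t * w)⟩ with hh₀
    have hvw : w * v * w⁻¹ ∈ U := (Subgroup.mem_normalizer_iff.1 (hG.U_norm hw) v).1 hv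
    set c := ⁅t, w * v * w⁻¹⁆ with hcdef
    have hcC : c ∈ C := hr.C_eq ▸ Subgroup.commutator_mem_commutator ht hvw
    have hcfix : ∀ y : H, conjH hG.H_normal c y = y := fun y =>
      Subtype.ext (by rw [conjH_coe, hr.central hG c hcC y y.2, mul_inv_cancel_right])
    have hfix' : ∀ y : H, lam (conjH hG.H_normal (w * v * w⁻¹) y) = lam y := fun y => by
      rw [mul_assoc w v, conjH_mul, hfix w hw, conjH_mul, hstab]
      have := hfix w hw (conjH hG.H_normal w⁻¹ y)
      rw [← this, ← conjH_mul, mul_inv_cancel]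
      exact congrArg lam (Subtype.ext (by simp))
    have e : conjH hG.H_normal (k * w) ⟨v * a * v⁻¹ * a⁻¹,
        H.mul_mem (hG.H_normal.conj_mem a ha v) (H.inv_mem ha)⟩ =
        conjH hG.H_normal b (conjH hG.H_normal c (conjH hG.H_normal (w * v * w⁻¹) h₀) * h₀⁻¹) := by
      apply Subtype.ext
      simp only [conjH_coe, Subgroup.coe_mul, InvMemClass.coe_inv, hh₀, hcdef,
        commutatorElement_def, show k = b * t from hk']
      group
    rw [e, hr.conjH_of_mem _ hb, map_mul, hcfix, hfix', map_inv, mul_inv_cancel]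
  rw [hN, Subgroup.mem_bot] at hmem
  calc v * a = v * a * v⁻¹ * a⁻¹ * (a * v) := by group
    _ = a * v := by rw [hmem, one_mul]

end Group

variable {L : Type u} [Group L] [Fintype L] {K H U W₁ W₂ C : Subgroup L} {p q : ℕ}

/-- The character of `K` induced from `extLam`. -/
noncomputable def indLam [Fintype K] (hr : Reduced H U W₂ C p q) (hG : GroupHyp K H U W₁ W₂ p q)
    (lam : H →* ℂˣ) : K → ℂ := indFun ((H ⊔ C).subgroupOf K) (extLam hr hG lam)

/-- The character induced from a character of `H` with inertia `C`. -/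
theorem indLam_spec [Fintype K] (hr : Reduced H U W₂ C p q) (hG : GroupHyp K H U W₁ W₂ p q) {lam : H →* ℂˣ}
    (hst : ∀ v ∈ U, (∀ a : H, lam (conjH hG.H_normal v a) = lam a) → v ∈ C) :
    IsIrrCharacter K (indLam hr hG lam) ∧ indLam hr hG lam 1 = (C.relIndex U : ℂ) ∧
      Coherence.TrivOn K C (indLam hr hG lam) := by
  classical
  haveI := hG.H_normal
  haveI := hr.C_normal hG
  haveI : ((H ⊔ C).subgroupOf K).Normal := Subgroup.normal_subgroupOf
  have h1 : indLam hr hG lam 1 = (C.relIndex U : ℂ) := by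
    rw [indLam, CharInd.indFun_apply_one]
    simp only [extLam, map_one, Units.val_one, mul_one]
    rw [show ((H ⊔ C).subgroupOf K).index = C.relIndex U from relIndex_HC hG hr.chief.C_le]
  refine ⟨ind_hom_irr _ (lam.comp (projH hr hG)) fun g hg => ?_, h1, fun a ha => ?_⟩
  · obtain ⟨v, hv, ⟨b, hb, e⟩, hfix⟩ := exists_U_of_conj hr hG
      (lam := lam) (lam' := lam) (g := g) hg
    rw [Subgroup.mem_subgroupOf, e]
    exact Subgroup.mul_mem_sup hb (hst v hv hfix)
  · show indLam hr hG lam a = _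
    rw [h1, indLam, CharInd.indFun_apply]
    have hidx := relIndex_HC hG hr.chief.C_le
    rw [← hidx, Subgroup.relIndex]
    have hone : ∀ g : K, extendByZero ((H ⊔ C).subgroupOf K) (extLam hr hG lam) (g⁻¹ * a * g) = 1 := by
      intro g
      have hc : (g : L)⁻¹ * a * g ∈ C := by
        simpa using (hr.C_normal hG).conj_mem (a : L) ha (g : L)⁻¹
      rw [CharInd.extendByZero_mem _ (Subgroup.mem_subgroupOf.2 (Subgroup.mem_sup_right hc))]
      simp only [extLam]
      rw [projH_eq hr hG (a := 1) (by simpa using hc), map_one, Units.val_one]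
    rw [Finset.sum_congr rfl fun g _ => hone g, Finset.sum_const, nsmul_eq_mul, mul_one,
      Finset.card_univ, ← Nat.card_eq_fintype_card,
      ← ((H ⊔ C).subgroupOf K).index_mul_card]
    have : (Nat.card ((H ⊔ C).subgroupOf K) : ℂ) ≠ 0 := CharInd.natCard_subgroup_ne_zero _
    push_cast
    field_simp

/-- A character of `H` fixed by `W₁` induces a fixed character. -/
theorem indLam_fixed [Fintype K] (hr : Reduced H U W₂ C p q) (hG : GroupHyp K H U W₁ W₂ p q) [K.Normal]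
    {lam : H →* ℂˣ} (hfix : ∀ w ∈ W₁, ∀ a : H, lam (conjH hG.H_normal w a) = lam a) {w : L}
    (hw : w ∈ W₁) : conjBy K w (indLam hr hG lam) = indLam hr hG lam := by
  classical
  haveI := hG.H_normal
  haveI := hr.C_normal hG
  funext x
  simp only [conjBy, indLam, CharInd.indFun_apply]
  congr 1
  symm
  refine Fintype.sum_equiv (MulAut.conjNormal w : MulAut K).toEquiv _ _ fun g => ?_
  set d := (g⁻¹ * x * g : K) with hd
  have he : ((MulAut.conjNormal w : MulAut K) g)⁻¹ * ⟨w * x * w⁻¹, Subgroup.Normal.conj_mem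
      ‹K.Normal› x x.2 w⟩ * (MulAut.conjNormal w : MulAut K) g = (MulAut.conjNormal w : MulAut K) d := by
    apply Subtype.ext
    simp only [hd, Subgroup.coe_mul, InvMemClass.coe_inv, MulAut.conjNormal_apply]
    group
  show _ = extendByZero _ _ (((MulAut.conjNormal w : MulAut K) g)⁻¹ * _ * _)
  rw [show ((MulAut.conjNormal w : MulAut K).toEquiv g) = (MulAut.conjNormal w : MulAut K) g from rfl, he]
  by_cases hm : (d : L) ∈ H ⊔ C
  · have hm' : (((MulAut.conjNormal w : MulAut K) d : K) : L) ∈ H ⊔ C := by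
      rw [MulAut.conjNormal_apply]
      exact (inferInstance : (H ⊔ C).Normal).conj_mem _ hm w
    rw [CharInd.extendByZero_mem _ (Subgroup.mem_subgroupOf.2 hm),
      CharInd.extendByZero_mem _ (Subgroup.mem_subgroupOf.2 hm')]
    simp only [extLam]
    rw [projH_eq hr hG (x := ⟨(MulAut.conjNormal w : MulAut K) d, _⟩)
      (a := conjH hG.H_normal w (projH hr hG ⟨d, Subgroup.mem_subgroupOf.2 hm⟩)) ?_, hfix w hw]
    have := (hr.C_normal hG).conj_mem _ (projH_spec hr hG ⟨d, Subgroup.mem_subgroupOf.2 hm⟩) w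
    simpa [MulAut.conjNormal_apply, mul_assoc] using this
  · have hm' : ¬ (((MulAut.conjNormal w : MulAut K) d : K) : L) ∈ H ⊔ C := fun h => hm (by
      rw [MulAut.conjNormal_apply] at h
      simpa [mul_assoc] using (inferInstance : (H ⊔ C).Normal).conj_mem _ h w⁻¹)
    rw [CharInd.extendByZero_notMem _ (fun h => hm (Subgroup.mem_subgroupOf.1 h)),
      CharInd.extendByZero_notMem _ (fun h => hm' (Subgroup.mem_subgroupOf.1 h))]

variable {h : PrimeTI.Hyp K W₁ W₂} {χ : (↥(W₁ ⊔ W₂) →* ℂˣ) → (L → ℂ)}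

theorem fam_nontrivH (hG : GroupHyp K H U W₁ W₂ p q) (F : Fam h χ)
    {ψ : ↥(W₁ ⊔ W₂) →* ℂˣ} (hψ : ψ ∈ D2 W₁ W₂) (hψ1 : ψ ≠ 1) :
    ¬ Coherence.TrivOn K H (fun k : K => (sgn χ ψ • χ ψ) k) := by
  intro htriv
  refine hψ1 (eq_of_eq_on W₁ W₂ (fun w hw => hψ w hw) fun w hw => ?_)
  have hμ := CharCore.IsIrrCharacter.isCharacter (F.irr_sgn ψ)
  have hs := h.split
  obtain ⟨a, ha, ha1⟩ := hG.exists_w
  let v : ↥(W₁ ⊔ W₂) := ⟨a, Subgroup.mem_sup_left ha⟩
  have hdis : ∀ z, z ∈ W₁ → z ∈ W₂ → z = 1 := fun z h1 h2 =>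
    Subgroup.mem_bot.1 (hs.disj ▸ (⟨h1, h2⟩ : z ∈ W₁ ⊓ W₂))
  have hv2 : ((v : ↥(W₁ ⊔ W₂)) : L) ∉ W₂ := fun q => ha1 (hdis a ha q)
  have hvw : ((v * w : ↥(W₁ ⊔ W₂)) : L) ∉ W₂ := fun q => ha1 (hdis a ha (by
    have := W₂.mul_mem q (W₂.inv_mem hw)
    simpa [v] using this))
  have hk := htriv ⟨w, h.le hw⟩ (hG.W₂_le hw)
  have e := CharCore.IsCharacter.apply_mul_of_mem_kernel hμ (k := (w : L)) hk (a : L)
  simp only [Pi.smul_apply, smul_eq_mul] at e
  have e1 := F.on_off ψ (v * w) hvw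
  have e2 := F.on_off ψ v hv2
  rw [show ((v * w : ↥(W₁ ⊔ W₂)) : L) = a * w from rfl] at e1
  rw [show ((v : ↥(W₁ ⊔ W₂)) : L) = a from rfl] at e2
  rw [e1, e2, map_mul, Units.val_mul] at e
  refine Units.ext ?_
  rcases sgn_sq χ ψ with s | s <;> rw [s] at e <;> simpa [MonoidHom.one_apply] using e

/-- A non-principal `W₁`-fixed irreducible character of `K` has degree `u` and is trivial on `C`. -/
theorem fixed_degree (hr : Reduced H U W₂ C p q) (hG : GroupHyp K H U W₁ W₂ p q)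
    (h : PrimeTI.Hyp K W₁ W₂) {θ : K → ℂ} (hθ : IsIrrCharacter K θ) (hne : θ ≠ fun _ => 1)
    (hfix : haveI := h.normal; ∀ w ∈ W₁, conjBy K w θ = θ) :
    θ 1 = (C.relIndex U : ℂ) ∧ Coherence.TrivOn K C θ := by
  classical
  haveI := h.normal
  haveI := hG.H_normal
  haveI := hr.C_normal hG
  haveI : Fintype K := Fintype.ofFinite _
  haveI : ((H ⊔ C).subgroupOf K).Normal := Subgroup.normal_subgroupOf
  let S := {f : H →* ℂˣ // ∀ w ∈ W₁, ∀ a : H, f (conjH hG.H_normal w a) = f a}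
  let T := {θ : IrrCharacter K // ∀ x ∈ W₁, conjBy K x (θ : K → ℂ) = θ}
  have hspec : ∀ f : S, f.1 ≠ 1 → IsIrrCharacter K (indLam hr hG f.1) := fun f hf =>
    (indLam_spec hr hG (stab_of_fixed hr hG hf f.2)).1
  let Φ : S → T := fun f => if hf : f.1 = 1 then
    ⟨⟨fun _ => 1, CharCore.isIrrCharacter_one⟩, fun x _ => rfl⟩
    else ⟨⟨indLam hr hG f.1, hspec f hf⟩, fun x hx => indLam_fixed hr hG f.2 hx⟩
  have h2 := C_ne_relIndex hr.chief.C_le (hr.C_ne hG)
  have hu1 : (C.relIndex U : ℂ) ≠ 1 := by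
    intro e
    have : C.relIndex U = 1 := by exact_mod_cast e
    omega
  have hinj : Function.Injective Φ := by
    intro f f' e
    have e' : ((Φ f).1 : K → ℂ) = (Φ f').1 := by rw [e]
    by_cases hf : f.1 = 1 <;> by_cases hf' : f'.1 = 1
    · exact Subtype.ext (hf.trans hf'.symm)
    · simp only [Φ, dif_pos hf, dif_neg hf'] at e'
      have := congrFun e' 1
      rw [(indLam_spec hr hG (stab_of_fixed hr hG hf' f'.2)).2.1] at this
      exact absurd this.symm hu1
    · simp only [Φ, dif_neg hf, dif_pos hf'] at e'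
      have := congrFun e' 1
      rw [(indLam_spec hr hG (stab_of_fixed hr hG hf f.2)).2.1] at this
      exact absurd this hu1
    · simp only [Φ, dif_neg hf, dif_neg hf'] at e'
      have h11 := Coherence.irr_inner_self (hspec f hf)
      rw [indLam] at e' h11
      conv_lhs at h11 => arg 2; rw [e', indLam]
      rw [classInner_indFun_normal, inv_mul_eq_one₀ (CharInd.natCard_subgroup_ne_zero _)] at h11
      obtain ⟨g, -, hg⟩ := Finset.exists_ne_zero_of_sum_ne_zero
        (h11.symm.trans_ne (CharInd.natCard_subgroup_ne_zero _))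
      have hc : conjBy ((H ⊔ C).subgroupOf K) g (extLam hr hG f'.1) = extLam hr hG f.1 := by
        by_contra hne'
        exact hg (Coherence.irr_inner_ne (CharCore.isIrrCharacter_hom (f.1.comp (projH hr hG)))
          (conjBy_isIrr _ g (CharCore.isIrrCharacter_hom (f'.1.comp (projH hr hG)))) (Ne.symm hne'))
      obtain ⟨v, hv, -, hvf⟩ := exists_U_of_conj hr hG hc
      -- `v C` is fixed by `W₁`
      have hvC : ∀ w ∈ W₁, w * v * w⁻¹ * v⁻¹ ∈ C := by
        intro w hw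
        have hwv : w * v * w⁻¹ ∈ U := (Subgroup.mem_normalizer_iff.1 (hG.U_norm hw) v).1 hv
        refine stab_of_fixed hr hG hf' f'.2 _ (U.mul_mem hwv (U.inv_mem hv)) fun a => ?_
        rw [show w * v * w⁻¹ * v⁻¹ = w * (v * (w⁻¹ * v⁻¹)) by group, conjH_mul, f'.2 w hw,
          conjH_mul, hvf, conjH_mul, f.2 _ (W₁.inv_mem hw), ← hvf, ← conjH_mul, mul_inv_cancel]
        exact congrArg f'.1 (Subtype.ext (by simp))
      obtain ⟨c, hc', hfx⟩ := exists_fixed_coset hG.hq W₁ C (IsPGroup.of_card (n := 1)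
        (by rw [hG.card_W₁, pow_one])) (hG.not_q_dvd C (hr.C_le_K hG)) v hvC
      obtain ⟨w, hw, hw1⟩ := hG.exists_w
      have hvc : v * c = 1 := hG.fpf hw hw1 (U.mul_mem hv (hr.chief.C_le hc')) (hfx w hw)
      have hvC' : v ∈ C := by
        rw [eq_inv_of_mul_eq_one_left hvc]; exact C.inv_mem hc'
      refine Subtype.ext (MonoidHom.ext fun a => ?_)
      rw [← hvf a, show conjH hG.H_normal v a = a from
        Subtype.ext (by rw [conjH_coe, hr.central hG v hvC' a a.2, mul_inv_cancel_right])]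
  have hT : Nat.card T = p := h.card_fixed.trans hG.card_W₂
  haveI : Finite T := Nat.finite_of_card_ne_zero (hT.trans_ne hG.hp.ne_zero)
  obtain ⟨f, hf⟩ := (hinj.bijective_of_nat_card_le (hT.le.trans (card_fixedHom hr hG))).2
    ⟨⟨θ, hθ⟩, hfix⟩
  have e : ((Φ f).1 : K → ℂ) = θ := by rw [hf]
  by_cases hf1 : f.1 = 1
  · simp only [Φ, dif_pos hf1] at e
    exact absurd e.symm hne
  · simp only [Φ, dif_neg hf1] at e
    rw [← e]
    exact (indLam_spec hr hG (stab_of_fixed hr hG hf1 f.2)).2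

/-- The sign of `χ ψ` is positive and its degree is `u`. -/
theorem fam_degree (hr : Reduced H U W₂ C p q) (hG : GroupHyp K H U W₁ W₂ p q) (F : Fam h χ)
    {ψ : ↥(W₁ ⊔ W₂) →* ℂˣ} (hψ : ψ ∈ D2 W₁ W₂) (hψ1 : ψ ≠ 1) :
    sgn χ ψ = 1 ∧ χ ψ 1 = (C.relIndex U : ℂ) ∧ Coherence.TrivOn K C (fun k : K => χ ψ k) := by
  haveI := h.normal
  haveI : Fintype K := Fintype.ofFinite _
  obtain ⟨hd, ht⟩ := fixed_degree hr hG h (F.restrict_irr ψ)
    (fun e => fam_nontrivH hG F hψ hψ1 fun a _ => (congrFun e a).trans (congrFun e 1).symm)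
    fun w _ => F.fixed_restrict ψ w
  simp only [Pi.smul_apply, smul_eq_mul, OneMemClass.coe_one] at hd
  rcases sgn_sq χ ψ with s | s
  · rw [s, one_mul] at hd
    refine ⟨s, hd, fun a ha => ?_⟩
    simpa [s] using ht a ha
  · exfalso
    rw [s] at hd
    obtain ⟨hodd, hmod, -⟩ := hr.u_facts hG
    obtain ⟨k, hk⟩ := (Nat.modEq_iff_dvd' hodd.pos).1 hmod.symm
    obtain ⟨m, hm⟩ := F.degree_congr ψ
    have hu : C.relIndex U = q * k + 1 := by have := hodd.pos; omega
    have he : χ ψ 1 = -(C.relIndex U : ℂ) := by linear_combination -hd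
    rw [he, hG.card_W₁, hu] at hm
    have h2 : ((-2 : ℤ) : ℂ) = (((m + k) * q : ℤ) : ℂ) := by
      push_cast at hm ⊢
      linear_combination hm
    have h3 : (-2 : ℤ) = (m + k) * q := by exact_mod_cast h2
    have h4 : (q : ℤ) ∣ 2 := ⟨-(m + k), by linear_combination -h3⟩
    have h5 : q ∣ 2 := by exact_mod_cast h4
    exact hG.q_ne_two ((Nat.prime_dvd_prime_iff_eq hG.hq Nat.prime_two).1 h5)

theorem Reduced.comm_mem (hr : Reduced H U W₂ C p q) (hG : GroupHyp K H U W₁ W₂ p q) {x y : L}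
    (hx : x ∈ K) (hy : y ∈ K) : x * y * x⁻¹ * y⁻¹ ∈ H ⊔ C := by
  rw [hr.C_eq]
  exact derived_le hG (Subgroup.commutator_mem_commutator hx hy)

/-- A character trivial on `C` has degree at most `u`. -/
theorem degree_le (hr : Reduced H U W₂ C p q) (hG : GroupHyp K H U W₁ W₂ p q) {θ : K → ℂ}
    (hθ : IsIrrCharacter K θ) (hker : Coherence.TrivOn K C θ) :
    ∃ d : ℕ, θ 1 = d ∧ 0 < d ∧ d ≤ C.relIndex U := by
  haveI := hG.H_normal
  haveI : Fintype K := Fintype.ofFinite _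
  obtain ⟨d, hd, hpos⟩ := Coherence.char_one_nat (Coherence.irr_isCharacter hθ)
  refine ⟨d, hd, hpos fun h0 => Coherence.irr_one_ne_zero hθ (by simp [h0]), ?_⟩
  have hcomm : ∀ x ∈ H ⊔ C, ∀ y ∈ H ⊔ C, x * y * x⁻¹ * y⁻¹ ∈ C := by
    intro x hx y hy
    obtain ⟨a, ha, b, hb, rfl⟩ := Subgroup.mem_sup_of_normal_left.1 hx
    obtain ⟨a', ha', b', hb', rfl⟩ := Subgroup.mem_sup_of_normal_left.1 hy
    have h1 : Commute a a' := hr.abelian a ha a' ha'
    have h2 : Commute b a' := hr.central hG b hb a' ha'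
    have h3 : Commute b' a := hr.central hG b' hb' a ha
    have hm : b * b' * (b' * b)⁻¹ ∈ C :=
      C.mul_mem (C.mul_mem hb hb') (C.inv_mem (C.mul_mem hb' hb))
    have hc' : Commute (b * b' * (b' * b)⁻¹) (a * a') := hr.central hG _ hm _ (H.mul_mem ha ha')
    have : a * b * (a' * b') * (a * b)⁻¹ * (a' * b')⁻¹ = b * b' * b⁻¹ * b'⁻¹ := by
      have e1 : a * b * (a' * b') = a * a' * (b * b') := h2.mul_mul_mul_comm a b'
      have e2 : a' * b' * (a * b) = a * a' * (b' * b) := by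
        rw [h3.mul_mul_mul_comm a' b, h1.eq]
      calc a * b * (a' * b') * (a * b)⁻¹ * (a' * b')⁻¹
          = a * b * (a' * b') * (a' * b' * (a * b))⁻¹ := by group
        _ = (a * a') * (b * b' * (b' * b)⁻¹) * (a * a')⁻¹ := by rw [e1, e2]; group
        _ = _ := by rw [← hc'.eq]; group
    rw [this]
    exact C.mul_mem (C.mul_mem (C.mul_mem hb hb') (C.inv_mem hb)) (C.inv_mem hb')
  have hb := Coherence.degree_bound hθ (C.subgroupOf K) ((H ⊔ C).subgroupOf K)
    ((H ⊔ C).subgroupOf K) le_rfl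
    (fun x hx y hy => Subgroup.mem_subgroupOf.2
      (hcomm _ (Subgroup.mem_subgroupOf.1 hx) _ (Subgroup.mem_subgroupOf.1 hy)))
    (fun b hb => hker b (Subgroup.mem_subgroupOf.1 hb))
  have hidx := ((H ⊔ C).subgroupOf K).index_mul_card
  rw [show ((H ⊔ C).subgroupOf K).index = C.relIndex U from relIndex_HC hG hr.chief.C_le] at hidx
  rw [hd, Complex.natCast_re, ← hidx] at hb
  set D := Nat.card ((H ⊔ C).subgroupOf K) with hD
  have hD0 : 0 < D := Nat.card_pos
  have h2 : d ^ 2 * D * D ≤ (C.relIndex U * D) ^ 2 := by exact_mod_cast hb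
  have h3 : (d * D) ^ 2 ≤ (C.relIndex U * D) ^ 2 := le_of_eq_of_le (by ring) h2
  exact Nat.le_of_mul_le_mul_right ((Nat.pow_le_pow_iff_left two_ne_zero).1 h3) hD0

/-- The members induced from the non-principal linear characters are irreducible of degree `q`. -/
theorem seqT_irr (hr : Reduced H U W₂ C p q) (hG : GroupHyp K H U W₁ W₂ p q) (F : Fam h χ)
    {φ : L → ℂ} (hφ : φ ∈ inducedIrrAbove K (H ⊔ C)) :
    IsIrrCharacter L φ ∧ φ 1 = (q : ℂ) ∧ (∀ x ∉ K, φ x = 0) ∧
      ∀ ω, classInner φ (χ ω) = 0 := by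
  haveI := hG.K_normal
  haveI : Fintype K := Fintype.ofFinite _
  obtain ⟨θ, hθ, hθ1, hker, rfl⟩ := hφ
  have hdeg : θ 1 = 1 := linear_of_commutator hθ ((H ⊔ C).subgroupOf K)
    (fun x y => Subgroup.mem_subgroupOf.2 (hr.comm_mem hG x.2 y.2))
    (fun b hb => hker b (Subgroup.mem_subgroupOf.1 hb))
  have hoff : ∀ x ∉ K, indFun K θ x = 0 := fun x hx => indFun_eq_zero_of_notMem K θ hx
  have hirr : IsIrrCharacter L (indFun K θ) := by
    refine h.ind_irr hθ ?_
    by_contra hfix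
    push Not at hfix
    have := (fixed_degree hr hG h hθ hθ1 hfix).1
    rw [hdeg] at this
    have h1 : C.relIndex U = 1 := by exact_mod_cast this.symm
    have := C_ne_relIndex hr.chief.C_le (hr.C_ne hG)
    omega
  refine ⟨hirr, ?_, hoff, fun ω => ?_⟩
  · rw [CharInd.indFun_apply_one, hdeg, mul_one, hG.card_K.1]
  · obtain ⟨a, ha, ha1⟩ := hG.exists_w
    have ha2 : a ∉ W₂ := fun e => ha1 (Subgroup.mem_bot.1
      (h.split.disj ▸ (⟨ha, e⟩ : a ∈ W₁ ⊓ W₂)))
    let v : ↥(W₁ ⊔ W₂) := ⟨a, Subgroup.mem_sup_left ha⟩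
    have hv := F.on_off ω v ha2
    have h0 : indFun K θ a = 0 := hoff a fun e => ha1 (Subgroup.mem_bot.1
      (hG.K_inf ▸ (⟨e, ha⟩ : a ∈ K ⊓ W₁)))
    rcases signed_eq_or_inner (Or.inl hirr) (F.fam.irr_or_neg ω) with e | e | e
    · rw [e] at h0; exact absurd (hv.symm.trans h0) (Units.ne_zero _)
    · rw [e, Pi.neg_apply, neg_eq_zero] at h0; exact absurd (hv.symm.trans h0) (Units.ne_zero _)
    · exact e

/-- `|T| q + 1 = u` for `T` the set of these members. -/
theorem card_seqT (hr : Reduced H U W₂ C p q) (hG : GroupHyp K H U W₁ W₂ p q) (F : Fam h χ) :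
    (Coherence.seqFinset K (H ⊔ C)).card * q + 1 = C.relIndex U := by
  haveI := hG.K_normal
  haveI := hG.H_normal
  haveI := hr.C_normal hG
  have hs := Coherence.sum_seq K (H ⊔ C)
  have hval : ∀ φ ∈ Coherence.seqFinset K (H ⊔ C),
      (φ 1).re ^ 2 / Coherence.normSqFn φ = (q : ℝ) ^ 2 := by
    intro φ hφ
    obtain ⟨hirr, h1, -, -⟩ := seqT_irr hr hG F
      (Coherence.coe_seqFinset K (H ⊔ C) ▸ Finset.mem_coe.2 hφ : φ ∈ inducedIrrAbove K (H ⊔ C))
    have hn : Coherence.normSqFn φ = 1 := by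
      have := Coherence.irr_inner_self hirr
      rw [Coherence.inner_self] at this
      exact_mod_cast this
    rw [hn, div_one, h1, Complex.natCast_re]
  rw [Finset.sum_congr rfl hval, Finset.sum_const, nsmul_eq_mul,
    Coherence.sum_irrNP K (H ⊔ C), hG.card_K.1, relIndex_HC hG hr.chief.C_le] at hs
  have hq : (q : ℝ) ≠ 0 := Nat.cast_ne_zero.2 hG.hq.ne_zero
  have h2 : ((Coherence.seqFinset K (H ⊔ C)).card : ℝ) * q + 1 = (C.relIndex U : ℝ) := by
    have h3 : ((Coherence.seqFinset K (H ⊔ C)).card : ℝ) * q = (C.relIndex U : ℝ) - 1 :=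
      mul_left_cancel₀ hq (by linear_combination hs)
    linarith
  exact_mod_cast h2

theorem two_le_card_seqT (hr : Reduced H U W₂ C p q) (hG : GroupHyp K H U W₁ W₂ p q)
    (F : Fam h χ) : 2 ≤ (Coherence.seqFinset K (H ⊔ C)).card := by
  have h1 := card_seqT hr hG F
  have h2 := (hr.u_facts hG).2.2
  by_contra hlt
  push Not at hlt
  have := Nat.mul_le_mul_right q (Nat.le_of_lt_succ hlt)
  have := hG.hq.pos
  omega

end Cfsg.Agent.OddLocal44.PF11
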