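import Cfsg.Agent.OddLocal44.PF11.Hyp
import Cfsg.Agent.Lib.Coprime.Abelian
import Cfsg.Agent.Lib.Thompson.Replacement
import Mathlib.Data.Nat.Factorization.Induction

set_option autoImplicit false

/-!
Peterfalvi (9.6) and the dichotomy of (9.7): the chief factor `H / H₀` of order `p ^ q` and the
decomposition into `q` lines when `U` is not irreducible on it.
-/

open scoped commutatorElement

namespace Cfsg.Agent.OddLocal44.PF11

open Cfsg Cfsg.Agent

universe u

section General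

variable {X : Type*} [Group X]

/-- A shift by a fixed element of coprime order is trivial. -/
theorem eq_one_of_shift {u h a : X} (hua : Commute u a) (he : u * h * u⁻¹ = h * a)
    (hcop : (orderOf u).Coprime (orderOf a)) : a = 1 := by
  have hpow : ∀ n : ℕ, u ^ n * h * (u ^ n)⁻¹ = h * a ^ n := by
    intro n
    induction n with
    | zero => simp
    | succ n ih =>
      have hc : Commute u (a ^ n) := Commute.pow_right hua n
      calc u ^ (n + 1) * h * (u ^ (n + 1))⁻¹ = u * (u ^ n * h * (u ^ n)⁻¹) * u⁻¹ := by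
            rw [pow_succ']; group
        _ = (u * h * u⁻¹) * (u * a ^ n * u⁻¹) := by rw [ih]; group
        _ = h * a * a ^ n := by rw [hc.eq, he]; group
        _ = h * a ^ (n + 1) := by rw [pow_succ' a n, mul_assoc]
  have h1 : a ^ orderOf u = 1 := by
    have := hpow (orderOf u)
    rw [pow_orderOf_eq_one, one_mul, inv_one, mul_one] at this
    exact mul_eq_left.1 this.symm
  exact orderOf_eq_one_iff.1 (Nat.eq_one_of_dvd_coprimes hcop (orderOf_dvd_of_pow_eq_one h1) dvd_rfl)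

theorem mul_comm_of_mem_centralizer {S : Set X} {x y : X} (hx : x ∈ Subgroup.centralizer S)
    (hy : y ∈ S) : y * x = x * y := Subgroup.mem_centralizer_iff.1 hx y hy

/-- A coset of `A` fixed by an `r`-group of order prime to `|A|` has a fixed element. -/
theorem exists_fixed_coset [Finite X] {r : ℕ} (hr : r.Prime) (P A : Subgroup X) [hA : A.Normal]
    (hP : IsPGroup r P) (hcop : ¬ r ∣ Nat.card A) (h : X)
    (hc : ∀ w ∈ P, w * h * w⁻¹ * h⁻¹ ∈ A) :
    ∃ a ∈ A, ∀ w ∈ P, w * (h * a) = h * a * w := by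
  haveI : Fact r.Prime := ⟨hr⟩
  have hk : ∀ w : P, h⁻¹ * ((w : X) * h * (w : X)⁻¹) ∈ A := fun w => by
    have := hA.conj_mem _ (hc w w.2) h⁻¹
    convert this using 1
    group
  let act' : MulAction P A :=
    { smul := fun w a => ⟨h⁻¹ * ((w : X) * h * (w : X)⁻¹) * ((w : X) * a * (w : X)⁻¹),
        A.mul_mem (hk w) (hA.conj_mem a a.2 _)⟩
      one_smul := fun a => by
        apply Subtype.ext
        show h⁻¹ * (((1 : P) : X) * h * ((1 : P) : X)⁻¹)
          * (((1 : P) : X) * a * ((1 : P) : X)⁻¹) = (a : X)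
        simp
      mul_smul := fun w v a => by
        apply Subtype.ext
        show h⁻¹ * (((w * v : P) : X) * h * ((w * v : P) : X)⁻¹)
            * (((w * v : P) : X) * a * ((w * v : P) : X)⁻¹)
          = h⁻¹ * ((w : X) * h * (w : X)⁻¹) * ((w : X)
            * (h⁻¹ * ((v : X) * h * (v : X)⁻¹) * ((v : X) * a * (v : X)⁻¹)) * (w : X)⁻¹)
        rw [Subgroup.coe_mul]
        group }
  obtain ⟨a, ha⟩ : (MulAction.fixedPoints P A).Nonempty := by
    letI := act'
    exact hP.nonempty_fixed_point_of_prime_not_dvd_card A hcop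
  refine ⟨a, a.2, fun w hw => ?_⟩
  have h1 : h⁻¹ * (w * h * w⁻¹) * (w * a * w⁻¹) = (a : X) := congrArg Subtype.val (ha ⟨w, hw⟩)
  calc w * (h * a) = h * (h⁻¹ * (w * h * w⁻¹) * (w * a * w⁻¹)) * w := by group
    _ = h * a * w := by rw [h1]

/-- The primary parts of an element generate it. -/
theorem mem_of_primary (S T : Subgroup X)
    (hS : ∀ r k : ℕ, r.Prime → ∀ u ∈ T, u ^ r ^ k = 1 → u ∈ S) [Finite X] : T ≤ S := by
  have key : ∀ n : ℕ, 0 < n → ∀ u ∈ T, u ^ n = 1 → u ∈ S := by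
    intro n
    induction n using Nat.recOnPosPrimePosCoprime with
    | prime_pow r k hr hk => exact fun _ u hu h1 => hS r k hr u hu h1
    | zero => intro h; exact absurd h (lt_irrefl 0)
    | one => intro _ u _ h1; rw [pow_one] at h1; rw [h1]; exact S.one_mem
    | coprime a b ha hb hab iha ihb =>
      intro _ u hu h1
      have h2 : u ^ a ∈ S := ihb (by omega) _ (T.pow_mem hu a) (by rw [← pow_mul]; exact h1)
      have h3 : u ^ b ∈ S := iha (by omega) _ (T.pow_mem hu b) (by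
        rw [← pow_mul, mul_comm b a]; exact h1)
      have e : u = (u ^ a) ^ Nat.gcdA a b * (u ^ b) ^ Nat.gcdB a b := by
        rw [← zpow_natCast, ← zpow_natCast, ← zpow_mul, ← zpow_mul, ← zpow_add,
          ← Nat.gcd_eq_gcd_ab, hab.gcd_eq_one, Nat.cast_one, zpow_one]
      rw [e]
      exact S.mul_mem (S.zpow_mem h2 _) (S.zpow_mem h3 _)
  exact fun u hu => key (orderOf u) (orderOf_pos u) u hu (pow_orderOf_eq_one u)

end General

variable {L : Type u} [Group L] [Finite L] {K H U W₁ W₂ : Subgroup L} {p q : ℕ}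

namespace GroupHyp

lemma coprime_U (hG : GroupHyp K H U W₁ W₂ p q) {u a : L} (hu : u ∈ U ⊔ W₁) (ha : a ∈ H) :
    (orderOf u).Coprime (orderOf a) :=
  (hG.coprime_compl.coprime_dvd_left (Subgroup.orderOf_dvd_natCard _ ha)).coprime_dvd_right
    (Subgroup.orderOf_dvd_natCard _ hu) |>.symm

/-- If `U` centralizes `M` modulo `N` and `H` modulo `M`, it centralizes `H` modulo `N`. -/
lemma comm_mod_trans (hG : GroupHyp K H U W₁ W₂ p q) (N M : Subgroup L) [hN : N.Normal]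
    (hMH : M ≤ H) (h1 : ∀ u ∈ U, ∀ a ∈ M, u * a * u⁻¹ * a⁻¹ ∈ N)
    (h2 : ∀ u ∈ U, ∀ h ∈ H, u * h * u⁻¹ * h⁻¹ ∈ M) :
    ∀ u ∈ U, ∀ h ∈ H, u * h * u⁻¹ * h⁻¹ ∈ N := by
  haveI := hG.H_normal
  intro u hu h hh
  set π := QuotientGroup.mk' N
  set a : L := h⁻¹ * (u * h * u⁻¹) with ha
  have haM : a ∈ M := by
    have := M.inv_mem (h2 u hu h⁻¹ (H.inv_mem hh))
    convert this using 1
    rw [ha]; group
  have hua : Commute (π u) (π a) := by
    have h' : π (u * a * u⁻¹ * a⁻¹) = 1 := (QuotientGroup.eq_one_iff _).2 (h1 u hu a haM)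
    rw [map_mul, map_mul, map_mul, map_inv, map_inv] at h'
    exact mul_inv_eq_one.1 (by rwa [mul_inv_rev, ← mul_assoc])
  have he : π u * π h * (π u)⁻¹ = π h * π a := by
    rw [← map_inv, ← map_mul, ← map_mul, ← map_mul]
    congr 1
    rw [ha]; group
  have h3 : π a = 1 := eq_one_of_shift hua he
    (((hG.coprime_U (Subgroup.mem_sup_left hu) (hMH haM)).coprime_dvd_left
      (orderOf_map_dvd π u)).coprime_dvd_right (orderOf_map_dvd π a))
  have := hN.conj_mem _ ((QuotientGroup.eq_one_iff a).1 h3) h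
  convert this using 1
  rw [ha]; group

lemma map_inf_centralizer (hG : GroupHyp K H U W₁ W₂ p q) (N M : Subgroup L) [N.Normal]
    (hNM : N ≤ M) (hMH : M ≤ H) {x : L} (hx : x ∈ M) {w : L} (hw : w ∈ W₁) (hw1 : w ≠ 1)
    (hc : w * x * w⁻¹ * x⁻¹ ∈ N) : ∃ a ∈ N, x * a ∈ W₂ := by
  haveI := hG.H_normal
  have hgen : ∀ v ∈ W₁, v * x * v⁻¹ * x⁻¹ ∈ N := by
    intro v hv
    haveI : Fact q.Prime := ⟨hG.hq⟩
    have hz : Subgroup.zpowers w = W₁ := Subgroup.eq_of_le_of_card_ge (Subgroup.zpowers_le.2 hw) (by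
      rw [Nat.card_zpowers, hG.card_W₁]
      have := Subgroup.orderOf_dvd_natCard W₁ hw
      rw [hG.card_W₁] at this
      rcases (Nat.dvd_prime hG.hq).1 this with h | h
      · exact absurd (orderOf_eq_one_iff.1 h) hw1
      · exact h.ge)
    rw [← hz, Subgroup.mem_zpowers_iff] at hv
    obtain ⟨k, rfl⟩ := hv
    have hcomm : Commute (QuotientGroup.mk' N w) (QuotientGroup.mk' N x) := by
      have h1 : QuotientGroup.mk' N (w * x * w⁻¹ * x⁻¹) = 1 := (QuotientGroup.eq_one_iff _).2 hc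
      rw [map_mul, map_mul, map_mul, map_inv, map_inv] at h1
      exact mul_inv_eq_one.1 (by rwa [mul_inv_rev, ← mul_assoc])
    refine (QuotientGroup.eq_one_iff _).1 ?_
    show QuotientGroup.mk' N (w ^ k * x * (w ^ k)⁻¹ * x⁻¹) = 1
    rw [map_mul, map_mul, map_mul, map_inv, map_inv, map_zpow, (hcomm.zpow_left k).eq]
    group
  have hq : ¬ q ∣ Nat.card N := hG.not_q_dvd N ((hNM.trans hMH).trans hG.H_le)
  obtain ⟨a, ha, hfix⟩ := exists_fixed_coset hG.hq W₁ N
    (IsPGroup.of_card (n := 1) (by rw [hG.card_W₁, pow_one])) hq x hgen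
  refine ⟨a, ha, ?_⟩
  rw [← hG.cent w hw hw1]
  exact ⟨hG.H_le (hMH (M.mul_mem hx (hNM ha))),
    Subgroup.mem_centralizer_singleton_iff.2 (hfix w hw).symm⟩

/-- The fixed point formula on `M / N`. -/
lemma card_mod_eq (hG : GroupHyp K H U W₁ W₂ p q) (hU : U ≠ ⊥) (N M : Subgroup L) [N.Normal]
    [M.Normal] (hNM : N ≤ M) (hMH : M ≤ H) :
    Nat.card ↥(M.map (QuotientGroup.mk' N) ⊓
        Subgroup.centralizer ((U ⊔ W₁).map (QuotientGroup.mk' N) : Set (L ⧸ N))) ^ q *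
      N.relIndex M =
    Nat.card ↥(M.map (QuotientGroup.mk' N) ⊓
        Subgroup.centralizer (W₁.map (QuotientGroup.mk' N) : Set (L ⧸ N))) ^ q *
      Nat.card ↥(M.map (QuotientGroup.mk' N) ⊓
        Subgroup.centralizer (U.map (QuotientGroup.mk' N) : Set (L ⧸ N))) := by
  haveI := hG.H_normal
  haveI := hG.H_nil
  set π := QuotientGroup.mk' N with hπdef
  have hNH : N ≤ H := hNM.trans hMH
  have hker : ∀ x ∈ U ⊔ W₁, π x = 1 → x = 1 := fun x hx h =>
    Subgroup.mem_bot.1 (hG.card_K.2.2.2 ▸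
      (⟨hNH ((QuotientGroup.eq_one_iff x).1 h), hx⟩ : x ∈ H ⊓ (U ⊔ W₁)))
  have hUi : U.map π ≠ ⊥ := fun h => hU (by
    rw [eq_bot_iff]
    intro x hx
    exact Subgroup.mem_bot.2 (hker x (Subgroup.mem_sup_left hx)
      (Subgroup.mem_bot.1 (h ▸ Subgroup.mem_map_of_mem π hx))))
  have hEi : W₁.map π ≠ ⊥ := fun h => hG.W₁_ne (by
    rw [eq_bot_iff]
    intro x hx
    exact Subgroup.mem_bot.2 (hker x (Subgroup.mem_sup_right hx)
      (Subgroup.mem_bot.1 (h ▸ Subgroup.mem_map_of_mem π hx))))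
  have hUW : U ⊓ W₁ = ⊥ := le_bot_iff.1 (hG.K_inf ▸ inf_le_inf_right W₁ hG.U_le)
  have hUE : U.map π ⊓ W₁.map π = ⊥ := by
    rw [eq_bot_iff]
    rintro _ ⟨⟨u, hu, rfl⟩, w, hw, he⟩
    have h1 : u * w⁻¹ = 1 := hker _ (Subgroup.mul_mem _ (Subgroup.mem_sup_left hu)
      (Subgroup.inv_mem _ (Subgroup.mem_sup_right hw))) (by rw [map_mul, map_inv, he, mul_inv_cancel])
    have h2 : u ∈ U ⊓ W₁ := ⟨hu, (mul_inv_eq_one.1 h1) ▸ hw⟩
    rw [hUW, Subgroup.mem_bot] at h2
    rw [Subgroup.mem_bot, h2, map_one]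
  have hconjU : ∀ e ∈ W₁, ∀ u ∈ U, e * u * e⁻¹ ∈ U := fun e he u hu =>
    (Subgroup.mem_normalizer_iff.1 (hG.U_norm he) u).1 hu
  have hM' : Nat.card ↥(M.map π) = N.relIndex M := by
    have := Subgroup.relIndex_ker (K := M) π
    rw [QuotientGroup.ker_mk'] at this
    exact this.symm
  haveI : Group.IsSolvable M :=
    solvable_of_solvable_injective (Subgroup.inclusion_injective hMH)
  have h := S1545.result (U.map π) (W₁.map π) (M.map π) hUi hEi hUE
    (by rintro _ ⟨e, he, rfl⟩ _ ⟨u, hu, rfl⟩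
        exact ⟨e * u * e⁻¹, hconjU e he u hu, by simp⟩)
    (by rintro _ ⟨e, he, rfl⟩ he1 _ ⟨u, hu, rfl⟩ hc
        have h1 : e * u * e⁻¹ * u⁻¹ = 1 := hker _ (Subgroup.mem_sup_left
          (U.mul_mem (hconjU e he u hu) (U.inv_mem hu))) (by
            rw [map_mul, map_mul, map_mul, map_inv, map_inv, hc]; group)
        rw [hG.fpf he (fun h => he1 (by rw [h, map_one])) hu (mul_inv_eq_one.1 (by
          rwa [mul_inv_rev, ← mul_assoc])), map_one])
    (fun x _ a ha => (Subgroup.Normal.map inferInstance π (QuotientGroup.mk'_surjective N)).conj_mem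
      a ha x)
    (by rw [← Subgroup.map_sup, eq_bot_iff]
        rintro _ ⟨⟨a, ha, rfl⟩, b, hb, he⟩
        have h1 : b * a⁻¹ ∈ N := (QuotientGroup.eq_one_iff _).1 (by
          show π (b * a⁻¹) = 1
          rw [map_mul, map_inv, he, mul_inv_cancel])
        have h2 : b ∈ H := by
          have := H.mul_mem (hNH h1) (hMH ha)
          rwa [inv_mul_cancel_right] at this
        have h3 : b = 1 := Subgroup.mem_bot.1 (hG.card_K.2.2.2 ▸ (⟨h2, hb⟩ : b ∈ H ⊓ (U ⊔ W₁)))
        rw [Subgroup.mem_bot, ← he, h3, map_one])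
    (solvable_of_surjective (π.subgroupMap_surjective M))
    (by rw [← Subgroup.map_sup]
        exact (hG.coprime_compl.coprime_dvd_left ((Subgroup.card_map_dvd M π).trans
          (Subgroup.card_dvd_of_le hMH))).coprime_dvd_right (Subgroup.card_map_dvd _ π))
  rw [← Subgroup.map_sup, hM'] at h
  have hq : Nat.card ↥(W₁.map π) = q := by
    rw [← hG.card_W₁]
    refine (Nat.card_congr (Equiv.ofBijective (π.subgroupMap W₁) ⟨?_, π.subgroupMap_surjective W₁⟩)).symm
    refine (injective_iff_map_eq_one _).2 fun a ha => Subtype.ext (hker _ (Subgroup.mem_sup_right a.2) ?_)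
    exact congrArg Subtype.val ha
  rwa [hq] at h

/-- If `W₂ ≤ N`, then `U` centralizes `H` modulo `N`. -/
lemma centralizes_mod (hG : GroupHyp K H U W₁ W₂ p q) (hU : U ≠ ⊥) (N : Subgroup L) [N.Normal]
    (hNH : N ≤ H) (hW : W₂ ≤ N) : ∀ u ∈ U, ∀ h ∈ H, u * h * u⁻¹ * h⁻¹ ∈ N := by
  haveI := hG.H_normal
  set π := QuotientGroup.mk' N with hπdef
  have hfix : H.map π ⊓ Subgroup.centralizer (W₁.map π : Set (L ⧸ N)) = ⊥ := by
    rw [eq_bot_iff]
    rintro _ ⟨⟨x, hx, rfl⟩, hc⟩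
    obtain ⟨w, hw, hw1⟩ := hG.exists_w
    have hcw := mul_comm_of_mem_centralizer hc (Subgroup.mem_map_of_mem π hw)
    have h1 : w * x * w⁻¹ * x⁻¹ ∈ N := (QuotientGroup.eq_one_iff _).1 (by
      show π (w * x * w⁻¹ * x⁻¹) = 1
      rw [map_mul, map_mul, map_mul, map_inv, map_inv, hcw]; group)
    obtain ⟨a, ha, hxa⟩ := hG.map_inf_centralizer N H hNH le_rfl hx hw hw1 h1
    have : x ∈ N := by
      have := N.mul_mem (hW hxa) (N.inv_mem ha)
      rwa [mul_inv_cancel_right] at this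
    exact Subgroup.mem_bot.2 ((QuotientGroup.eq_one_iff x).2 this)
  have h := hG.card_mod_eq hU N H hNH le_rfl
  have hb2 : H.map π ⊓ Subgroup.centralizer ((U ⊔ W₁).map π : Set (L ⧸ N)) = ⊥ :=
    le_bot_iff.1 (hfix ▸ inf_le_inf_left _ (Subgroup.centralizer_le (show (W₁.map π : Set (L ⧸ N)) ⊆ _
      from SetLike.coe_subset_coe.2 (Subgroup.map_mono le_sup_right))))
  rw [hfix, hb2, Subgroup.card_bot, one_pow, one_mul, one_mul] at h
  have hM' : Nat.card ↥(H.map π) = N.relIndex H := by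
    have := Subgroup.relIndex_ker (K := H) π
    rw [QuotientGroup.ker_mk'] at this
    exact this.symm
  have hle : H.map π ⊓ Subgroup.centralizer (U.map π : Set (L ⧸ N)) = H.map π :=
    Subgroup.eq_of_le_of_card_ge inf_le_left (by rw [hM', h])
  intro u hu x hx
  refine (QuotientGroup.eq_one_iff _).1 ?_
  show π (u * x * u⁻¹ * x⁻¹) = 1
  have hcw := mul_comm_of_mem_centralizer (hle.ge (Subgroup.mem_map_of_mem π hx)).2
    (Subgroup.mem_map_of_mem π hu)
  rw [map_mul, map_mul, map_mul, map_inv, map_inv, hcw]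
  group

/-- `|M : N| = p ^ q * |C_{M/N}(U)|` when `W₂` lies in `M` and meets `N` trivially. -/
lemma card_mod (hG : GroupHyp K H U W₁ W₂ p q) (hU : U ≠ ⊥) (N M : Subgroup L) [N.Normal]
    [M.Normal] (hNM : N ≤ M) (hMH : M ≤ H) (hWN : W₂ ⊓ N = ⊥) (hWM : W₂ ≤ M)
    (hact : ¬ ∀ u ∈ U, ∀ x ∈ M, u * x * u⁻¹ * x⁻¹ ∈ N) :
    (∀ x ∈ M, (∀ u ∈ U, u * x * u⁻¹ * x⁻¹ ∈ N) → x ∈ N) ↔ N.relIndex M = p ^ q := by
  haveI := hG.H_normal
  set π := QuotientGroup.mk' N with hπdef
  have h := hG.card_mod_eq hU N M hNM hMH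
  have hfixW : M.map π ⊓ Subgroup.centralizer (W₁.map π : Set (L ⧸ N)) = W₂.map π := by
    obtain ⟨w, hw, hw1⟩ := hG.exists_w
    refine le_antisymm ?_ ?_
    · rintro _ ⟨⟨x, hx, rfl⟩, hc⟩
      have hcw := mul_comm_of_mem_centralizer hc (Subgroup.mem_map_of_mem π hw)
      have h1 : w * x * w⁻¹ * x⁻¹ ∈ N := (QuotientGroup.eq_one_iff _).1 (by
        show π (w * x * w⁻¹ * x⁻¹) = 1
        rw [map_mul, map_mul, map_mul, map_inv, map_inv, hcw]; group)
      obtain ⟨a, ha, hxa⟩ := hG.map_inf_centralizer N M hNM hMH hx hw hw1 h1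
      refine ⟨x * a, hxa, ?_⟩
      rw [map_mul, show π a = 1 from (QuotientGroup.eq_one_iff a).2 ha, mul_one]
    · rintro _ ⟨x, hx, rfl⟩
      refine ⟨Subgroup.mem_map_of_mem π (hWM hx), Subgroup.mem_centralizer_iff.2 ?_⟩
      rintro _ ⟨v, hv, rfl⟩
      rw [← map_mul, ← map_mul]
      congr 1
      by_cases hv1 : v = 1
      · simp [hv1]
      · rw [← hG.cent v hv hv1] at hx
        exact (Subgroup.mem_centralizer_singleton_iff.1 hx.2).symm
  have hcard₂ : Nat.card ↥(W₂.map π) = p := by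
    rw [← hG.card_W₂]
    refine (Nat.card_congr (Equiv.ofBijective (π.subgroupMap W₂) ⟨?_, π.subgroupMap_surjective W₂⟩)).symm
    refine (injective_iff_map_eq_one _).2 fun a ha => Subtype.ext (Subgroup.mem_bot.1 (hWN ▸
      (⟨a.2, (QuotientGroup.eq_one_iff _).1 (congrArg Subtype.val ha)⟩ : (a : L) ∈ W₂ ⊓ N)))
  rw [hfixW, hcard₂] at h
  have hiff : (∀ x ∈ M, (∀ u ∈ U, u * x * u⁻¹ * x⁻¹ ∈ N) → x ∈ N) ↔
      M.map π ⊓ Subgroup.centralizer (U.map π : Set (L ⧸ N)) = ⊥ := by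
    constructor
    · intro hf
      rw [eq_bot_iff]
      rintro _ ⟨⟨x, hx, rfl⟩, hc⟩
      refine Subgroup.mem_bot.2 ((QuotientGroup.eq_one_iff x).2 (hf x hx fun u hu => ?_))
      refine (QuotientGroup.eq_one_iff _).1 ?_
      show π (u * x * u⁻¹ * x⁻¹) = 1
      rw [map_mul, map_mul, map_mul, map_inv, map_inv,
        mul_comm_of_mem_centralizer hc (Subgroup.mem_map_of_mem π hu)]
      group
    · intro hb x hx hxc
      refine (QuotientGroup.eq_one_iff x).1 (Subgroup.mem_bot.1 (hb.le ⟨Subgroup.mem_map_of_mem π hx,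
        Subgroup.mem_centralizer_iff.2 ?_⟩))
      rintro _ ⟨u, hu, rfl⟩
      have h1 : π (u * x * u⁻¹ * x⁻¹) = 1 := (QuotientGroup.eq_one_iff _).2 (hxc u hu)
      rw [map_mul, map_mul, map_mul, map_inv, map_inv] at h1
      exact mul_inv_eq_one.1 (by rwa [mul_inv_rev, ← mul_assoc])
  rw [hiff]
  constructor
  · intro hb
    have hb2 : M.map π ⊓ Subgroup.centralizer ((U ⊔ W₁).map π : Set (L ⧸ N)) = ⊥ :=
      le_bot_iff.1 (hb ▸ inf_le_inf_left _ (Subgroup.centralizer_le (show (U.map π : Set (L ⧸ N)) ⊆ _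
        from SetLike.coe_subset_coe.2 (Subgroup.map_mono le_sup_left))))
    rw [hb2, hb, Subgroup.card_bot, one_pow, one_mul, mul_one] at h
    exact h
  · intro hc
    rw [hc] at h
    have hpq : 0 < p ^ q := pow_pos hG.hp.pos q
    have h0 : Nat.card ↥(M.map π ⊓ Subgroup.centralizer ((U ⊔ W₁).map π : Set (L ⧸ N))) ^ q =
        Nat.card ↥(M.map π ⊓ Subgroup.centralizer (U.map π : Set (L ⧸ N))) :=
      Nat.eq_of_mul_eq_mul_right hpq (h.trans (mul_comm _ _))
    -- the common part is centralized by `W₁`, hence lies in the image of `W₂`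
    set V := M.map π ⊓ Subgroup.centralizer ((U ⊔ W₁).map π : Set (L ⧸ N)) with hV
    have hVW : V ≤ W₂.map π := by
      rw [← hfixW]
      exact inf_le_inf_left _ (Subgroup.centralizer_le (show (W₁.map π : Set (L ⧸ N)) ⊆ _
        from SetLike.coe_subset_coe.2 (Subgroup.map_mono le_sup_right)))
    by_contra hne
    have hV1 : Nat.card V ≠ 1 := fun h1 => hne (Subgroup.eq_bot_of_card_eq _ (by rw [← h0, h1, one_pow]))
    have hVeq : V = W₂.map π := by
      refine Subgroup.eq_of_le_of_card_ge hVW (le_of_eq ?_)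
      rw [hcard₂]
      exact (((Nat.dvd_prime hG.hp).1 (hcard₂ ▸ Subgroup.card_dvd_of_le hVW)).resolve_left hV1).symm
    have hVp : Nat.card V = p := by rw [hVeq, hcard₂]
    have hsmall : Nat.card ↥(M.map π ⊓ Subgroup.centralizer (U.map π : Set (L ⧸ N))) ≤ Nat.card ↥(M.map π) :=
      Nat.le_of_dvd Nat.card_pos (Subgroup.card_dvd_of_le inf_le_left)
    have hM' : Nat.card ↥(M.map π) = p ^ q := by
      have := Subgroup.relIndex_ker (K := M) π
      rw [QuotientGroup.ker_mk', hc] at this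
      exact this.symm
    have heq : M.map π ⊓ Subgroup.centralizer (U.map π : Set (L ⧸ N)) = M.map π :=
      Subgroup.eq_of_le_of_card_ge inf_le_left (by rw [hM', ← h0, hVp])
    refine hact fun u hu x hx => (QuotientGroup.eq_one_iff _).1 ?_
    show π (u * x * u⁻¹ * x⁻¹) = 1
    rw [map_mul, map_mul, map_mul, map_inv, map_inv,
      mul_comm_of_mem_centralizer (heq.ge (Subgroup.mem_map_of_mem π hx)).2
        (Subgroup.mem_map_of_mem π hu)]
    group

end GroupHyp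

namespace GroupHyp

/-- Burnside: coprime action trivial modulo the derived subgroup is trivial. -/
lemma comm_of_derived (hG : GroupHyp K H U W₁ W₂ p q) (N : Subgroup L) [N.Normal] (hNH : N ≤ H)
    (hN : ∀ u ∈ U, ∀ a ∈ N, u * a = a * u)
    (hmod : ∀ u ∈ U, ∀ h ∈ H, u * h * u⁻¹ * h⁻¹ ∈ N ⊔ ⁅H, H⁆) :
    ∀ u ∈ U, ∀ h ∈ H, u * h = h * u := by
  haveI := hG.H_normal
  have hle : U ≤ Subgroup.centralizer (H : Set L) := by
    refine mem_of_primary _ U fun r k hr u hu h1 => ?_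
    by_cases hu1 : u = 1
    · rw [hu1]; exact Subgroup.one_mem _
    haveI : Fact r.Prime := ⟨hr⟩
    set A := N ⊔ ⁅H, H⁆
    have hAH : A ≤ H := sup_le hNH (Subgroup.commutator_le_self H)
    have hrA : ¬ r ∣ Nat.card A := by
      intro hd
      obtain ⟨m, -, hm⟩ := (Nat.dvd_prime_pow hr).1 (orderOf_dvd_of_pow_eq_one h1)
      have hm0 : m ≠ 0 := fun h0 => hu1 (orderOf_eq_one_iff.1 (by rw [hm, h0, pow_zero]))
      have hd' : r ∣ Nat.card ↥(U ⊔ W₁) :=
        ((dvd_pow_self r hm0).trans hm.symm.dvd).trans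
          (Subgroup.orderOf_dvd_natCard _ (Subgroup.mem_sup_left hu))
      exact hr.ne_one (Nat.eq_one_of_dvd_coprimes hG.coprime_compl
        (hd.trans (Subgroup.card_dvd_of_le hAH)) hd')
    have hP : IsPGroup r (Subgroup.zpowers u) := by
      rintro ⟨x, hx⟩
      obtain ⟨j, rfl⟩ := Subgroup.mem_zpowers_iff.1 hx
      refine ⟨k, Subtype.ext ?_⟩
      show (u ^ j) ^ r ^ k = 1
      rw [← zpow_natCast, ← zpow_mul, mul_comm, zpow_mul, zpow_natCast, h1, one_zpow]
    set S : Subgroup L := H ⊓ Subgroup.centralizer ({u} : Set L)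
    have hNS : N ≤ S := fun a ha =>
      ⟨hNH ha, Subgroup.mem_centralizer_singleton_iff.2 (hN u hu a ha).symm⟩
    have hsup : S ⊔ ⁅H, H⁆ = H := by
      refine le_antisymm (sup_le inf_le_left (Subgroup.commutator_le_self H)) fun x hx => ?_
      obtain ⟨a, ha, hfix⟩ := exists_fixed_coset hr (Subgroup.zpowers u) A hP hrA x
        (fun w hw => hmod w (Subgroup.zpowers_le.2 hu hw) x hx)
      have h2 : x * a ∈ S := ⟨H.mul_mem hx (hAH ha),
        Subgroup.mem_centralizer_singleton_iff.2 (hfix u (Subgroup.mem_zpowers u)).symm⟩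
      have h3 : a ∈ S ⊔ ⁅H, H⁆ := sup_le_sup_right hNS _ ha
      have := Subgroup.mul_mem _ (Subgroup.mem_sup_left (T := ⁅H, H⁆) h2) (Subgroup.inv_mem _ h3)
      rwa [mul_inv_cancel_right] at this
    have htop := eq_top_of_sup_commutator hG.H_nil (S.subgroupOf H) (by
      apply Subgroup.map_injective H.subtype_injective
      rw [Subgroup.map_sup, Subgroup.map_subgroupOf_eq_of_le inf_le_left, commutator_def,
        Subgroup.map_commutator, ← MonoidHom.range_eq_map, Subgroup.range_subtype, hsup])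
    have hHS := Subgroup.subgroupOf_eq_top.1 htop
    exact Subgroup.mem_centralizer_iff.2 fun x hx =>
      Subgroup.mem_centralizer_singleton_iff.1 (hHS hx).2
  exact fun u hu h hh => (Subgroup.mem_centralizer_iff.1 (hle hu) h hh).symm

lemma act_of_faithful (hG : GroupHyp K H U W₁ W₂ p q) (hU : U ≠ ⊥)
    (hUH : ¬ ∀ u ∈ U, ∀ h ∈ H, u * h = h * u) (N : Subgroup L) [N.Normal] (hNH : N ≤ H)
    (hWN : W₂ ⊓ N = ⊥) : ¬ ∀ u ∈ U, ∀ h ∈ H, u * h * u⁻¹ * h⁻¹ ∈ N := by
  intro hc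
  refine hUH fun u hu h hh => ?_
  have := hG.comm_mod_trans ⊥ N hNH (fun u hu a ha => Subgroup.mem_bot.2 (by
    rw [hG.U_centralizes hU N hNH hWN u hu a ha]; group)) hc u hu h hh
  exact mul_inv_eq_one.1 (by rw [mul_inv_rev, ← mul_assoc]; exact Subgroup.mem_bot.1 this)

end GroupHyp

/-- The elements of `H` fixed by `U` modulo `N`. -/
def fixMod (H U N : Subgroup L) [H.Normal] [N.Normal] : Subgroup L :=
  H ⊓ (Subgroup.centralizer (U.map (QuotientGroup.mk' N) : Set (L ⧸ N))).comap (QuotientGroup.mk' N)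

lemma mem_fixMod {N : Subgroup L} [H.Normal] [N.Normal] {x : L} :
    x ∈ fixMod H U N ↔ x ∈ H ∧ ∀ u ∈ U, u * x * u⁻¹ * x⁻¹ ∈ N := by
  set π := QuotientGroup.mk' N with hπ
  simp only [fixMod, Subgroup.mem_inf, Subgroup.mem_comap, Subgroup.mem_centralizer_iff,
    Subgroup.coe_map, Set.forall_mem_image, SetLike.mem_coe, ← hπ]
  refine and_congr Iff.rfl (forall₂_congr fun u _ => ?_)
  rw [show u * x * u⁻¹ * x⁻¹ ∈ N ↔ π (u * x * u⁻¹ * x⁻¹) = 1 from (QuotientGroup.eq_one_iff _).symm,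
    map_mul, map_mul, map_mul, map_inv, map_inv, mul_inv_eq_one, mul_inv_eq_iff_eq_mul]

lemma fixMod_normal (hG : GroupHyp K H U W₁ W₂ p q) [H.Normal] (N : Subgroup L) [hN : N.Normal]
    (hab : ⁅H, H⁆ ≤ N) : (fixMod H U N).Normal := by
  constructor
  intro x hx g
  rw [mem_fixMod] at hx ⊢
  obtain ⟨hxH, hxU⟩ := hx
  have key : ∀ g ∈ Subgroup.normalizer (U : Set L), ∀ x, (∀ u ∈ U, u * x * u⁻¹ * x⁻¹ ∈ N) →
      ∀ u ∈ U, u * (g * x * g⁻¹) * u⁻¹ * (g * x * g⁻¹)⁻¹ ∈ N := by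
    intro g hg x hxU u hu
    have h1 : g⁻¹ * u * g ∈ U := by
      have := (Subgroup.mem_normalizer_iff.1 (inv_mem hg) u).1 hu
      rwa [inv_inv] at this
    have := hN.conj_mem _ (hxU _ h1) g
    convert this using 1
    group
  refine ⟨‹H.Normal›.conj_mem x hxH g, ?_⟩
  have hg : g ∈ H ⊔ U ⊔ W₁ := by rw [hG.HU, hG.K_sup]; trivial
  rw [sup_assoc] at hg
  obtain ⟨a, ha, b, hb, rfl⟩ := Subgroup.mem_sup_of_normal_left.1 hg
  have hb' : b ∈ Subgroup.normalizer (U : Set L) := (sup_le Subgroup.le_normalizer hG.U_norm) hb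
  intro u hu
  set y := b * x * b⁻¹ with hy
  have hyH : y ∈ H := ‹H.Normal›.conj_mem x hxH b
  have hyU := key b hb' x hxU u hu
  rw [← hy] at hyU
  have hc : a * y * a⁻¹ * y⁻¹ ∈ N := hab (Subgroup.commutator_mem_commutator ha hyH)
  have e : a * b * x * (a * b)⁻¹ = a * y * a⁻¹ * y⁻¹ * y := by rw [hy]; group
  set c := a * y * a⁻¹ * y⁻¹ with hcdef
  rw [e]
  have := N.mul_mem (N.mul_mem (hN.conj_mem _ hc u) hyU) (N.inv_mem hc)
  convert this using 1
  group

/-- Peterfalvi (9.6). -/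
theorem exists_chief (hG : GroupHyp K H U W₁ W₂ p q) (hU : U ≠ ⊥)
    (hUH : ¬ ∀ u ∈ U, ∀ h ∈ H, u * h = h * u) :
    ∃ H₀ C : Subgroup L, ChiefHyp H U W₂ H₀ C p q := by
  classical
  haveI := hG.H_normal
  haveI : Fintype (Subgroup L) := Fintype.ofFinite _
  obtain ⟨N, hN, hmax⟩ := Finset.exists_max_image
    (Finset.univ.filter fun N : Subgroup L => N.Normal ∧ N ≤ H ∧ W₂ ⊓ N = ⊥)
    (fun N : Subgroup L => Nat.card N) ⟨⊥, by simp [Subgroup.normal_bot]⟩
  obtain ⟨-, hNn, hNH, hWN⟩ := Finset.mem_filter.1 hN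
  haveI := hNn
  have hW : ∀ M : Subgroup L, M.Normal → N ≤ M → M ≤ H → M ≠ N → W₂ ≤ M := by
    intro M hMn hNM hMH hne
    by_contra hWM
    have hbot : W₂ ⊓ M = ⊥ := by
      refine Subgroup.eq_bot_of_card_eq _ (((Nat.dvd_prime hG.hp).1
        (hG.card_W₂ ▸ Subgroup.card_dvd_of_le (inf_le_left (b := M)))).resolve_right fun h => hWM ?_)
      have := Subgroup.eq_of_le_of_card_ge (inf_le_left : W₂ ⊓ M ≤ W₂) (by rw [h, hG.card_W₂])
      exact this ▸ inf_le_right
    have := hmax M (Finset.mem_filter.2 ⟨Finset.mem_univ _, hMn, hMH, hbot⟩)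
    exact hne (Subgroup.eq_of_le_of_card_ge hNM this).symm
  have hWH : W₂ ≤ H := hG.W₂_le
  have hact := hG.act_of_faithful hU hUH N hNH hWN
  -- `H / N` is abelian
  have hab : ⁅H, H⁆ ≤ N := by
    by_contra hne
    have hM := hW (N ⊔ ⁅H, H⁆) inferInstance le_sup_left
      (sup_le hNH (Subgroup.commutator_le_self H)) (fun e => hne (e ▸ le_sup_right))
    exact hUH (hG.comm_of_derived N hNH (hG.U_centralizes hU N hNH hWN)
      (hG.centralizes_mod hU _ (sup_le hNH (Subgroup.commutator_le_self H)) hM))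
  set π := QuotientGroup.mk' N with hπ
  have hπN : ∀ {x : L}, π x = 1 ↔ x ∈ N := fun {x} => QuotientGroup.eq_one_iff x
  have hcomm : ∀ a ∈ H, ∀ b ∈ H, Commute (π a) (π b) := by
    intro a ha b hb
    have h1 := hπN.2 (hab (Subgroup.commutator_mem_commutator ha hb))
    rw [map_commutatorElement, commutatorElement_eq_one_iff_mul_comm] at h1
    exact h1
  -- exponent `p`
  let N₂ : Subgroup L :=
    { carrier := {x | x ∈ H ∧ x ^ p ∈ N}
      one_mem' := ⟨H.one_mem, by rw [one_pow]; exact N.one_mem⟩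
      mul_mem' := fun {a b} ha hb => ⟨H.mul_mem ha.1 hb.1, hπN.1 (by
        rw [map_pow, map_mul, (hcomm a ha.1 b hb.1).mul_pow, ← map_pow, ← map_pow, hπN.2 ha.2,
          hπN.2 hb.2, one_mul])⟩
      inv_mem' := fun {a} ha => ⟨H.inv_mem ha.1, by rw [inv_pow]; exact N.inv_mem ha.2⟩ }
  let N₃ : Subgroup L :=
    { carrier := {x | x ∈ H ∧ ∃ h ∈ H, π x = π h ^ p}
      one_mem' := ⟨H.one_mem, 1, H.one_mem, by rw [map_one, one_pow]⟩
      mul_mem' := fun {a b} ha hb => by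
        obtain ⟨ha, x, hx, hax⟩ := ha
        obtain ⟨hb, y, hy, hby⟩ := hb
        exact ⟨H.mul_mem ha hb, x * y, H.mul_mem hx hy, by
          rw [map_mul, map_mul, (hcomm x hx y hy).mul_pow, hax, hby]⟩
      inv_mem' := fun {a} ha => by
        obtain ⟨ha, x, hx, hax⟩ := ha
        exact ⟨H.inv_mem ha, x⁻¹, H.inv_mem hx, by rw [map_inv, map_inv, inv_pow, hax]⟩ }
  haveI : N₂.Normal := ⟨fun x hx g => ⟨hG.H_normal.conj_mem x hx.1 g, by
    rw [conj_pow]; exact hNn.conj_mem _ hx.2 g⟩⟩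
  haveI hN₃ : N₃.Normal := ⟨fun x hx g => by
    obtain ⟨hxH, h, hh, e⟩ := hx
    exact ⟨hG.H_normal.conj_mem x hxH g, g * h * g⁻¹, hG.H_normal.conj_mem h hh g, by
      rw [map_mul, map_mul, e, map_mul, map_mul, map_inv, conj_pow]⟩⟩
  have hN₂ : ∀ u ∈ U, ∀ h ∈ H, u * h * u⁻¹ * h⁻¹ ∈ N₂ :=
    hG.centralizes_mod hU N₂ (fun x hx => hx.1) fun x hx => ⟨hWH hx, by
      have := Subgroup.orderOf_dvd_natCard W₂ hx
      rw [hG.card_W₂] at this
      rw [orderOf_dvd_iff_pow_eq_one.1 this]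
      exact N.one_mem⟩
  have hN₃N : ∀ u ∈ U, ∀ x ∈ N₃, u * x * u⁻¹ * x⁻¹ ∈ N := by
    intro u hu x hx
    obtain ⟨-, h, hh, e⟩ := hx
    refine hπN.1 ?_
    set c := u * h * u⁻¹ * h⁻¹ with hc
    have hcN : c ∈ N₂ := hN₂ u hu h hh
    have h1 : π u * π x * (π u)⁻¹ = (π c * π h) ^ p := by
      rw [e, ← conj_pow, ← map_inv, ← map_mul, ← map_mul, ← map_mul]
      congr 2
      rw [hc]; group
    rw [map_mul, map_mul, map_mul, map_inv, map_inv, h1, (hcomm c hcN.1 h hh).mul_pow, ← e,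
      ← map_pow, hπN.2 hcN.2, one_mul, mul_inv_cancel]
  have hNN₃ : N ≤ N₃ := fun x hx => ⟨hNH hx, 1, H.one_mem, by rw [map_one, one_pow, hπN.2 hx]⟩
  have hpow : ∀ x ∈ H, x ^ p ∈ N := by
    have heq : N₃ = N := by
      by_contra hne
      exact hact (hG.comm_mod_trans N N₃ (fun x hx => hx.1) hN₃N
        (hG.centralizes_mod hU N₃ (fun x hx => hx.1) (hW N₃ hN₃ hNN₃ (fun x hx => hx.1) hne)))
    intro x hx
    rw [← heq]
    exact ⟨H.pow_mem hx p, x, hx, map_pow π x p⟩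
  -- no fixed points, hence the order
  have hfix : ∀ x ∈ H, (∀ u ∈ U, u * x * u⁻¹ * x⁻¹ ∈ N) → x ∈ N := by
    haveI := fixMod_normal hG N hab
    have hle : fixMod H U N ≤ H := fun x hx => (mem_fixMod.1 hx).1
    have heq : fixMod H U N = N := by
      by_contra hne
      have hNF : N ≤ fixMod H U N := fun x hx => mem_fixMod.2 ⟨hNH hx, fun u _ => by
        exact N.mul_mem (hNn.conj_mem x hx u) (N.inv_mem hx)⟩
      exact hact (hG.comm_mod_trans N (fixMod H U N) hle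
        (fun u hu a ha => (mem_fixMod.1 ha).2 u hu)
        (hG.centralizes_mod hU _ hle (hW _ inferInstance hNF hle hne)))
    exact fun x hx hxu => heq ▸ mem_fixMod.2 ⟨hx, hxu⟩
  have hcard := (hG.card_mod hU N H hNH le_rfl hWN hWH hact).1 hfix
  let C : Subgroup L :=
    { carrier := {x | x ∈ U ∧ ∀ h ∈ H, x * h * x⁻¹ * h⁻¹ ∈ N}
      one_mem' := ⟨U.one_mem, fun h _ => by simp⟩
      mul_mem' := fun {a b} ha hb => ⟨U.mul_mem ha.1 hb.1, fun h hh => by
        have h1 : b * h * b⁻¹ ∈ H := hG.H_normal.conj_mem h hh b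
        have := N.mul_mem (ha.2 _ h1) (hb.2 h hh)
        convert this using 1
        group⟩
      inv_mem' := fun {a} ha => ⟨U.inv_mem ha.1, fun h hh => by
        have h1 : a⁻¹ * h * a ∈ H := by simpa using hG.H_normal.conj_mem h hh a⁻¹
        have := N.inv_mem (ha.2 _ h1)
        convert this using 1
        group⟩ }
  exact ⟨N, C, ⟨hNn, hNH, hcard, hWN, hab, hpow, fun x => Iff.rfl⟩⟩

namespace ChiefHyp

variable {H₀ C : Subgroup L}

lemma act (hc : ChiefHyp H U W₂ H₀ C p q) (hG : GroupHyp K H U W₁ W₂ p q) (hU : U ≠ ⊥)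
    (hUH : ¬ ∀ u ∈ U, ∀ h ∈ H, u * h = h * u) : ¬ ∀ u ∈ U, ∀ h ∈ H, u * h * u⁻¹ * h⁻¹ ∈ H₀ := by
  haveI := hc.normal
  exact hG.act_of_faithful hU hUH H₀ hc.le hc.W₂_inf

lemma C_ne (hc : ChiefHyp H U W₂ H₀ C p q) (hG : GroupHyp K H U W₁ W₂ p q) (hU : U ≠ ⊥)
    (hUH : ¬ ∀ u ∈ U, ∀ h ∈ H, u * h = h * u) : C ≠ U := fun e =>
  hc.act hG hU hUH fun u hu h hh => ((hc.mem_C u).1 (e.symm ▸ hu)).2 h hh

lemma fixed_trivial (hc : ChiefHyp H U W₂ H₀ C p q) (hG : GroupHyp K H U W₁ W₂ p q) (hU : U ≠ ⊥)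
    (hUH : ¬ ∀ u ∈ U, ∀ h ∈ H, u * h = h * u) :
    ∀ x ∈ H, (∀ u ∈ U, u * x * u⁻¹ * x⁻¹ ∈ H₀) → x ∈ H₀ := by
  haveI := hc.normal
  haveI := hG.H_normal
  exact (hG.card_mod hU H₀ H hc.le le_rfl hc.W₂_inf hG.W₂_le (hc.act hG hU hUH)).2 hc.card_eq

/-- `H / H₀` is a chief factor of `L`. -/
lemma minimal (hc : ChiefHyp H U W₂ H₀ C p q) (hG : GroupHyp K H U W₁ W₂ p q) (hU : U ≠ ⊥)
    (hUH : ¬ ∀ u ∈ U, ∀ h ∈ H, u * h = h * u) (M : Subgroup L) [M.Normal] (h0M : H₀ ≤ M)
    (hMH : M ≤ H) : M = H₀ ∨ M = H := by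
  haveI := hc.normal
  haveI := hG.H_normal
  by_cases hW : W₂ ⊓ M = ⊥
  · left
    refine le_antisymm (fun x hx => hc.fixed_trivial hG hU hUH x (hMH hx) fun u hu => ?_) h0M
    rw [hG.U_centralizes hU M hMH hW u hu x hx]
    simp
  · right
    have hWM : W₂ ≤ M := by
      have := ((Nat.dvd_prime hG.hp).1
        (hG.card_W₂ ▸ Subgroup.card_dvd_of_le (inf_le_left (b := M)))).resolve_left
          fun h => hW (Subgroup.eq_bot_of_card_eq _ h)
      exact (Subgroup.eq_of_le_of_card_ge (inf_le_left : W₂ ⊓ M ≤ W₂) (by rw [this, hG.card_W₂])) ▸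
        inf_le_right
    have hact : ¬ ∀ u ∈ U, ∀ x ∈ M, u * x * u⁻¹ * x⁻¹ ∈ H₀ := fun h => by
      have hle : W₂ ≤ H₀ := fun x hx => hc.fixed_trivial hG hU hUH x (hG.W₂_le hx) fun u hu =>
        h u hu x (hWM hx)
      have h2 := hG.card_W₂
      rw [← inf_eq_left.2 hle, hc.W₂_inf, Subgroup.card_bot] at h2
      exact hG.hp.ne_one h2.symm
    have h1 := (hG.card_mod hU H₀ M h0M hMH hc.W₂_inf hWM hact).1 fun x hx =>
      hc.fixed_trivial hG hU hUH x (hMH hx)
    have h2 := Subgroup.relIndex_mul_relIndex H₀ M H h0M hMH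
    rw [h1, hc.card_eq] at h2
    have h3 : M.relIndex H = 1 := by
      refine Nat.eq_of_mul_eq_mul_left (pow_pos hG.hp.pos q) ?_
      rw [h2, mul_one]
    exact le_antisymm hMH (Subgroup.relIndex_eq_one.1 h3)

/-- The dichotomy of Peterfalvi (9.7). -/
theorem dichotomy (hc : ChiefHyp H U W₂ H₀ C p q) (hG : GroupHyp K H U W₁ W₂ p q) (hU : U ≠ ⊥)
    (hUH : ¬ ∀ u ∈ U, ∀ h ∈ H, u * h = h * u) :
    (∀ N : Subgroup L, H₀ ≤ N → N ≤ H → U ≤ Subgroup.normalizer (N : Set L) → N = H₀ ∨ N = H) ∨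
      ∃ a ∈ H, (∀ u ∈ U, ∃ k : ℕ, u * a * u⁻¹ * (a ^ k)⁻¹ ∈ H₀) ∧
        H₀ ⊔ Subgroup.closure {x | ∃ w ∈ W₁, x = w * a * w⁻¹} = H := by
  classical
  by_cases hirr : ∀ N : Subgroup L, H₀ ≤ N → N ≤ H → U ≤ Subgroup.normalizer (N : Set L) →
      N = H₀ ∨ N = H
  · exact Or.inl hirr
  right
  push Not at hirr
  haveI := hc.normal
  haveI := hG.H_normal
  haveI : Fintype (Subgroup L) := Fintype.ofFinite _
  let Good : Subgroup L → Prop := fun N =>
    H₀ ≤ N ∧ N ≤ H ∧ U ≤ Subgroup.normalizer (N : Set L) ∧ N ≠ H₀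
  obtain ⟨N₀, h1, h2, h3, h4, h5⟩ := hirr
  obtain ⟨M₀, hM₀, hmin⟩ := Finset.exists_min_image (Finset.univ.filter Good)
    (fun N : Subgroup L => Nat.card N) ⟨N₀, Finset.mem_filter.2 ⟨Finset.mem_univ _, h1, h2, h3, h4⟩⟩
  obtain ⟨-, hM0, hMH, hMU, hMne⟩ := Finset.mem_filter.1 hM₀
  have hMneH : M₀ ≠ H := fun e => h5 (Subgroup.eq_of_le_of_card_ge h2
    (e ▸ hmin N₀ (Finset.mem_filter.2 ⟨Finset.mem_univ _, h1, h2, h3, h4⟩)))
  let Mw : L → Subgroup L := fun w => M₀.map (MulAut.conj w).toMonoidHom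
  have hmem : ∀ w x, x ∈ Mw w ↔ w⁻¹ * x * w ∈ M₀ := by
    intro w x
    simp only [Mw, Subgroup.mem_map, MulEquiv.coe_toMonoidHom, MulAut.conj_apply]
    refine ⟨?_, fun h => ⟨_, h, by group⟩⟩
    rintro ⟨y, hy, rfl⟩
    convert hy using 1
    group
  have hMw : ∀ w ∈ W₁, H₀ ≤ Mw w ∧ Mw w ≤ H ∧ U ≤ Subgroup.normalizer (Mw w : Set L) ∧
      Nat.card (Mw w) = Nat.card M₀ := by
    intro w hw
    refine ⟨fun x hx => (hmem w x).2 (hM0 (by simpa using hc.normal.conj_mem x hx w⁻¹)),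
      fun x hx => ?_, fun u hu => ?_, Subgroup.card_map_of_injective (MulAut.conj w).injective⟩
    · have := hG.H_normal.conj_mem _ (hMH ((hmem w x).1 hx)) w
      simpa [mul_assoc] using this
    · rw [Subgroup.mem_normalizer_iff]
      intro x
      rw [hmem, hmem]
      have hu' : w⁻¹ * u * w ∈ U := by
        have := (Subgroup.mem_normalizer_iff.1 (inv_mem (hG.U_norm hw)) u).1 hu
        rwa [inv_inv] at this
      have := Subgroup.mem_normalizer_iff.1 (hMU hu') (w⁻¹ * x * w)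
      rw [show w⁻¹ * u * w * (w⁻¹ * x * w) * (w⁻¹ * u * w)⁻¹ = w⁻¹ * (u * x * u⁻¹) * w by group] at this
      exact this
  have hnH : ∀ N : Subgroup L, H₀ ≤ N → N ≤ H → H ≤ Subgroup.normalizer (N : Set L) := by
    intro N h0 hNH x hx
    rw [Subgroup.mem_normalizer_iff]
    intro y
    constructor
    · intro hy
      have := N.mul_mem (h0 (hc.comm (Subgroup.commutator_mem_commutator hx (hNH hy)))) hy
      simpa [commutatorElement_def] using this
    · intro hy
      have hyH : y ∈ H := by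
        have := H.mul_mem (H.mul_mem (H.inv_mem hx) (hNH hy)) hx
        simpa [mul_assoc] using this
      have := N.mul_mem (N.inv_mem (h0 (hc.comm (Subgroup.commutator_mem_commutator hx hyH)))) hy
      simpa [commutatorElement_def, mul_assoc] using this
  set d := H₀.relIndex M₀ with hd
  have hcardM : Nat.card M₀ = Nat.card H₀ * d := by
    rw [hd, ← Nat.card_congr (Subgroup.subgroupOfEquivOfLe hM0).toEquiv]
    exact (Subgroup.card_mul_index _).symm
  -- the sums of conjugates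
  have key : ∀ s : Finset W₁, ∃ S : Subgroup L, H₀ ≤ S ∧ S ≤ H ∧
      U ≤ Subgroup.normalizer (S : Set L) ∧ (∀ w ∈ s, Mw (w : L) ≤ S) ∧
      S ≤ H₀ ⊔ ⨆ w ∈ s, Mw ((w : W₁) : L) ∧
      ∃ k ≤ s.card, Nat.card S = Nat.card H₀ * d ^ k := by
    intro s
    induction s using Finset.induction_on with
    | empty =>
      exact ⟨H₀, le_rfl, hc.le, fun u _ => by
        rw [Subgroup.normalizer_eq_top]; trivial, by simp, by simp, 0, le_rfl, by simp⟩
    | insert w s hws ih =>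
      obtain ⟨S, h0S, hSH, hSU, hsub, hle, k, hk, hcard⟩ := ih
      obtain ⟨m1, m2, m3, m4⟩ := hMw w w.2
      refine ⟨Mw (w : L) ⊔ S, h0S.trans le_sup_right, sup_le m2 hSH, fun u hu => ?_, ?_, ?_, ?_⟩
      · rw [Subgroup.mem_normalizer_iff_map_conj_eq, Subgroup.map_sup,
          Subgroup.mem_normalizer_iff_map_conj_eq.1 (m3 hu),
          Subgroup.mem_normalizer_iff_map_conj_eq.1 (hSU hu)]
      · intro v hv
        rcases Finset.mem_insert.1 hv with rfl | hv
        · exact le_sup_left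
        · exact (hsub v hv).trans le_sup_right
      · rw [Finset.iSup_insert]
        exact sup_le (le_sup_left.trans le_sup_right)
          (hle.trans (sup_le le_sup_left (le_sup_right.trans le_sup_right)))
      · rw [Finset.card_insert_of_notMem hws]
        have hsum := Thompson.card_sup_mul_card_inf (H := Mw (w : L)) (K := S)
          (hSH.trans (hnH _ m1 m2))
        by_cases hin : Mw (w : L) ⊓ S = H₀
        · refine ⟨k + 1, by omega, Nat.eq_of_mul_eq_mul_right (Nat.card_pos (α := H₀)) ?_⟩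
          rw [hin, m4, hcard, hcardM] at hsum
          rw [hsum]; ring
        · have hgood : Good (Mw (w : L) ⊓ S) := ⟨le_inf m1 h0S, inf_le_left.trans m2, fun u hu => by
            rw [Subgroup.mem_normalizer_iff]
            intro x
            simp only [Subgroup.mem_inf]
            rw [Subgroup.mem_normalizer_iff.1 (m3 hu) x, Subgroup.mem_normalizer_iff.1 (hSU hu) x],
            hin⟩
          have hle' : Nat.card (Mw (w : L)) ≤ Nat.card ↥(Mw (w : L) ⊓ S) := by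
            rw [m4]; exact hmin _ (Finset.mem_filter.2 ⟨Finset.mem_univ _, hgood⟩)
          have heq : Mw (w : L) ⊓ S = Mw (w : L) := Subgroup.eq_of_le_of_card_ge inf_le_left hle'
          rw [sup_eq_right.2 (inf_eq_left.1 heq)]
          exact ⟨k, by omega, hcard⟩
  haveI : Fintype W₁ := Fintype.ofFinite _
  obtain ⟨S, h0S, hSH, hSU, hsub, hle, k, hk, hcard⟩ := key Finset.univ
  rw [Finset.card_univ, ← Nat.card_eq_fintype_card, hG.card_W₁] at hk
  -- it is all of `H`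
  have hS1 : S = H₀ ⊔ ⨆ w : W₁, Mw (w : L) := by
    refine le_antisymm (hle.trans (sup_le le_sup_left (iSup₂_le fun w _ =>
      le_sup_of_le_right (le_iSup (fun w : W₁ => Mw (w : L)) w)))) (sup_le h0S (iSup_le fun w =>
      hsub w (Finset.mem_univ w)))
  haveI hSn : S.Normal := by
    rw [← Subgroup.normalizer_eq_top_iff, eq_top_iff, ← hG.K_sup, ← hG.HU]
    refine sup_le (sup_le (hnH S h0S hSH) hSU) fun v hv => ?_
    have hperm : ∀ v ∈ W₁, S.map (MulAut.conj v).toMonoidHom ≤ S := by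
      intro v hv
      rw [hS1, Subgroup.map_sup, Subgroup.map_iSup]
      refine sup_le (le_sup_of_le_left ?_) (iSup_le fun w => le_sup_of_le_right ?_)
      · rintro _ ⟨x, hx, rfl⟩
        exact hc.normal.conj_mem x hx v
      · refine le_trans (le_of_eq ?_) (le_iSup (fun w : W₁ => Mw (w : L)) (⟨v, hv⟩ * w))
        show (M₀.map (MulAut.conj (w : L)).toMonoidHom).map (MulAut.conj v).toMonoidHom =
          M₀.map (MulAut.conj (v * w)).toMonoidHom
        rw [Subgroup.map_map]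
        congr 1
        ext x
        simp [mul_assoc]
    rw [Subgroup.mem_normalizer_iff_map_conj_eq]
    exact Subgroup.eq_of_le_of_card_ge (hperm v hv)
      (le_of_eq (Subgroup.card_map_of_injective (MulAut.conj v).injective).symm)
  have hM₀S : M₀ ≤ S := fun x hx => hsub 1 (Finset.mem_univ _) ((hmem _ x).2 (by simpa using hx))
  have hSeq : S = H := (hc.minimal hG hU hUH S h0S hSH).resolve_left fun e =>
    hMne (le_antisymm (e ▸ hM₀S) hM0)
  have hcardH : Nat.card H = Nat.card H₀ * p ^ q := by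
    rw [← hc.card_eq, ← Nat.card_congr (Subgroup.subgroupOfEquivOfLe hc.le).toEquiv]
    exact (Subgroup.card_mul_index _).symm
  rw [hSeq, hcardH] at hcard
  have hdk : d ^ k = p ^ q := (Nat.eq_of_mul_eq_mul_left Nat.card_pos hcard).symm
  have hk0 : k ≠ 0 := fun h => by
    rw [h, pow_zero] at hdk
    exact absurd hdk.symm (Nat.one_lt_pow hG.hq.ne_zero hG.hp.one_lt).ne'
  obtain ⟨e, -, he⟩ := (Nat.dvd_prime_pow hG.hp).1 (hdk ▸ dvd_pow_self d hk0)
  rw [he, ← pow_mul] at hdk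
  have hek : e * k = q := Nat.pow_right_injective hG.hp.two_le hdk
  have he1 : e = 1 := by
    rcases (Nat.dvd_prime hG.hq).1 (Dvd.intro k hek) with h | h
    · exact h
    · exfalso
      refine hMneH (Subgroup.eq_of_le_of_card_ge hMH (le_of_eq ?_))
      rw [hcardH, hcardM, he, h]
  rw [he1, pow_one] at he
  obtain ⟨a, haM, ha0⟩ : ∃ a ∈ M₀, a ∉ H₀ := by
    by_contra h
    push Not at h
    exact hMne (le_antisymm h hM0)
  set T := H₀ ⊔ Subgroup.zpowers a with hTdef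
  have hT : T = M₀ := by
    have hTle : T ≤ M₀ := sup_le hM0 (Subgroup.zpowers_le.2 haM)
    have h := Subgroup.relIndex_mul_relIndex H₀ T M₀ le_sup_left hTle
    rw [← hd, he] at h
    rcases (Nat.dvd_prime hG.hp).1 (Dvd.intro _ h) with h' | h'
    · exact absurd ((Subgroup.relIndex_eq_one.1 h') (Subgroup.mem_sup_right (Subgroup.mem_zpowers a))) ha0
    · rw [h'] at h
      exact le_antisymm hTle (Subgroup.relIndex_eq_one.1
        (Nat.eq_of_mul_eq_mul_left hG.hp.pos (h.trans (mul_one p).symm)))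
  have haH : a ∈ H := hMH haM
  refine ⟨a, haH, fun u hu => ?_, ?_⟩
  · have h := (Subgroup.mem_normalizer_iff.1 (hMU hu) a).1 haM
    rw [← hT, hTdef] at h
    obtain ⟨c, hc', y, hy, e⟩ := Subgroup.mem_sup_of_normal_left.1 h
    rw [← mem_powers_iff_mem_zpowers] at hy
    obtain ⟨j, rfl⟩ := hy
    exact ⟨j, by rw [← e, mul_inv_cancel_right]; exact hc'⟩
  · refine le_antisymm (sup_le hc.le ((Subgroup.closure_le H).2 ?_)) ?_
    · rintro _ ⟨w, -, rfl⟩
      exact hG.H_normal.conj_mem a haH w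
    · conv_lhs => rw [← hSeq, hS1]
      refine sup_le le_sup_left (iSup_le fun w => ?_)
      show M₀.map (MulAut.conj (w : L)).toMonoidHom ≤ _
      rw [← hT, hTdef, Subgroup.map_sup, MonoidHom.map_zpowers]
      refine sup_le ?_ (Subgroup.zpowers_le.2 (Subgroup.mem_sup_right (Subgroup.subset_closure ?_)))
      · rintro _ ⟨x, hx, rfl⟩
        exact Subgroup.mem_sup_left (hc.normal.conj_mem x hx _)
      · exact ⟨w, w.2, rfl⟩

end ChiefHyp

end Cfsg.Agent.OddLocal44.PF11
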