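import Cfsg.Agent.OddLocal44.PF11.Grid
import Cfsg.Agent.Coherence.Extend
import Cfsg.Agent.Coherence.Virtual

set_option autoImplicit false

/-!
The coefficients forced by norms in Peterfalvi (11.8): when `|W₁| + 2 ≤ |W₂|` the two coherent
pieces of the characters induced from `M'` fit together.
-/

namespace Cfsg.Agent.OddLocal44.PF11

open Cfsg Cfsg.Agent

variable {G : Type*} [Group G] [Fintype G]

/-- Bessel's inequality for an orthonormal family with integer coefficients. -/
theorem sum_sq_le {κ : Type*} [Fintype κ] [DecidableEq κ] {v : κ → G → ℂ}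
    (hv : ∀ a b, classInner (v a) (v b) = if a = b then 1 else 0) {θ : G → ℂ} {c : κ → ℤ}
    (hc : ∀ a, classInner θ (v a) = (c a : ℂ)) {m : ℤ} (hm : classInner θ θ = (m : ℂ)) :
    ∑ a, c a ^ 2 ≤ m ∧ (m ≤ ∑ a, c a ^ 2 → θ = ∑ a, (c a : ℂ) • v a) := by
  have h := Coherence.bessel (ξ := θ) Finset.univ v (fun _ => (1 : ℝ)) (fun a => (c a : ℝ))
    (fun _ _ => one_ne_zero) (fun a _ => by rw [hv, if_pos rfl, Complex.ofReal_one])
    (fun a _ b _ hab => by rw [hv, if_neg hab]) (fun a _ => by rw [hc, Complex.ofReal_intCast])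
  simp only [div_one, Complex.ofReal_intCast] at h
  have hn : Coherence.normSqFn θ = (m : ℝ) := by
    have h' := congrArg Complex.re ((Coherence.inner_self θ).symm.trans hm)
    rwa [Complex.ofReal_re, Complex.intCast_re] at h'
  rw [hn] at h
  have h0 := Coherence.normSqFn_nonneg (θ - ∑ a, (c a : ℂ) • v a)
  refine ⟨?_, fun hle => ?_⟩
  · have : ((∑ a, c a ^ 2 : ℤ) : ℝ) ≤ (m : ℝ) := by push_cast; linarith
    exact_mod_cast this
  · have : (m : ℝ) ≤ ((∑ a, c a ^ 2 : ℤ) : ℝ) := by exact_mod_cast hle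
    push_cast at this
    exact sub_eq_zero.1 (Coherence.normSqFn_eq_zero.1 (le_antisymm (by linarith) h0))

variable {I J ι : Type*} [Fintype I] [Fintype J] [Fintype ι] [DecidableEq I] [DecidableEq J]
  [DecidableEq ι]

theorem core_coefficients (hI : 3 ≤ Fintype.card I) (hJ : 2 ≤ Fintype.card J)
    (hι : 2 ≤ Fintype.card ι) (σI : I → I) (hσI : ∀ i, σI (σI i) = i) (i₀ : I)
    (hσI0 : σI i₀ = i₀) (hfixI : ∀ i, σI i = i → i = i₀) (σJ : J → J) (hσJ : ∀ j, σJ (σJ j) = j) (j₀ : J)
    (hσJ0 : σJ j₀ = j₀) (η : I → J → G → ℂ) (hηgen : ∀ i j, IsGeneralizedCharacter G (η i j))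
    (hη : ∀ i j i' j', classInner (η i j) (η i' j') = if i = i' ∧ j = j' then 1 else 0)
    (g : ι → G → ℂ) (hggen : ∀ a, IsGeneralizedCharacter G (g a))
    (hg : ∀ a b, classInner (g a) (g b) = if a = b then 1 else 0)
    (hgη : ∀ a i j, classInner (g a) (η i j) = 0)
    (z : ι) (Γ : G → ℂ) (hΓgen : IsGeneralizedCharacter G Γ)
    (hΓnorm : classInner Γ Γ = (Fintype.card I : ℂ) + 1) (hΓ00 : classInner Γ (η i₀ j₀) = 1)
    (hΓcol : ∀ i j, classInner Γ (η i j) = if j = j₀ then 1 else 0)
    (hΓg : ∀ a b, classInner Γ (g a) - classInner Γ (g b)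
      = (if b = z then 1 else 0) - (if a = z then 1 else 0))
    (A : J → G → ℂ) (hAgen : ∀ j, j ≠ j₀ → IsGeneralizedCharacter G (A j))
    (hAnorm : ∀ j, j ≠ j₀ → classInner (A j) (A j) = 2 + (Fintype.card ι : ℂ) ^ 2)
    (hA00 : ∀ j, j ≠ j₀ → classInner (A j) (η i₀ j₀) = -1)
    (hAg : ∀ j, j ≠ j₀ → ∀ a b, classInner (A j) (g a) - classInner (A j) (g b)
      = (Fintype.card ι : ℂ) * ((if b = z then 1 else 0) - (if a = z then 1 else 0)))
    (hAΓ : ∀ j, j ≠ j₀ → classInner (A j) Γ = (Fintype.card ι : ℂ) - 1)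
    (hconj : ∀ j, j ≠ j₀ → ∀ i, classInner (A (σJ j)) (η i j₀) = classInner (A j) (η (σI i) j₀))
    (hE : ∀ j, j ≠ j₀ → classInner (A j - A (σJ j)) (A j - A (σJ j)) = 2)
    (hEadd : ∀ j, j ≠ j₀ → ∀ i, i ≠ i₀ → ∀ i', i' ≠ i₀ → ∀ l, l ≠ j₀ →
      classInner (A j - A (σJ j)) (η i l) + classInner (A j - A (σJ j)) (η i' j₀)
        = classInner (A j - A (σJ j)) (η i j₀) + classInner (A j - A (σJ j)) (η i' l)) :
    ∃ g' : ι → G → ℂ, (∀ a, IsGeneralizedCharacter G (g' a)) ∧
      (∀ a b, classInner (g' a) (g' b) = if a = b then 1 else 0) ∧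
      (∀ a b, g' a - g' b = g a - g b) ∧
      (∀ a, classInner Γ (g' a) = - if a = z then 1 else 0) ∧
      ∀ j, j ≠ j₀ → ∀ a, classInner (A j) (g' a)
        = -(Fintype.card ι : ℂ) * if a = z then 1 else 0 := by
  classical
  set n := Fintype.card ι with hn
  -- coefficients of `Γ`
  choose e he using fun i j => Coherence.inner_gen_int hΓgen (hηgen i j)
  have hcol : ∀ i, e i j₀ = 1 := by
    intro i
    have := (he i j₀).symm.trans (hΓcol i j₀)
    rw [if_pos rfl] at this
    exact_mod_cast this
  have hηv : ∀ a b : I × J, classInner (η a.1 a.2) (η b.1 b.2) = if a = b then 1 else 0 :=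
    fun a b => by rw [hη]; simp [Prod.ext_iff]
  have hΓm : classInner Γ Γ = (((Fintype.card I : ℤ) + 1 : ℤ) : ℂ) := by rw [hΓnorm]; push_cast; rfl
  -- coefficients on `g`
  choose cg hcg using fun a => Coherence.inner_gen_int hΓgen (hggen a)
  have hcgd : ∀ a, cg a = cg z + if a = z then 0 else 1 := by
    intro a
    have := hΓg a z
    rw [hcg, hcg, if_pos rfl] at this
    by_cases haz : a = z
    · subst haz; simp
    · rw [if_neg haz] at this ⊢
      have : cg a - cg z = 1 - 0 := by exact_mod_cast this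
      omega
  -- the family `η ∪ g`
  let v : (I × J) ⊕ ι → G → ℂ := Sum.elim (fun a => η a.1 a.2) g
  have hv : ∀ a b, classInner (v a) (v b) = if a = b then 1 else 0 := by
    rintro (a | a) (b | b)
    · simpa [v] using hηv a b
    · simp only [v, Sum.elim_inl, Sum.elim_inr, reduceCtorEq, if_false]
      rw [← Coherence.inner_conj_symm, hgη, map_zero]
    · simp only [v, Sum.elim_inl, Sum.elim_inr, reduceCtorEq, if_false, hgη]
    · simpa [v] using hg a b
  obtain ⟨hΓle, hΓeq⟩ := sum_sq_le hv (θ := Γ)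
    (c := Sum.elim (fun a => e a.1 a.2) cg) (fun a => by rcases a with a | a <;> simp [v, he, hcg]) hΓm
  rw [Fintype.sum_sum_type] at hΓle hΓeq
  simp only [Sum.elim_inl, Sum.elim_inr] at hΓle hΓeq
  have hgridge : (Fintype.card I : ℤ) ≤ ∑ a : I × J, e a.1 a.2 ^ 2 := by
    rw [Fintype.sum_prod_type, Fintype.card, Finset.card_eq_sum_ones]
    push_cast
    refine Finset.sum_le_sum fun i _ => ?_
    refine le_trans (le_of_eq ?_) (Finset.single_le_sum (fun j _ => sq_nonneg _) (Finset.mem_univ j₀))
    rw [hcol, one_pow]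
  -- normalise the family `g`
  obtain ⟨g', hg'gen, hg', hg'η, hg'd, hg'Γ⟩ : ∃ g' : ι → G → ℂ,
      (∀ a, IsGeneralizedCharacter G (g' a)) ∧
      (∀ a b, classInner (g' a) (g' b) = if a = b then 1 else 0) ∧
      (∀ a i j, classInner (g' a) (η i j) = 0) ∧
      (∀ a b, g' a - g' b = g a - g b) ∧
      (∀ a, classInner Γ (g' a) = - if a = z then 1 else 0) := by
    by_cases hz : cg z = -1
    · refine ⟨g, hggen, hg, hgη, fun _ _ => rfl, fun a => ?_⟩
      rw [hcg, hcgd, hz]
      by_cases haz : a = z <;> simp [haz]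
    · -- then there are only two members, which we interchange
      have hsum : ∑ a, cg a ^ 2 ≤ 1 := by linarith
      have hz0 : cg z = 0 := by
        have h1 : cg z ^ 2 ≤ 1 :=
          le_trans (Finset.single_le_sum (fun a _ => sq_nonneg (cg a)) (Finset.mem_univ z)) hsum
        have hb1 : cg z ≤ 1 := by nlinarith
        have hb2 : -1 ≤ cg z := by nlinarith
        have hne1 : cg z ≠ 1 := by
          intro h1'
          obtain ⟨a, ha⟩ := Fintype.exists_ne_of_one_lt_card (show 1 < Fintype.card ι by omega) z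
          have h2 : cg a ^ 2 ≤ 1 :=
            le_trans (Finset.single_le_sum (fun a _ => sq_nonneg (cg a)) (Finset.mem_univ a)) hsum
          rw [hcgd a, if_neg ha, h1'] at h2
          norm_num at h2
        omega
      have hn2 : n = 2 := by
        have h1 : ∑ a, cg a ^ 2 = (n : ℤ) - 1 := by
          have hf : ∀ a, cg a ^ 2 = 1 - if a = z then (1 : ℤ) else 0 := by
            intro a
            rw [hcgd a, hz0]
            by_cases haz : a = z <;> simp [haz]
          simp only [hf, Finset.sum_sub_distrib, Finset.sum_const, Finset.card_univ, nsmul_eq_mul,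
            mul_one, Finset.sum_ite_eq', Finset.mem_univ, if_true, hn]
        omega
      obtain ⟨w, hw⟩ := Fintype.exists_ne_of_one_lt_card (show 1 < Fintype.card ι by omega) z
      have htwo : ∀ a, a = z ∨ a = w := by
        intro a
        by_contra hno
        push Not at hno
        have := Finset.card_le_univ ({a, z, w} : Finset ι)
        rw [Finset.card_insert_of_notMem (by simp [hno.1, hno.2]),
          Finset.card_pair hw.symm] at this
        omega
      let s : ι → ι := Equiv.swap z w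
      refine ⟨fun a => - g (s a), fun a => Coherence.gen_neg (hggen _), fun a b => ?_,
        fun a i j => ?_, fun a b => ?_, fun a => ?_⟩
      · simp [Coherence.inner_neg_left, Coherence.inner_neg_right, hg, s]
      · simp [Coherence.inner_neg_left, hgη]
      · rcases htwo a with rfl | rfl <;> rcases htwo b with rfl | rfl <;> simp [s] <;> abel
      · rw [Coherence.inner_neg_right, hcg, hcgd, hz0]
        rcases htwo a with rfl | rfl <;> simp [s, hw]
  -- `Γ` is determined
  let v' : (I × J) ⊕ ι → G → ℂ := Sum.elim (fun a => η a.1 a.2) g'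
  have hv' : ∀ a b, classInner (v' a) (v' b) = if a = b then 1 else 0 := by
    rintro (a | a) (b | b)
    · simpa [v'] using hηv a b
    · simp only [v', Sum.elim_inl, Sum.elim_inr, reduceCtorEq, if_false]
      rw [← Coherence.inner_conj_symm, hg'η, map_zero]
    · simp only [v', Sum.elim_inl, Sum.elim_inr, reduceCtorEq, if_false, hg'η]
    · simpa [v'] using hg' a b
  let c' : (I × J) ⊕ ι → ℤ := Sum.elim (fun a => e a.1 a.2) fun a => - if a = z then 1 else 0
  obtain ⟨hle', heq'⟩ := sum_sq_le hv' (θ := Γ) (c := c')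
    (fun a => by rcases a with a | a <;> simp [v', c', he, hg'Γ, apply_ite ((↑) : ℤ → ℂ)]) hΓm
  have hc'sum : ∑ a, c' a ^ 2 = ∑ a : I × J, e a.1 a.2 ^ 2 + 1 := by
    rw [Fintype.sum_sum_type]
    simp [c']
  have hgrid0 : ∀ i j, j ≠ j₀ → e i j = 0 := by
    intro i j hj
    have := (he i j).symm.trans (hΓcol i j)
    rw [if_neg hj] at this
    exact_mod_cast this
  have hΓexp : Γ = ∑ i, η i j₀ - g' z := by
    rw [heq' (by rw [hc'sum]; linarith), Fintype.sum_sum_type, Fintype.sum_prod_type]
    have h1 : ∀ i, ∑ j, (c' (Sum.inl (i, j)) : ℂ) • v' (Sum.inl (i, j)) = η i j₀ := by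
      intro i
      rw [Finset.sum_eq_single j₀ (fun j _ hj => by simp [c', hgrid0 i j hj])
        (fun h => absurd (Finset.mem_univ _) h)]
      simp [c', v', hcol]
    rw [Finset.sum_congr rfl fun i _ => h1 i, Finset.sum_eq_single z
      (fun a _ ha => by simp [c', ha]) (fun h => absurd (Finset.mem_univ _) h)]
    simp [c', v', sub_eq_add_neg]
  refine ⟨g', hg'gen, hg', hg'd, hg'Γ, fun j hj => ?_⟩
  -- coefficients of `A j`
  choose r hr using fun j (hj : j ≠ j₀) i l => Coherence.inner_gen_int (hAgen j hj) (hηgen i l)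
  have hσne : ∀ j, j ≠ j₀ → σJ j ≠ j₀ := fun j hj h => hj (by rw [← hσJ j, h, hσJ0])
  choose t ht using fun a => Coherence.inner_gen_int (hAgen j hj) (hg'gen a)
  have htd : ∀ a, t a = t z + if a = z then 0 else (n : ℤ) := by
    intro a
    have h1 := hAg j hj a z
    have h2 : classInner (A j) (g a) - classInner (A j) (g z)
        = classInner (A j) (g' a) - classInner (A j) (g' z) := by
      rw [← Coherence.inner_sub_right, ← Coherence.inner_sub_right, hg'd]
    rw [h2, ht, ht, if_pos rfl] at h1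
    by_cases haz : a = z
    · subst haz; simp
    · rw [if_neg haz] at h1 ⊢
      have : t a - t z = (n : ℤ) * (1 - 0) := by exact_mod_cast h1
      linarith
  -- symmetry of the first column
  have hsym : ∀ i, r j hj (σI i) j₀ = r j hj i j₀ := by
    let E : I → J → ℤ := fun i l => r j hj i l - r (σJ j) (hσne j hj) i l
    have hEc : ∀ i l, classInner (A j - A (σJ j)) (η i l) = (E i l : ℂ) := by
      intro i l
      rw [Coherence.inner_sub_left, hr j hj, hr (σJ j) (hσne j hj)]
      push_cast [E]
      rfl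
    have hcs : ∀ i, r (σJ j) (hσne j hj) i j₀ = r j hj (σI i) j₀ := by
      intro i
      have := hconj j hj i
      rw [hr (σJ j) (hσne j hj), hr j hj] at this
      exact_mod_cast this
    have h00 : E i₀ j₀ = 0 := by
      have h1 := hA00 j hj
      rw [hr j hj] at h1
      have h2 := hA00 (σJ j) (hσne j hj)
      rw [hr (σJ j) (hσne j hj)] at h2
      have h1' : r j hj i₀ j₀ = -1 := by exact_mod_cast h1
      have h2' : r (σJ j) (hσne j hj) i₀ j₀ = -1 := by exact_mod_cast h2
      simp only [E, h1', h2', sub_self]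
    obtain ⟨i', hi'⟩ := Fintype.exists_ne_of_one_lt_card (show 1 < Fintype.card I by omega) i₀
    have hz := antisym_column (by omega) σI i₀ hfixI j₀ E (fun l => E i' l - E i' j₀) h00
      (fun i => by simp only [E, hcs, hσI]; ring)
      (fun i hi l hl => by
        have := hEadd j hj i hi i' hi' l hl
        rw [hEc, hEc, hEc, hEc] at this
        have : E i l + E i' j₀ = E i j₀ + E i' l := by exact_mod_cast this
        linarith)
      (by
        have hm : classInner (A j - A (σJ j)) (A j - A (σJ j)) = ((2 : ℤ) : ℂ) := by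
          rw [hE j hj]; norm_num
        have := (sum_sq_le (v := fun a : I × J => η a.1 a.2) hηv (c := fun a => E a.1 a.2)
          (fun a => hEc _ _) hm).1
        rwa [Fintype.sum_prod_type] at this)
    intro i
    have := hz i
    simp only [E, hcs] at this
    linarith
  -- the relation with `Γ`
  have hx : t z = (∑ i, if i = i₀ then 0 else r j hj i j₀) - n := by
    have h1 := hAΓ j hj
    rw [hΓexp, Coherence.inner_sub_right, Coherence.inner_sum_right, ht] at h1
    simp only [hr j hj] at h1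
    have h2 : (∑ i, r j hj i j₀) - t z = (n : ℤ) - 1 := by exact_mod_cast h1
    have h3 : ∑ i, r j hj i j₀ = (∑ i, if i = i₀ then 0 else r j hj i j₀) + r j hj i₀ j₀ := by
      have : ∀ i, r j hj i j₀ = (if i = i₀ then 0 else r j hj i j₀)
          + (if i = i₀ then r j hj i₀ j₀ else 0) := fun i => by
        by_cases h : i = i₀ <;> simp [h]
      rw [Finset.sum_congr rfl fun i _ => this i, Finset.sum_add_distrib, Finset.sum_ite_eq',
        if_pos (Finset.mem_univ _)]
    have h4 := hA00 j hj
    rw [hr j hj] at h4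
    have h4' : r j hj i₀ j₀ = -1 := by exact_mod_cast h4
    linarith
  set x := ∑ i, (if i = i₀ then 0 else r j hj i j₀) with hxdef
  -- the norm of `A j`
  have hm : classInner (A j) (A j) = ((2 + (n : ℤ) ^ 2 : ℤ) : ℂ) := by
    rw [hAnorm j hj]; push_cast; rfl
  have hb := (sum_sq_le hv' (θ := A j) (c := Sum.elim (fun a => r j hj a.1 a.2) t)
    (fun a => by rcases a with a | a <;> simp [v', hr j hj, ht]) hm).1
  rw [Fintype.sum_sum_type] at hb
  simp only [Sum.elim_inl, Sum.elim_inr, Fintype.sum_prod_type] at hb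
  have hcolle : 1 + ∑ i, (if i = i₀ then 0 else r j hj i j₀) ^ 2 ≤ ∑ i, ∑ l, r j hj i l ^ 2 := by
    have h1 : ∀ i, (if i = i₀ then (1 : ℤ) else 0) + (if i = i₀ then 0 else r j hj i j₀) ^ 2
        ≤ ∑ l, r j hj i l ^ 2 := by
      intro i
      refine le_trans (le_of_eq ?_) (Finset.single_le_sum (fun l _ => sq_nonneg _) (Finset.mem_univ j₀))
      by_cases h : i = i₀
      · subst h
        have h4 := hA00 j hj
        rw [hr j hj] at h4
        have h4' : r j hj i j₀ = -1 := by exact_mod_cast h4
        rw [if_pos rfl, if_pos rfl, h4']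
        norm_num
      · simp [h]
    have h2 := Finset.sum_le_sum (s := Finset.univ) fun i _ => h1 i
    rwa [Finset.sum_add_distrib, Finset.sum_ite_eq', if_pos (Finset.mem_univ _)] at h2
  have htsum : ∑ a, t a ^ 2 = (n : ℤ) * (x * x) - 2 * n * x + (n : ℤ) ^ 2 := by
    have hf : ∀ a, t a ^ 2 = x ^ 2 + (if a = z then (n : ℤ) ^ 2 - 2 * n * x else 0) := by
      intro a
      rw [htd a, hx]
      by_cases haz : a = z <;> simp [haz] <;> ring
    rw [Finset.sum_congr rfl fun a _ => hf a, Finset.sum_add_distrib, Finset.sum_ite_eq',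
      if_pos (Finset.mem_univ _), Finset.sum_const, Finset.card_univ, nsmul_eq_mul]
    ring
  rw [htsum] at hb
  have hx0 : x = 0 := by
    rw [hxdef]
    refine column_sum_zero σI hσI i₀ hfixI _ (by simp) (fun i => ?_) (n := (n : ℤ))
      (by exact_mod_cast (show 1 ≤ n by omega)) ?_
    · by_cases hi : i = i₀
      · subst hi; rw [if_pos hσI0]; simp
      · rw [if_neg hi, if_neg (fun h => hi (by rw [← hσI i, h, hσI0]))]
        exact hsym i
    · rw [← hxdef]
      nlinarith
  intro a
  rw [ht, htd, hx, hx0]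
  by_cases haz : a = z <;> simp [haz]

end Cfsg.Agent.OddLocal44.PF11
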