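import Cfsg.Agent.OddLocal44.PF11.Core
import Cfsg.Agent.OddLocal44.PF11.Chars
import Cfsg.Agent.OddLocal44.PF11.Tau
import Cfsg.Agent.Coherence.Extend
import Cfsg.Agent.Coherence.Grow

set_option autoImplicit false

/-!
Peterfalvi (11.8): `|W₂| < |W₁|` for a maximal subgroup of type III.
-/

namespace Cfsg.Agent.OddLocal44.PF11

open Cfsg Cfsg.Agent OddChar OddChar.CycTI OddChar.PrimeTI
open scoped ComplexConjugate

universe u

variable {G : Type u} [Group G] [Fintype G] {A₀ : Set G} {L : Subgroup G} [Fintype L]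
  {R : G → Subgroup G} {K H U W₁ W₂ C : Subgroup L} {p q : ℕ}

omit [Fintype G] in
theorem classInner_conjFun {X : Type*} [Group X] [Fintype X] (a b : X → ℂ) :
    classInner (conjFun a) (conjFun b) = conj (classInner a b) := by
  simp [classInner, conjFun, map_sum]

omit [Fintype G] [Fintype L] in
theorem subgroup_inv_eq_self {A : Type*} [Group A] [Finite A] (hodd : Odd (Nat.card A)) {a : A}
    (h : a⁻¹ = a) : a = 1 := by
  have h2 : a ^ 2 = 1 := by
    rw [pow_two]
    exact (inv_eq_iff_mul_eq_one).1 h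
  exact orderOf_eq_one_iff.1 (Nat.eq_one_of_dvd_coprimes
    (Nat.coprime_two_left.2 hodd) (orderOf_dvd_of_pow_eq_one h2) (orderOf_dvd_natCard a))

/-- Under an involution with one fixed point, a symmetric sum has the parity of that term. -/
theorem odd_sum_of_symm {I : Type*} [Fintype I] [DecidableEq I] (σ : I → I) (hσ : ∀ i, σ (σ i) = i)
    (i₀ : I) (h₀ : σ i₀ = i₀) (hfix : ∀ i, σ i = i → i = i₀) (r : I → ℤ) (h1 : r i₀ = 1)
    (hsym : ∀ i, r (σ i) = r i) : Odd (∑ i, r i) := by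
  rw [← Finset.add_sum_erase _ _ (Finset.mem_univ i₀), h1]
  have h2 : ((∑ i ∈ Finset.univ.erase i₀, r i : ℤ) : ZMod 2) = 0 := by
    push_cast
    refine Finset.sum_involution (fun i _ => σ i) ?_ ?_ ?_ (fun i _ => hσ i)
    · intro i _
      rw [hsym]
      exact CharTwo.add_self_eq_zero _
    · intro i hi _ he
      exact Finset.ne_of_mem_erase hi (hfix i he)
    · intro i hi
      refine Finset.mem_erase.2 ⟨fun e => Finset.ne_of_mem_erase hi ?_, Finset.mem_univ _⟩
      rw [← hσ i, e, h₀]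
  obtain ⟨k, hk⟩ := (ZMod.intCast_zmod_eq_zero_iff_dvd _ 2).1 h2
  exact ⟨k, by rw [hk]; push_cast; ring⟩

set_option maxHeartbeats 1000000 in
/-- Peterfalvi (11.8): `|W₂| < |W₁|`, and `Γ` has constant rows with an odd column sum. -/
theorem rows_of_not_coherent (hG : GroupHyp K H U W₁ W₂ p q) (hr : Reduced H U W₂ C p q)
    (S : Setup A₀ L R K W₁ W₂) {Rs : (L → ℂ) → Finset (G → ℂ)}
    (hS : IsCoherenceSystem (inducedIrrAbove K ⊥) (dadeIsometry A₀ L R) Rs)
    (hbd : ∀ (A : Subgroup L) [A.Normal], A < K →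
      IsCoherent (inducedIrrAbove K A) {1}ᶜ (dadeIsometry A₀ L R) →
      A.relIndex K - 1 ≤ 2 * q * C.relIndex U)
    [Fintype ↥(D1 W₁ W₂)] {η : (↥(W₁ ⊔ W₂) →* ℂˣ) → G → ℂ} (E : PF.Eta L W₁ W₂ η) :
    p < q ∧ ∃ (δ : L → ℂ) (r : ↥(D1 W₁ W₂) → ℤ), Supp W₁ δ ∧ r 1 = 1 ∧ Odd (∑ i, r i) ∧
      classInner (dadeIsometry A₀ L R δ) (dadeIsometry A₀ L R δ) = (q : ℂ) + 1 ∧
      (∀ (i : ↥(D1 W₁ W₂)) (j : ↥(D2 W₁ W₂)),
        classInner (dadeIsometry A₀ L R δ) (η (i.1 * j.1)) = (r i : ℂ)) ∧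
      ∃ z ∈ inducedIrrAbove K (H ⊔ C), δ = indFun K (fun _ => (1 : ℂ)) - z := by
  classical
  haveI := hG.K_normal
  haveI := hG.H_normal
  haveI := hr.C_normal hG
  haveI : Fintype K := Fintype.ofFinite _
  obtain ⟨χ, F⟩ := S.pti.exists_fam
  have hs := S.pti.split
  have hm1 : ∀ ω : ↥(W₁ ⊔ W₂) →* ℂˣ, ω * 1 = ω := fun ω => MonoidHom.ext fun v => mul_one _
  have h1m : ∀ ω : ↥(W₁ ⊔ W₂) →* ℂˣ, 1 * ω = ω := fun ω => MonoidHom.ext fun v => one_mul _
  have hii : ∀ ω : ↥(W₁ ⊔ W₂) →* ℂˣ, ω⁻¹⁻¹ = ω := fun ω => MonoidHom.ext fun v => inv_inv _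
  haveI := hs.finite_dual
  haveI : Fintype ↥(D2 W₁ W₂) := Fintype.ofFinite _
  have hI : Fintype.card ↥(D1 W₁ W₂) = q := by
    rw [← Nat.card_eq_fintype_card, hs.card_d1, hG.card_W₁]
  have hJ : Fintype.card ↥(D2 W₁ W₂) = p := by
    rw [← Nat.card_eq_fintype_card, hs.card_d2, hG.card_W₂]
  have hI3 : 3 ≤ q := by
    have := hG.hq.two_le
    have := hG.q_ne_two
    omega
  have hb : BigDuals W₁ W₂ := by
    rw [BigDuals, Nat.card_eq_fintype_card, Nat.card_eq_fintype_card, hI, hJ]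
    have := hG.hp.two_le
    have := hG.p_ne_two
    omega
  -- the coherent piece
  set T := Coherence.seqFinset K (H ⊔ C) with hT
  have hTmem : ∀ {φ : L → ℂ}, φ ∈ T → φ ∈ inducedIrrAbove K (H ⊔ C) := fun {φ} h => by
    rw [← Coherence.coe_seqFinset K (H ⊔ C)]; exact h
  have hTirr := fun {φ : L → ℂ} (h : φ ∈ T) => seqT_irr hr hG F (hTmem h)
  set n := T.card with hn
  have hnu : n * q + 1 = C.relIndex U := card_seqT hr hG F
  have hn2 : 2 ≤ n := two_le_card_seqT hr hG F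
  have hKH : ¬ K ≤ H ⊔ C := fun hle => by
    have h1 := relIndex_HC hG hr.chief.C_le
    rw [Subgroup.relIndex_eq_one.2 hle] at h1
    have := Nat.mul_pos (show 0 < n by omega) hG.hq.pos
    omega
  obtain ⟨-, τ₁, hτ₁, hag⟩ := coherent_linear hG hS (H ⊔ C)
    ((derived_le hG).trans (sup_le_sup_left hr.C_eq.ge _)) hKH
  haveI : Nontrivial T := Fintype.one_lt_card_iff_nontrivial.1 (by rw [Fintype.card_coe]; omega)
  obtain ⟨z⟩ : Nonempty T := inferInstance
  have hzs : ∀ a : T, (a : L → ℂ) ∈ zspan (inducedIrrAbove K (H ⊔ C)) := fun a =>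
    Coherence.zspan_subset (hTmem a.2)
  have horth : ∀ a b : T, classInner (a : L → ℂ) b = if a = b then 1 else 0 := by
    intro a b
    split_ifs with e
    · rw [e]; exact Coherence.irr_inner_self (hTirr b.2).1
    · exact Coherence.irr_inner_ne (hTirr a.2).1 (hTirr b.2).1 fun h => e (Subtype.ext h)
  let g : T → G → ℂ := fun a => τ₁ a
  have hggen : ∀ a, IsGeneralizedCharacter G (g a) := fun a => hτ₁.2.2.2 _ (hzs a)
  have hg : ∀ a b, classInner (g a) (g b) = if a = b then 1 else 0 := fun a b => by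
    rw [hτ₁.2.2.1 _ (hzs a) _ (hzs b), horth]
  have hgd : ∀ a b : T, g a - g b = dadeIsometry A₀ L R ((a : L → ℂ) - b) := by
    intro a b
    have hm : (a : L → ℂ) - b ∈ zspanOn (inducedIrrAbove K (H ⊔ C)) {1}ᶜ :=
      Coherence.mem_zspanOn_one.2 ⟨Coherence.zspan_sub (hzs a) (hzs b), by
        rw [Pi.sub_apply, (hTirr a.2).2.1, (hTirr b.2).2.1, sub_self]⟩
    rw [← hag _ hm, sub_eq_iff_eq_add]
    show τ₁ a = τ₁ ((a : L → ℂ) - b) + τ₁ b
    rw [← hτ₁.1 _ hm.1 _ (hzs b), sub_add_cancel]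
  have hW₁K : ∀ w ∈ W₁, w ≠ 1 → w ∉ K := fun w hw hw1 e =>
    hw1 (Subgroup.mem_bot.1 (hG.K_inf ▸ (⟨e, hw⟩ : w ∈ K ⊓ W₁)))
  have hW₁W₂ : ∀ w ∈ W₁, w ≠ 1 → w ∉ W₂ := fun w hw hw1 e =>
    hw1 (Subgroup.mem_bot.1 (hs.disj ▸ (⟨hw, e⟩ : w ∈ W₁ ⊓ W₂)))
  have hVK : ∀ w, InV W₁ W₂ w → (w : L) ∉ K := fun w hw e => hw.2 (S.pti.mem_W2_of_K w e)
  have hTgen : ∀ a : T, IsGeneralizedCharacter L (a : L → ℂ) := fun a =>
    Coherence.irr_gen (hTirr a.2).1
  have hsT : ∀ a b : T, Supp W₁ ((a : L → ℂ) - b) := fun a b =>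
    ⟨Coherence.gen_sub (hTgen a) (hTgen b),
      by rw [Pi.sub_apply, (hTirr a.2).2.1, (hTirr b.2).2.1, sub_self],
      fun w hw hw1 => by
        rw [Pi.sub_apply, (hTirr a.2).2.2.1 w (hW₁K w hw hw1),
          (hTirr b.2).2.2.1 w (hW₁K w hw hw1), sub_self]⟩
  have hgV : ∀ a b : T, ∀ w, InV W₁ W₂ w → g a ((w : L) : G) - g b ((w : L) : G) = 0 := by
    intro a b w hw
    rw [← Pi.sub_apply (g a) (g b), hgd, S.apply_V (hsT a b) hw.1 hw.2, Pi.sub_apply,
      (hTirr a.2).2.2.1 _ (hVK w hw), (hTirr b.2).2.2.1 _ (hVK w hw), sub_self]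
  have hgη := (eta_orth_of_diff E hs hb g hggen hg hgV).1
  -- the characters of `L` involved
  have hχgen : ∀ ω, IsGeneralizedCharacter L (χ ω) := fun ω =>
    IsSignedIrr.isGeneralizedCharacter (F.fam.irr_or_neg ω)
  have hχone : χ 1 = fun _ => (1 : ℂ) := F.fam.map_one
  have hone : IsGeneralizedCharacter L (fun _ => (1 : ℂ)) := Coherence.irr_gen CharCore.isIrrCharacter_one
  have hTχ : ∀ (a : T) ω, classInner (a : L → ℂ) (χ ω) = 0 := fun a ω => (hTirr a.2).2.2.2 ω
  have hχT : ∀ (a : T) ω, classInner (χ ω) (a : L → ℂ) = 0 := fun a ω => by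
    rw [← CharCore.conj_classInner, hTχ, map_zero]
  have hoff : ∀ ω, ∀ w ∈ W₁, ∀ hw1 : w ≠ 1, ∀ hm : w ∈ W₁ ⊔ W₂, χ ω w = (ω ⟨w, hm⟩ : ℂ) :=
    fun ω w hw hw1 hm => F.on_off ω ⟨w, hm⟩ (hW₁W₂ w hw hw1)
  -- `Γ`
  have hμ₀ : indFun K (fun _ => (1 : ℂ)) = ∑ φ : ↥(D1 W₁ W₂), χ φ.1 := by
    rw [S.pti.ind_one]
    refine Finset.sum_congr rfl fun φ _ => ?_
    have := F.twist φ.1 φ.2 1
    rw [hm1, hχone] at this
    rw [this]
    simp
  set δ : L → ℂ := indFun K (fun _ => (1 : ℂ)) - (z : L → ℂ) with hδ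
  have hδS : Supp W₁ δ := by
    refine ⟨Coherence.gen_sub (by rw [hμ₀]; exact Coherence.gen_sum _ _ fun φ _ => hχgen _)
      (hTgen z), ?_, fun w hw hw1 => ?_⟩
    · rw [hδ, Pi.sub_apply, CharInd.indFun_apply_one, mul_one, hG.card_K.1, (hTirr z.2).2.1,
        sub_self]
    · rw [hδ, Pi.sub_apply, indFun_eq_zero_of_notMem K _ (hW₁K w hw hw1),
        (hTirr z.2).2.2.1 w (hW₁K w hw hw1), sub_self]
  -- `A j`
  set α : ↥(D2 W₁ W₂) → L → ℂ := fun j => χ j.1 - (fun _ => (1 : ℂ)) - (n : ℂ) • (z : L → ℂ)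
    with hα
  have hαS : ∀ j, j ≠ 1 → Supp W₁ (α j) := by
    intro j hj
    have hj1 : j.1 ≠ 1 := fun e => hj (Subtype.ext e)
    refine ⟨Coherence.gen_sub (Coherence.gen_sub (hχgen _) hone) (by
      rw [Coherence.nat_smul_zsmul]; exact Coherence.gen_zsmul (hTgen z) _), ?_, fun w hw hw1 => ?_⟩
    · simp only [hα, Pi.sub_apply, Pi.smul_apply, smul_eq_mul,
        (fam_degree hr hG F j.2 hj1).2.1, (hTirr z.2).2.1, ← hnu]
      push_cast
      ring
    · simp only [hα, Pi.sub_apply, Pi.smul_apply, smul_eq_mul,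
        hoff _ w hw hw1 (Subgroup.mem_sup_left hw), (hTirr z.2).2.2.1 w (hW₁K w hw hw1), mul_zero,
        j.2 ⟨w, Subgroup.mem_sup_left hw⟩ hw, Units.val_one, sub_self]
  -- inner products in `L`
  have hχχ : ∀ ω ω', classInner (χ ω) (χ ω') = if ω = ω' then 1 else 0 := fun ω ω' => by
    convert F.fam.orthonormal ω ω'
  have h1T : ∀ a : T, classInner (fun _ => (1 : ℂ)) (a : L → ℂ) = 0 := fun a => by
    rw [← hχone]; exact hχT a 1
  have hT1 : ∀ a : T, classInner (a : L → ℂ) (fun _ => (1 : ℂ)) = 0 := fun a => by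
    rw [← hχone]; exact hTχ a 1
  have h11 : classInner (fun _ : L => (1 : ℂ)) (fun _ => (1 : ℂ)) = 1 := by
    rw [← hχone, hχχ, if_pos rfl]
  have hj11 : ∀ j : ↥(D2 W₁ W₂), j ≠ 1 → classInner (χ j.1) (fun _ => (1 : ℂ)) = 0 ∧
      classInner (fun _ => (1 : ℂ)) (χ j.1) = 0 := fun j hj => by
    have hj1 : j.1 ≠ 1 := fun e => hj (Subtype.ext e)
    rw [← hχone, hχχ, hχχ, if_neg hj1, if_neg hj1.symm]
    exact ⟨rfl, rfl⟩
  have hμT : ∀ a : T, classInner (indFun K (fun _ => (1 : ℂ))) (a : L → ℂ) = 0 := fun a => by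
    rw [hμ₀, CharCore.classInner_sum_left]; exact Finset.sum_eq_zero fun φ _ => hχT a _
  have hTμ : ∀ a : T, classInner (a : L → ℂ) (indFun K (fun _ => (1 : ℂ))) = 0 := fun a => by
    rw [← CharCore.conj_classInner, hμT, map_zero]
  have hμ1 : classInner (indFun K (fun _ => (1 : ℂ))) (fun _ : L => (1 : ℂ)) = 1 := by
    rw [hμ₀, CharCore.classInner_sum_left, Finset.sum_eq_single (1 : ↥(D1 W₁ W₂))]
    · rw [← hχone, OneMemClass.coe_one, hχχ, if_pos rfl]
    · intro φ _ hne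
      rw [← hχone, hχχ, if_neg]
      exact fun e => hne (Subtype.ext e)
    · simp
  have hμμ : classInner (indFun K (fun _ => (1 : ℂ))) (indFun K (fun _ => (1 : ℂ))) = (q : ℂ) := by
    rw [hμ₀, CharCore.classInner_sum_left]
    simp only [CharCore.classInner_sum_right, hχχ, SetLike.coe_eq_coe, Finset.sum_ite_eq,
      Finset.mem_univ, if_true, Finset.sum_const, Finset.card_univ, hI, nsmul_eq_mul, mul_one]
  have hjμ : ∀ j : ↥(D2 W₁ W₂), j ≠ 1 →
      classInner (χ j.1) (indFun K (fun _ => (1 : ℂ))) = 0 := fun j hj => by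
    rw [hμ₀, CharCore.classInner_sum_right]
    refine Finset.sum_eq_zero fun φ _ => ?_
    rw [hχχ, if_neg]
    intro e
    exact hj (Subtype.ext (mul_inj W₁ W₂ (D1 W₁ W₂).one_mem φ.2 j.2 (D2 W₁ W₂).one_mem
      (by rw [h1m, hm1]; exact e)).2)
  -- the arguments of the core computation
  set ηt : ↥(D1 W₁ W₂) → ↥(D2 W₁ W₂) → G → ℂ := fun i j => η (i.1 * j.1) with hηt
  have hη : ∀ i j i' j', classInner (ηt i j) (ηt i' j') = if i = i' ∧ j = j' then 1 else 0 := by
    intro i j i' j'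
    split_ifs with e
    · rw [e.1, e.2]; exact E.self _
    · refine E.orth _ _ fun he => e ?_
      obtain ⟨a, b⟩ := mul_inj W₁ W₂ i.2 i'.2 j.2 j'.2 he
      exact ⟨Subtype.ext a, Subtype.ext b⟩
  have hη11 : ηt 1 1 = fun _ => (1 : ℂ) := by
    simp only [hηt, OneMemClass.coe_one, h1m]; exact E.map_one
  set Γ := dadeIsometry A₀ L R δ with hΓ
  set A : ↥(D2 W₁ W₂) → G → ℂ := fun j => dadeIsometry A₀ L R (α j) with hA
  have hgdiff : ∀ (f : L → ℂ), Supp W₁ f → ∀ a b : T,
      classInner (dadeIsometry A₀ L R f) (g a) - classInner (dadeIsometry A₀ L R f) (g b) =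
        classInner f (a : L → ℂ) - classInner f (b : L → ℂ) := by
    intro f hf a b
    rw [← CharCore.classInner_sub_right, hgd, S.inner hf (hsT a b), CharCore.classInner_sub_right]
  have hαT : ∀ j : ↥(D2 W₁ W₂), ∀ a : T,
      classInner (α j) (a : L → ℂ) = -((n : ℂ) * if z = a then 1 else 0) := fun j a => by
    simp only [hα, CharCore.classInner_sub_left, CharCore.classInner_smul_left, hχT, h1T, horth,
      sub_zero, zero_sub]
  have hinv : ∀ j : ↥(D2 W₁ W₂), j ≠ 1 → j⁻¹ ≠ 1 := fun j hj e => hj (inv_eq_one.1 e)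
  have hdsup : ∀ j : ↥(D2 W₁ W₂), j ≠ 1 → Supp W₁ (α j - α j⁻¹) := fun j hj =>
    ⟨Coherence.gen_sub (hαS j hj).1 (hαS _ (hinv j hj)).1,
      by rw [Pi.sub_apply, (hαS j hj).2.1, (hαS _ (hinv j hj)).2.1, sub_self],
      fun w hw hw1 => by
        rw [Pi.sub_apply, (hαS j hj).2.2 w hw hw1, (hαS _ (hinv j hj)).2.2 w hw hw1, sub_self]⟩
  have hjne : ∀ j : ↥(D2 W₁ W₂), j ≠ 1 → j.1 ≠ (j⁻¹).1 := fun j hj e =>
    hj (subgroup_inv_eq_self (by rw [Nat.card_eq_fintype_card, hJ]; exact hG.p_odd)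
      (Subtype.ext e.symm))
  have hαd : ∀ j : ↥(D2 W₁ W₂), α j - α j⁻¹ = χ j.1 - χ (j⁻¹).1 := fun j => by
    simp only [hα]; abel
  have hzc : conjFun (z : L → ℂ) ∈ T := by
    have := Coherence.seq_conj K (hTmem z.2)
    rwa [← Coherence.coe_seqFinset K (H ⊔ C), Finset.mem_coe, ← hT] at this
  set zc : T := ⟨_, hzc⟩
  have hχc : ∀ j : ↥(D2 W₁ W₂), conjFun (χ j.1) = χ (j⁻¹).1 := fun j => by
    refine family_unique S.pti.selfNorm S.pti.odd F.fam
      (isSignedIrr_conjFun (F.fam.irr_or_neg _)) _ fun w a b => ?_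
    rw [conjFun, F.fam.eq_on _ w a b, conj_hom_apply, map_inv, InvMemClass.coe_inv,
      MonoidHom.inv_apply]
  -- the grid of `Γ`
  choose e he using fun i j => Coherence.inner_gen_int (S.gen hδS : IsGeneralizedCharacter G Γ)
    (IsSignedIrr.isGeneralizedCharacter (E.signed ((i : ↥(D1 W₁ W₂)).1 * (j : ↥(D2 W₁ W₂)).1)))
  have hΓnorm : classInner Γ Γ = (q : ℂ) + 1 := by
    rw [hΓ, S.inner hδS hδS, hδ]
    simp only [CharCore.classInner_sub_left, CharCore.classInner_sub_right, hμμ, hμT, hTμ, horth,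
      if_pos, sub_zero, zero_sub, sub_neg_eq_add]
  have hΓ11 : classInner Γ (ηt 1 1) = 1 := by
    rw [hη11, hΓ, S.inner_one hδS, hδ, CharCore.classInner_sub_left, hμ1, hT1, sub_zero]
  have he' : ∀ i j, classInner Γ (ηt i j) = (e i j : ℂ) := he
  have he11 : e 1 1 = 1 := by
    have := (he' 1 1).symm.trans hΓ11
    exact_mod_cast this
  have headd : ∀ i j, e i j = e i 1 + e 1 j - e 1 1 := fun i j => by
    have hV : ∀ w : ↥(W₁ ⊔ W₂), (w : L) ∉ W₁ → (w : L) ∉ W₂ → Γ ((w : L) : G) = 0 :=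
      fun w a b => by
        rw [hΓ, S.apply_V hδS a b, hδ, Pi.sub_apply,
          indFun_eq_zero_of_notMem K _ (hVK w ⟨a, b⟩), (hTirr z.2).2.2.1 _ (hVK w ⟨a, b⟩),
          sub_self]
    have h1 := E.additive Γ (CharCore.IsGeneralizedCharacter.isClassFunction (S.gen hδS)) hV
      i.1 i.2 j.1 j.2
    have h2 : classInner Γ (ηt i j) + classInner Γ (ηt 1 1)
        = classInner Γ (ηt i 1) + classInner Γ (ηt 1 j) := by
      simp only [hηt, OneMemClass.coe_one, h1m, hm1]
      linear_combination h1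
    rw [he', he', he', he'] at h2
    have : e i j + e 1 1 = e i 1 + e 1 j := by exact_mod_cast h2
    omega
  choose cg hcg using fun a => Coherence.inner_gen_int (S.gen hδS) (hggen a)
  have hcgd : ∀ a b : T, classInner Γ (g a) - classInner Γ (g b)
      = (if b = z then 1 else 0) - (if a = z then 1 else 0) := fun a b => by
    rw [hΓ, hgdiff δ hδS, hδ]
    simp only [CharCore.classInner_sub_left, hμT, horth, zero_sub, eq_comm (a := z)]
    ring
  have hgle : ∑ i, ∑ j, e i j ^ 2 ≤ (Fintype.card ↥(D1 W₁ W₂) : ℤ) := by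
    let v : (↥(D1 W₁ W₂) × ↥(D2 W₁ W₂)) ⊕ T → G → ℂ := Sum.elim (fun a => ηt a.1 a.2) g
    letI : DecidableEq ((↥(D1 W₁ W₂) × ↥(D2 W₁ W₂)) ⊕ T) := Classical.decEq _
    have hv : ∀ a b, classInner (v a) (v b) = if a = b then 1 else 0 := by
      rintro (a | a) (b | b)
      · simp only [v, Sum.elim_inl]; rw [hη]; simp [Prod.ext_iff]
      · simp only [v, Sum.elim_inl, Sum.elim_inr, reduceCtorEq, if_false]
        rw [← Coherence.inner_conj_symm, hgη, map_zero]
      · simp only [v, Sum.elim_inl, Sum.elim_inr, reduceCtorEq, if_false, hηt, hgη]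
      · simpa [v] using hg a b
    have hle := (sum_sq_le hv (θ := Γ) (c := Sum.elim (fun a => e a.1 a.2) cg)
      (fun a => by
        rcases a with a | a
        · exact he' a.1 a.2
        · exact hcg a) (m := (q : ℤ) + 1)
      (by rw [hΓnorm]; push_cast; rfl)).1
    rw [Fintype.sum_sum_type] at hle
    simp only [Sum.elim_inl, Sum.elim_inr, Fintype.sum_prod_type] at hle
    obtain ⟨b, hb'⟩ := exists_ne z
    have h1 := hcgd b z
    rw [hcg, hcg, if_pos rfl, if_neg hb'] at h1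
    have h2 : cg b - cg z = 1 := by
      have : cg b - cg z = 1 - 0 := by exact_mod_cast h1
      simpa using this
    have h3 : cg b ^ 2 + cg z ^ 2 ≤ ∑ a, cg a ^ 2 := by
      rw [← Finset.sum_pair (f := fun a => cg a ^ 2) hb']
      exact Finset.sum_le_univ_sum_of_nonneg fun a => sq_nonneg _
    have h4 : 1 ≤ cg b ^ 2 + cg z ^ 2 := by nlinarith [sq_nonneg (cg b + cg z)]
    rw [hI]
    linarith
  rcases grid_cases (by omega) (by rw [hJ]; have := hG.hp.two_le; have := hG.p_ne_two; omega)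
    1 1 e headd he11 hgle with hcolumn | ⟨hrow, hle⟩
  swap
  · rw [hI, hJ] at hle
    refine ⟨lt_of_le_of_ne hle hG.hpq, δ, fun i => e i 1, hδS, he11,
      odd_sum_of_symm (fun i => i⁻¹) inv_inv 1 inv_one
        (fun i hi => subgroup_inv_eq_self (by rw [Nat.card_eq_fintype_card, hI]; exact hG.q_odd) hi)
        (fun i => e i 1) he11 fun i => ?_, hΓnorm,
      fun i j => by show _ = (e i 1 : ℂ); rw [← hrow i j]; exact he i j, _, hTmem z.2, hδ⟩
    have hconjδ : conjFun δ = δ + ((z : L → ℂ) - zc) := by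
      rw [hδ]
      have h0 : conjFun (indFun K (fun _ => (1 : ℂ))) = indFun K (fun _ => (1 : ℂ)) := by
        rw [Coherence.conjFun_indFun]
        congr 1
        funext _
        simp [conjFun]
      funext x
      have := congrFun h0 x
      simp only [conjFun] at this
      simp only [conjFun, Pi.sub_apply, Pi.add_apply, map_sub, this, zc]
      ring
    have h1 : conjFun Γ = Γ + (g z - g zc) := by
      rw [hΓ, ← tau_conj, hconjδ, tau_add, hgd]
    have h2 : ∀ ω, classInner (conjFun Γ) (η ω) = classInner Γ (η ω) := fun ω => by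
      rw [h1, CharCore.classInner_add_left, CharCore.classInner_sub_left, hgη, hgη, sub_self,
        add_zero]
    have h3 : classInner Γ (η (i.1)⁻¹) = (e i 1 : ℂ) := by
      rw [← h2, ← eta_conj E hs hb, classInner_conjFun]
      have := he' i 1
      simp only [hηt, OneMemClass.coe_one, hm1] at this
      rw [this, map_intCast]
    have h4 := he' i⁻¹ 1
    simp only [hηt, OneMemClass.coe_one, hm1, InvMemClass.coe_inv] at h4
    rw [h3] at h4
    exact_mod_cast h4.symm
  exfalso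
  have hΓcol : ∀ i j, classInner Γ (ηt i j) = if j = 1 then 1 else 0 := fun i j => by
    rw [he', hcolumn i j]
    split_ifs <;> simp
  obtain ⟨g', hg'gen, hg', hg'd, hg'Γ, hg'A⟩ := core_coefficients (I := ↥(D1 W₁ W₂))
    (J := ↥(D2 W₁ W₂)) (ι := T) (by omega) (by rw [hJ]; exact hG.hp.two_le) (by rw [Fintype.card_coe]; omega)
    (fun i => i⁻¹) inv_inv 1 inv_one
    (fun i hi => subgroup_inv_eq_self (by rw [Nat.card_eq_fintype_card, hI]; exact hG.q_odd) hi)
    (fun j => j⁻¹) inv_inv 1 inv_one ηt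
    (fun i j => IsSignedIrr.isGeneralizedCharacter (E.signed _)) hη
    g hggen hg (fun a i j => hgη a _) z Γ (S.gen hδS)
    (by rw [hI]; exact hΓnorm) hΓ11 hΓcol
    hcgd
    A (fun j hj => S.gen (hαS j hj))
    (fun j hj => by
      simp only [hA]
      rw [S.inner (hαS j hj) (hαS j hj), Fintype.card_coe]
      simp only [hα, CharCore.classInner_sub_left, CharCore.classInner_sub_right,
        CharCore.classInner_smul_left, CharCore.classInner_smul_right, hχT, hTχ, h1T, hT1, h11,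
        (hj11 j hj).1, (hj11 j hj).2, horth, hχχ, if_pos, map_natCast, ← hn]
      ring)
    (fun j hj => by
      simp only [hA]
      rw [hη11, S.inner_one (hαS j hj)]
      simp only [hα, CharCore.classInner_sub_left, CharCore.classInner_smul_left, (hj11 j hj).1,
        h11, hT1]
      ring)
    (fun j hj a b => by
      simp only [hA]
      rw [hgdiff _ (hαS j hj), hαT, hαT, Fintype.card_coe, ← hn]
      simp only [eq_comm (a := z)]
      ring)
    (fun j hj => by
      simp only [hA, hΓ]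
      rw [S.inner (hαS j hj) hδS, Fintype.card_coe]
      have e1 : classInner (fun _ : L => (1 : ℂ)) (indFun K (fun _ => (1 : ℂ))) = 1 := by
        rw [← CharCore.conj_classInner, hμ1, map_one]
      simp only [hα, hδ, CharCore.classInner_sub_left, CharCore.classInner_sub_right,
        CharCore.classInner_smul_left, hjμ j hj, hχT, e1, h1T, hTμ, horth, if_pos, ← hn]
      ring)
    (fun j hj i => by
      have hconjα : conjFun (α j) = α j⁻¹ + (n : ℂ) • ((z : L → ℂ) - zc) := by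
        funext x
        have := congrFun (hχc j) x
        simp only [conjFun] at this
        simp only [hα, conjFun, Pi.sub_apply, Pi.add_apply, Pi.smul_apply, smul_eq_mul, map_sub,
          map_mul, map_natCast, map_one, this, zc]
        ring
      have h1 : A j⁻¹ = conjFun (A j) - (n : ℂ) • (g z - g zc) := by
        simp only [hA]
        rw [← tau_conj, hconjα, tau_add, tau_smul, hgd, add_sub_cancel_right]
      simp only [hηt, OneMemClass.coe_one, hm1, InvMemClass.coe_inv]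
      rw [h1, CharCore.classInner_sub_left, CharCore.classInner_smul_left,
        CharCore.classInner_sub_left, hgη, hgη, sub_self, mul_zero, sub_zero]
      rw [show η i.1 = conjFun (η (i.1)⁻¹) by rw [eta_conj E hs hb, hii],
        classInner_conjFun]
      obtain ⟨m, hm⟩ := Coherence.inner_gen_int (S.gen (hαS j hj))
        (IsSignedIrr.isGeneralizedCharacter (E.signed (i.1)⁻¹))
      simp only [hA]
      rw [hm, map_intCast])
    (fun j hj => by
      simp only [hA]
      rw [← tau_sub, S.inner (hdsup j hj) (hdsup j hj), hαd]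
      simp only [CharCore.classInner_sub_left, CharCore.classInner_sub_right, hχχ, if_pos,
        if_neg (hjne j hj), if_neg (hjne j hj).symm]
      norm_num)
    (fun j hj i hi i' hi' l hl => by
      simp only [hA]
      rw [← tau_sub]
      set Ej := dadeIsometry A₀ L R (α j - α j⁻¹) with hEj
      set θ := Ej - η j.1 + η (j⁻¹).1 with hθ
      have hEgen := S.gen (hdsup j hj)
      have hθgen : IsGeneralizedCharacter G θ := Coherence.gen_add (Coherence.gen_sub hEgen
        (IsSignedIrr.isGeneralizedCharacter (E.signed _)))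
        (IsSignedIrr.isGeneralizedCharacter (E.signed _))
      have hV : ∀ w : ↥(W₁ ⊔ W₂), (w : L) ∉ W₁ → (w : L) ∉ W₂ → θ ((w : L) : G) = 0 := by
        intro w a b
        simp only [hθ, Pi.add_apply, Pi.sub_apply, hEj]
        rw [S.apply_V (hdsup j hj) a b, hαd, Pi.sub_apply, F.on_off _ w b, F.on_off _ w b,
          E.eq_on _ w a b, E.eq_on _ w a b]
        ring
      have hz : ∀ (i : ↥(D1 W₁ W₂)) (l : ↥(D2 W₁ W₂)), i ≠ 1 →
          classInner θ (η (i.1 * l.1)) = classInner Ej (η (i.1 * l.1)) := by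
        intro i l hi
        have hne : ∀ m : ↥(D2 W₁ W₂), m.1 ≠ i.1 * l.1 := fun m e => hi (Subtype.ext
          (mul_inj W₁ W₂ (D1 W₁ W₂).one_mem i.2 m.2 l.2 (by rw [h1m]; exact e)).1.symm)
        rw [hθ, CharCore.classInner_add_left, CharCore.classInner_sub_left,
          E.orth _ _ (hne j), E.orth _ _ (hne j⁻¹), sub_zero, add_zero]
      have hadd := fun (i : ↥(D1 W₁ W₂)) (l : ↥(D2 W₁ W₂)) => E.additive θ
        (CharCore.IsGeneralizedCharacter.isClassFunction hθgen) hV i.1 i.2 l.1 l.2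
      simp only [hηt]
      rw [← hz i l hi, ← hz i' 1 hi', ← hz i 1 hi, ← hz i' l hi', hadd, hadd, hadd, hadd]
      ring)
  have hg'V := (eta_orth_of_diff E hs hb g' hg'gen hg' fun a b w hw => by
    rw [← Pi.sub_apply (g' a) (g' b), hg'd]; exact hgV a b w hw).2
  -- extend the coherence of the linear part
  let f : (L → ℂ) → G → ℂ := fun φ => if h : φ ∈ T then g' ⟨φ, h⟩ else 0
  have hf : ∀ a : T, f a = g' a := fun a => dif_pos a.2
  have hT0 : ∀ φ ∈ T, φ ≠ 0 := fun φ hφ => Coherence.irr_ne_zero (hTirr hφ).1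
  have hTo : ∀ φ ∈ T, ∀ ψ ∈ T, φ ≠ ψ → classInner φ ψ = 0 := fun φ hφ ψ hψ hne => by
    have := horth ⟨φ, hφ⟩ ⟨ψ, hψ⟩
    rwa [if_neg fun e => hne (congrArg Subtype.val e)] at this
  have hiso : IsLinearIsometryOn (zspan (↑T : Set (L → ℂ))) (Coherence.orthExt T f) := by
    refine Coherence.orthExt_isometry T f hT0 hTo (fun φ hφ ψ hψ => ?_) fun c => ?_
    · rw [hf ⟨φ, hφ⟩, hf ⟨ψ, hψ⟩, hg', ← horth]
    · exact Coherence.gen_sum _ _ fun φ hφ => Coherence.gen_zsmul (by
        rw [hf ⟨φ, hφ⟩]; exact hg'gen _) _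
  have hagree : ∀ β ∈ zspanOn (↑T : Set (L → ℂ)) {1}ᶜ,
      Coherence.orthExt T f β = dadeIsometry A₀ L R β := by
    intro β hβ
    obtain ⟨hβ1, hβ2⟩ := Coherence.mem_zspanOn_one.1 hβ
    obtain ⟨c, rfl⟩ := Coherence.mem_zspan_finset.1 hβ1
    rw [Coherence.orthExt_sum_self f hT0 hTo c, tau_sum]
    have hc : ∑ φ ∈ T, (c φ : ℂ) = 0 := by
      rw [Finset.sum_apply, Finset.sum_congr rfl (g := fun φ => (c φ : ℂ) * (q : ℂ))
        (fun φ hφ => by rw [Pi.smul_apply, zsmul_eq_mul, (hTirr hφ).2.1]), ← Finset.sum_mul,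
        mul_eq_zero] at hβ2
      exact hβ2.resolve_right (Nat.cast_ne_zero.2 hG.hq.ne_zero)
    have hstep : ∀ φ ∈ T, c φ • f φ = dadeIsometry A₀ L R (c φ • φ) +
        (c φ : ℂ) • (g' z - dadeIsometry A₀ L R (z : L → ℂ)) := by
      intro φ hφ
      have e : g' ⟨φ, hφ⟩ - g' z =
          dadeIsometry A₀ L R φ - dadeIsometry A₀ L R (z : L → ℂ) := by
        rw [hg'd, hgd, tau_sub]
      rw [hf ⟨φ, hφ⟩, Coherence.zsmul_eq, Coherence.zsmul_eq, tau_smul, ← smul_add]
      congr 1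
      rw [← add_sub_assoc, eq_sub_iff_add_eq]
      linear_combination e
    rw [Finset.sum_congr rfl hstep, Finset.sum_add_distrib, ← Finset.sum_smul, hc, zero_smul,
      add_zero]
  -- the columns `μ`
  have hu3 := (hr.u_facts hG).2.2
  have hψ1 : ∀ j : ↥(D2 W₁ W₂), j ≠ 1 → j.1 ≠ 1 := fun j hj e => hj (Subtype.ext e)
  set μ : ↥(D2 W₁ W₂) → L → ℂ := fun j => indFun K (fun k : K => χ j.1 k) with hμdef
  have hres : ∀ j : ↥(D2 W₁ W₂), j ≠ 1 →
      (fun k : K => (sgn χ j.1 • χ j.1) k) = fun k : K => χ j.1 k := fun j hj => by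
    rw [(fam_degree hr hG F j.2 (hψ1 j hj)).1, one_smul]
  have hμsum : ∀ j : ↥(D2 W₁ W₂), j ≠ 1 → μ j = ∑ i : ↥(D1 W₁ W₂), χ (i.1 * j.1) := by
    intro j hj
    rw [hμdef]
    show indFun K (fun k : K => χ j.1 k) = _
    rw [← hres j hj, F.ind_restrict]
    refine Finset.sum_congr rfl fun i _ => ?_
    rw [F.sgn_eq i.2, (fam_degree hr hG F j.2 (hψ1 j hj)).1, one_smul]
  have hμmem : ∀ j : ↥(D2 W₁ W₂), j ≠ 1 → μ j ∈ inducedIrrAbove K C := by
    intro j hj
    refine ⟨_, hres j hj ▸ F.restrict_irr j.1, fun e => ?_, (fam_degree hr hG F j.2 (hψ1 j hj)).2.2, rfl⟩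
    refine fam_nontrivH hG F j.2 (hψ1 j hj) fun a _ => ?_
    rw [hres j hj, e]
  have hμone : ∀ j : ↥(D2 W₁ W₂), j ≠ 1 → μ j 1 = (q : ℂ) * C.relIndex U := fun j hj => by
    rw [hμdef]
    show indFun K (fun k : K => χ j.1 k) 1 = _
    rw [CharInd.indFun_apply_one, hG.card_K.1]
    exact congrArg _ (fam_degree hr hG F j.2 (hψ1 j hj)).2.1
  have hμorth : ∀ j j' : ↥(D2 W₁ W₂), j ≠ 1 → j' ≠ 1 →
      classInner (μ j) (μ j') = if j = j' then (q : ℂ) else 0 := by
    intro j j' hj hj'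
    rw [hμsum j hj, hμsum j' hj']
    simp only [CharCore.classInner_sum_left, CharCore.classInner_sum_right, hχχ]
    split_ifs with h
    · subst h
      rw [Finset.sum_congr rfl fun i _ => Finset.sum_eq_single i ?_ (by simp)]
      · simp [hI]
      · intro k _ hne
        rw [if_neg]
        exact fun e => hne (Subtype.ext (mul_inj W₁ W₂ i.2 k.2 j.2 j.2 e.symm).1.symm)
    · refine Finset.sum_eq_zero fun i _ => Finset.sum_eq_zero fun k _ => if_neg fun e => h ?_
      exact Subtype.ext (mul_inj W₁ W₂ k.2 i.2 j.2 j'.2 e).2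
  have hμinj : Set.InjOn μ {j | j ≠ 1} := fun j hj j' hj' e => by
    by_contra hne
    have h1 := hμorth j j' hj hj'
    rw [if_neg hne, ← e, hμorth j j hj hj, if_pos rfl] at h1
    exact hG.hq.ne_zero (by exact_mod_cast h1)
  set D := (Finset.univ : Finset ↥(D2 W₁ W₂)).erase 1
  set Sm : Finset (L → ℂ) := T ∪ D.image μ with hSm
  have hSmU : Sm ⊆ Coherence.seqFinset K C := by
    intro φ hφ
    rw [← Finset.mem_coe, Coherence.coe_seqFinset]
    rcases Finset.mem_union.1 hφ with h | h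
    · exact Coherence.seq_subset K (fun x _ hx => Subgroup.mem_sup_right hx) (hTmem h)
    · obtain ⟨j, hj, rfl⟩ := Finset.mem_image.1 h
      exact hμmem j (Finset.ne_of_mem_erase hj)
  have hUsub : (↑(Coherence.seqFinset K C) : Set (L → ℂ)) ⊆ inducedIrrAbove K ⊥ := by
    rw [Coherence.coe_seqFinset]; exact Coherence.seq_subset_bot K C
  have hSmbot : (↑Sm : Set (L → ℂ)) ⊆ inducedIrrAbove K ⊥ :=
    (Finset.coe_subset.2 hSmU).trans hUsub
  have hSmconj : ∀ φ ∈ Sm, conjFun φ ∈ Sm := by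
    intro φ hφ
    rcases Finset.mem_union.1 hφ with h | h
    · refine Finset.mem_union_left _ ?_
      rw [hT, ← Finset.mem_coe, Coherence.coe_seqFinset]
      exact Coherence.seq_conj K (hTmem h)
    · obtain ⟨j, hj, rfl⟩ := Finset.mem_image.1 h
      refine Finset.mem_union_right _ (Finset.mem_image.2 ⟨j⁻¹,
        Finset.mem_erase.2 ⟨hinv j (Finset.ne_of_mem_erase hj), Finset.mem_univ _⟩, ?_⟩)
      show indFun K (fun k : K => χ (j⁻¹).1 k) = conjFun (indFun K (fun k : K => χ j.1 k))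
      rw [Coherence.conjFun_indFun, ← hχc j]
      rfl
  have hTS : T ⊆ Sm := Finset.subset_union_left
  have hcoh : IsCoherent (↑Sm : Set (L → ℂ)) {1}ᶜ (dadeIsometry A₀ L R) := by
    refine Coherence.coherent_extend (S₀ := T) hTS ?_ ?_ ?_ hiso hagree z.2 ?_ ?_
    · intro φ hφ
      exact Coherence.sys_ne_zero hS (hSmbot hφ)
    · intro φ hφ ψ hψ hne
      exact hS.orthogonal φ (hSmbot hφ) ψ (hSmbot hψ) hne
    · have hm := Coherence.zspanOn_mono hSmbot ({1}ᶜ : Set L)
      exact ⟨fun a ha b hb => hS.isometry.1 a (hm ha) b (hm hb),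
        fun a ha => hS.isometry.2.1 a (hm ha),
        fun a ha b hb => hS.isometry.2.2.1 a (hm ha) b (hm hb),
        fun a ha => hS.isometry.2.2.2 a (hm ha)⟩
    swap
    · obtain ⟨b, hb⟩ := exists_ne z
      refine ⟨(b : L → ℂ) - z, Coherence.mem_zspanOn_one.2 ⟨Coherence.zspan_sub
        (Coherence.zspan_subset (Finset.mem_coe.2 (hTS b.2)))
        (Coherence.zspan_subset (Finset.mem_coe.2 (hTS z.2))), (hsT b z).2.1⟩, fun e => ?_⟩
      exact hb (Subtype.ext (sub_eq_zero.1 e))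
    intro φ hφ hφT
    obtain ⟨j, hj, rfl⟩ := Finset.mem_image.1 ((Finset.mem_union.1 hφ).resolve_left hφT)
    have hjn : j ≠ 1 := Finset.ne_of_mem_erase hj
    refine ⟨(C.relIndex U : ℤ), ?_, fun a ha => ?_⟩
    · rw [Pi.sub_apply, Pi.smul_apply, zsmul_eq_mul, (hTirr z.2).2.1, hμone j hjn]
      push_cast
      ring
    set ψ := j.1 with hψdef
    have hψ : ψ ∈ D2 W₁ W₂ := j.2
    have hφsum : μ j = ∑ i : ↥(D1 W₁ W₂), χ (i.1 * ψ) := hμsum j hjn
    set β : ↥(D1 W₁ W₂) → L → ℂ := fun i =>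
      χ (i.1 * ψ) - χ i.1 - χ ψ + fun _ => (1 : ℂ) with hβ
    have htw : ∀ (i : ↥(D1 W₁ W₂)) (x : L), χ (i.1 * ψ) x = (S.pti.infl i.1 x : ℂ) * χ ψ x ∧
        χ i.1 x = (S.pti.infl i.1 x : ℂ) := fun i x => by
      refine ⟨congrFun (F.twist i.1 i.2 ψ) x, ?_⟩
      have := congrFun (F.twist i.1 i.2 1) x
      rw [hm1, hχone] at this
      simpa using this
    have hβK : ∀ i, ∀ x ∈ K, β i x = 0 := by
      intro i x hx
      simp only [hβ, Pi.add_apply, Pi.sub_apply, (htw i x).1, (htw i x).2,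
        S.pti.infl_K i.1 hx, Units.val_one]
      ring
    have hβS : ∀ i, Supp W₁ (β i) := by
      intro i
      refine ⟨Coherence.gen_add (Coherence.gen_sub (Coherence.gen_sub (hχgen _) (hχgen _))
        (hχgen _)) hone, hβK i 1 K.one_mem, fun w hw hw1 => ?_⟩
      have := hoff ψ w hw hw1 (Subgroup.mem_sup_left hw)
      rw [hψ _ hw, Units.val_one] at this
      simp only [hβ, Pi.add_apply, Pi.sub_apply, (htw i w).1, (htw i w).2, this]
      ring
    have hid : (C.relIndex U : ℤ) • (z : L → ℂ) - μ j =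
        -(∑ i, β i) - (q : ℂ) • α j - δ := by
      rw [hδ, hμ₀, hφsum]
      funext x
      simp only [hβ, hα, Pi.sub_apply, Pi.neg_apply, Pi.smul_apply, Finset.sum_apply,
        Pi.add_apply, Finset.sum_sub_distrib, Finset.sum_add_distrib, Finset.sum_const,
        Finset.card_univ, hI, zsmul_eq_mul, nsmul_eq_mul, smul_eq_mul, ← hnu, hψdef]
      push_cast
      simp only [Pi.mul_apply, Pi.natCast_apply, Pi.intCast_apply, Pi.add_apply, Pi.one_apply]
      ring
    have hneg : dadeIsometry A₀ L R (-(∑ i, β i)) = -∑ i, dadeIsometry A₀ L R (β i) := by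
      rw [← neg_one_smul ℂ (∑ i, β i), tau_smul, tau_sum, neg_one_smul]
    have hβ0 : ∀ i, classInner (dadeIsometry A₀ L R (β i)) (g' ⟨a, ha⟩) = 0 := fun i =>
      S.orth_V (hβS i) (hβK i)
        (CharCore.IsGeneralizedCharacter.isClassFunction (hg'gen _))
        fun w h1 h2 => hg'V _ w ⟨h1, h2⟩
    have hL : classInner ((C.relIndex U : ℤ) • (z : L → ℂ) - μ j) a =
        (C.relIndex U : ℂ) * if (⟨a, ha⟩ : T) = z then 1 else 0 := by
      rw [CharCore.classInner_sub_left, Coherence.inner_zsmul_left, hφsum,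
        CharCore.classInner_sum_left, Finset.sum_eq_zero fun i _ => hχT ⟨a, ha⟩ _, sub_zero,
        horth z ⟨a, ha⟩]
      simp only [eq_comm (a := z), Int.cast_natCast]
    rw [Coherence.orthExt_apply f hT0 hTo ha, hf ⟨a, ha⟩, hL, hid, tau_sub, tau_sub, hneg,
      tau_smul, CharCore.classInner_sub_left, CharCore.classInner_sub_left,
      CharCore.classInner_neg_left, CharCore.classInner_smul_left, CharCore.classInner_sum_left,
      Finset.sum_eq_zero fun i _ => hβ0 i]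
    rw [show dadeIsometry A₀ L R (α j) = A j from rfl, hg'A j hjn ⟨a, ha⟩,
      show dadeIsometry A₀ L R δ = Γ from rfl, hg'Γ, Fintype.card_coe, ← hn, ← hnu]
    push_cast
    ring
  -- grow to all members trivial on `C`
  have hnorm : ∀ j ∈ D, ((μ j 1).re ^ 2 / Coherence.normSqFn (μ j) : ℝ) =
      (q : ℝ) * (C.relIndex U : ℝ) ^ 2 := by
    intro j hj
    have hj' := Finset.ne_of_mem_erase hj
    have hn2 : Coherence.normSqFn (μ j) = (q : ℝ) := by
      have := hμorth j j hj' hj'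
      rw [if_pos rfl, Coherence.inner_self] at this
      exact_mod_cast this
    rw [hn2, hμone j hj', ← Nat.cast_mul, Complex.natCast_re, Nat.cast_mul]
    have : (q : ℝ) ≠ 0 := Nat.cast_ne_zero.2 hG.hq.ne_zero
    field_simp
  have hweight : ((p - 1 : ℕ) : ℝ) * ((q : ℝ) * (C.relIndex U : ℝ) ^ 2) ≤ Coherence.weight Sm := by
    refine le_trans (le_of_eq ?_) (Coherence.weight_mono Finset.subset_union_right)
    rw [Coherence.weight, Finset.sum_image (fun a ha b hb e =>
      hμinj (Finset.ne_of_mem_erase ha) (Finset.ne_of_mem_erase hb) e), Finset.sum_congr rfl hnorm,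
      Finset.sum_const, nsmul_eq_mul, Finset.card_erase_of_mem (Finset.mem_univ _), Finset.card_univ,
      hJ]
  have hgrow : IsCoherent (↑(Coherence.seqFinset K C) : Set (L → ℂ)) {1}ᶜ
      (dadeIsometry A₀ L R) := by
    refine Coherence.coherent_grow hS hUsub ?_ hSmU hSmconj hcoh ?_
    · intro φ hφ
      rw [← Finset.mem_coe, Coherence.coe_seqFinset] at hφ ⊢
      exact Coherence.seq_conj K hφ
    intro T' hT' hT'U _ hne
    obtain ⟨φ, hφ, hφT⟩ : ∃ φ ∈ Coherence.seqFinset K C, φ ∉ T' := by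
      by_contra h
      push Not at h
      exact hne (Finset.Subset.antisymm hT'U h)
    obtain ⟨θ, hθ, rfl⟩ := (Coherence.mem_seqFinset K).1 hφ
    obtain ⟨d, hd, -, hdu⟩ := degree_le hr hG θ.2 ((Coherence.mem_irrNP K).1 hθ).2
    refine ⟨_, hφ, hφT, (z : L → ℂ), hT' (hTS z.2), d, ?_, ?_⟩
    · rw [CharInd.indFun_apply_one, hd, hG.card_K.1, (hTirr z.2).2.1, mul_comm]
    · refine lt_of_lt_of_le ?_ (hweight.trans (Coherence.weight_mono hT'))
      rw [CharInd.indFun_apply_one, hd, hG.card_K.1, (hTirr z.2).2.1, ← Nat.cast_mul,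
        Complex.natCast_re, Complex.natCast_re]
      have key : 2 * (q * d) * q < (p - 1) * (q * C.relIndex U ^ 2) := by
        have h1 : 2 * (q * d) * q ≤ 2 * (q * C.relIndex U) * q := by gcongr
        have h2 : 2 ≤ p - 1 := by have := hG.hp.two_le; have := hG.p_ne_two; omega
        have h3 : 2 * (q * C.relIndex U ^ 2) ≤ (p - 1) * (q * C.relIndex U ^ 2) := by gcongr
        have h4 : q * C.relIndex U * (2 * q + 1) ≤ q * C.relIndex U * C.relIndex U :=
          Nat.mul_le_mul_left _ hu3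
        have h5 : 0 < q * C.relIndex U := Nat.mul_pos hG.hq.pos (by omega)
        nlinarith
      exact_mod_cast key
  rw [Coherence.coe_seqFinset] at hgrow
  have hCK : C < K := lt_of_le_of_ne (hr.C_le_K hG) fun e =>
    hKH (le_trans e.ge le_sup_right)
  have hle := hbd C hCK hgrow
  rw [← Subgroup.relIndex_mul_relIndex C (H ⊔ C) K le_sup_right
    (sup_le hG.H_le (hr.C_le_K hG)), relIndex_HC hG hr.chief.C_le] at hle
  have hCH : C.relIndex (H ⊔ C) = p ^ q := by
    have h2 : C.relIndex (H ⊔ C) * Nat.card C = Nat.card ↥(H ⊔ C) := by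
      rw [mul_comm, ← Nat.card_congr (Subgroup.subgroupOfEquivOfLe
        (le_sup_right : C ≤ H ⊔ C)).toEquiv]
      exact Subgroup.card_mul_index _
    rw [ChiefHyp.card_sup hG le_rfl hr.chief.C_le, hr.card_H] at h2
    exact Nat.eq_of_mul_eq_mul_right Nat.card_pos h2
  rw [hCH] at hle
  have h3 : 2 * q + 2 ≤ p ^ q := by
    have h1 : 3 ^ q ≤ p ^ q := Nat.pow_le_pow_left (by
      have := hG.hp.two_le; have := hG.p_ne_two; omega) q
    obtain ⟨q', rfl⟩ := Nat.exists_eq_add_of_le hG.hq.two_le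
    have h2 : q' < 3 ^ q' := Nat.lt_pow_self (by norm_num)
    rw [pow_add] at h1
    omega
  have := Nat.mul_le_mul_right (C.relIndex U) h3
  have h4 : (2 * q + 2) * C.relIndex U = 2 * q * C.relIndex U + 2 * C.relIndex U := by ring
  omega

end Cfsg.Agent.OddLocal44.PF11
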