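import Cfsg.Agent.OddLocal44.PF11.Final
import Cfsg.Agent.PF.PrimeColumn
import Cfsg.Agent.Lib.Zassenhaus.Cyclic
import Mathlib.Analysis.SpecialFunctions.Complex.Circle
import Mathlib.RingTheory.RootsOfUnity.Complex

set_option autoImplicit false

/-!
The action of `U` on `H` for a maximal subgroup of type III (Peterfalvi (9.7) and (11.8)): it is
irreducible, so `U` is cyclic of order dividing `(p ^ q - 1) / (p - 1)`.
-/

open scoped commutatorElement

namespace Cfsg.Agent.OddLocal44.PF11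

open Cfsg Cfsg.Agent OddChar OddChar.CycTI OddChar.PrimeTI

universe u

theorem sq_lt_two_pow {n : ℕ} (h : 5 ≤ n) : n ^ 2 < 2 ^ n := by
  induction n, h using Nat.le_induction with
  | base => norm_num
  | succ n hn ih => rw [pow_succ 2 n]; nlinarith

section Group

variable {L : Type u} [Group L] [Finite L] {K H U W₁ W₂ C : Subgroup L} {p q : ℕ}

/-- An element of `U` whose class modulo `C` is fixed by `W₁` lies in `C`. -/
theorem Reduced.mem_C_of_fixed (hr : Reduced H U W₂ C p q) (hG : GroupHyp K H U W₁ W₂ p q) {v : L}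
    (hv : v ∈ U) (h : ∀ w ∈ W₁, w * v * w⁻¹ * v⁻¹ ∈ C) : v ∈ C := by
  haveI := hr.C_normal hG
  obtain ⟨c, hc, hfx⟩ := exists_fixed_coset hG.hq W₁ C (IsPGroup.of_card (n := 1)
    (by rw [hG.card_W₁, pow_one])) (hG.not_q_dvd C (hr.C_le_K hG)) v h
  obtain ⟨w, hw, hw1⟩ := hG.exists_w
  have hvc : v * c = 1 := hG.fpf hw hw1 (U.mul_mem hv (hr.chief.C_le hc)) (hfx w hw)
  rw [eq_inv_of_mul_eq_one_left hvc]
  exact C.inv_mem hc

/-- If `U` is irreducible on `H`, an element with an eigenvector in `F_p` lies in `C`. -/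
theorem Reduced.eigen (hr : Reduced H U W₂ C p q) (hG : GroupHyp K H U W₁ W₂ p q)
    (hirr : ∀ N : Subgroup L, N ≤ H → U ≤ Subgroup.normalizer (N : Set L) → N = ⊥ ∨ N = H)
    {v h : L} {k : ℕ} (hv : v ∈ U) (hh : h ∈ H) (hh1 : h ≠ 1) (e : v * h * v⁻¹ = h ^ k) :
    v ∈ C := by
  haveI := hG.H_normal
  let N : Subgroup L :=
    { carrier := {x | x ∈ H ∧ v * x * v⁻¹ = x ^ k}
      one_mem' := ⟨H.one_mem, by simp⟩
      mul_mem' := fun {a b} ha hb => ⟨H.mul_mem ha.1 hb.1, by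
        rw [(show Commute a b from hr.abelian a ha.1 b hb.1).mul_pow, ← ha.2, ← hb.2]; group⟩
      inv_mem' := fun {a} ha => ⟨H.inv_mem ha.1, by rw [inv_pow, ← ha.2]; group⟩ }
  have hUN : U ≤ Subgroup.normalizer (N : Set L) := by
    have key : ∀ t ∈ U, ∀ x ∈ N, t * x * t⁻¹ ∈ N := by
      rintro t ht x ⟨hx, hx'⟩
      refine ⟨hG.H_normal.conj_mem x hx t, ?_⟩
      set c := v⁻¹ * (t⁻¹ * v * t) with hc
      have hcC : c ∈ C := by
        rw [hc, hr.C_eq, show v⁻¹ * (t⁻¹ * v * t) = ⁅v⁻¹, t⁻¹⁆ by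
          rw [commutatorElement_def]; group]
        exact Subgroup.commutator_mem_commutator (U.inv_mem hv) (U.inv_mem ht)
      have hcx : c * x * c⁻¹ = x := by rw [hr.central hG c hcC x hx, mul_inv_cancel_right]
      calc v * (t * x * t⁻¹) * v⁻¹ = t * (v * (c * x * c⁻¹) * v⁻¹) * t⁻¹ := by rw [hc]; group
        _ = (t * x * t⁻¹) ^ k := by rw [hcx, hx', conj_pow]
    intro t ht
    rw [Subgroup.mem_normalizer_iff]
    exact fun x => ⟨key t ht x, fun h => by
      simpa [mul_assoc] using key t⁻¹ (U.inv_mem ht) _ h⟩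
  have hN : N = H := (hirr N (fun x hx => hx.1) hUN).resolve_left fun e' => hh1 (by
    have : h ∈ N := ⟨hh, e⟩
    rwa [e', Subgroup.mem_bot] at this)
  have hall : ∀ x ∈ H, v * x * v⁻¹ = x ^ k := fun x hx => (show x ∈ N from hN.symm ▸ hx).2
  refine hr.mem_C_of_fixed hG hv fun w hw => hr.mem_C_of
    (U.mul_mem ((Subgroup.mem_normalizer_iff.1 (hG.U_norm hw) v).1 hv) (U.inv_mem hv)) fun x hx => ?_
  have h1 : v⁻¹ * x * v ∈ H := by simpa using hG.H_normal.conj_mem x hx v⁻¹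
  have h2 : w⁻¹ * (v⁻¹ * x * v) * w ∈ H := by simpa using hG.H_normal.conj_mem _ h1 w⁻¹
  have e1 : w * v * w⁻¹ * v⁻¹ * x * (w * v * w⁻¹ * v⁻¹)⁻¹ = x :=
    calc w * v * w⁻¹ * v⁻¹ * x * (w * v * w⁻¹ * v⁻¹)⁻¹
        = w * (v * (w⁻¹ * (v⁻¹ * x * v) * w) * v⁻¹) * w⁻¹ := by group
      _ = (v⁻¹ * x * v) ^ k := by rw [hall _ h2, ← conj_pow]; congr 1; group
      _ = v * (v⁻¹ * x * v) * v⁻¹ := (hall _ h1).symm
      _ = x := by group
  calc w * v * w⁻¹ * v⁻¹ * x
      = w * v * w⁻¹ * v⁻¹ * x * (w * v * w⁻¹ * v⁻¹)⁻¹ * (w * v * w⁻¹ * v⁻¹) := by group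
    _ = x * (w * v * w⁻¹ * v⁻¹) := by rw [e1]

/-- The consequences of irreducibility. -/
theorem Reduced.galois (hr : Reduced H U W₂ C p q) (hG : GroupHyp K H U W₁ W₂ p q)
    (hirr : ∀ N : Subgroup L, N ≤ H → U ≤ Subgroup.normalizer (N : Set L) → N = ⊥ ∨ N = H) :
    IsCyclic U ∧ Nat.card U * (p - 1) ∣ p ^ q - 1 ∧
      ∀ u ∈ U, u ≠ 1 → ∀ x ∈ H, u * x = x * u → x = 1 := by
  classical
  haveI := hG.H_normal
  haveI : Fact p.Prime := ⟨hG.hp⟩
  haveI : IsMulCommutative H := ⟨⟨fun x y => Subtype.ext (hr.abelian x x.2 y y.2)⟩⟩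
  letI : CommGroup H := IsMulCommutative.instCommGroup
  have hfix : ∀ v ∈ U, ∀ h ∈ H, h ≠ 1 → v * h * v⁻¹ = h → v ∈ C := fun v hv h hh hh1 e =>
    hr.eigen hG hirr hv hh hh1 (k := 1) (by rw [pow_one, e])
  let ρ : U →* MulAut H := (MulAut.conjNormal : L →* MulAut H).comp U.subtype
  have hρ : ∀ (v : U) (x : H), ((ρ v x : H) : L) = v * x * (v : L)⁻¹ := fun v x => rfl
  obtain ⟨y, hy, hy1⟩ : ∃ y ∈ H, y ≠ 1 := (Subgroup.bot_or_exists_ne_one H).resolve_left fun e => by
    have := hr.card_H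
    rw [e, Subgroup.card_bot] at this
    exact absurd this.symm (Nat.one_lt_pow hG.hq.ne_zero hG.hp.one_lt).ne'
  haveI : Nontrivial H := ⟨⟨y, hy⟩, 1, fun e => hy1 (congrArg Subtype.val e)⟩
  haveI : IsCyclic ρ.range := by
    refine ZassNormal.isCyclic_of_fpf_comm (M := H) ?_ ?_ ?_
    · rintro ⟨_, v, rfl⟩ ⟨_, t, rfl⟩
      apply Subtype.ext
      show ρ v * ρ t = ρ t * ρ v
      rw [← map_mul, ← map_mul]
      refine MulEquiv.ext fun x => Subtype.ext ?_
      rw [hρ, hρ]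
      have hc : ((v : L) * t)⁻¹ * (t * v) ∈ C := by
        rw [hr.C_eq, show ((v : L) * t)⁻¹ * (t * v) = ⁅(t : L)⁻¹, (v : L)⁻¹⁆ by
          rw [commutatorElement_def]; group]
        exact Subgroup.commutator_mem_commutator (U.inv_mem t.2) (U.inv_mem v.2)
      simp only [Subgroup.coe_mul]
      have := hr.central hG _ hc _ x.2
      calc (v : L) * t * x * ((v : L) * t)⁻¹
          = (v : L) * t * (((v : L) * t)⁻¹ * (t * v) * x) * (((v : L) * t)⁻¹ * (t * v))⁻¹
              * ((v : L) * t)⁻¹ := by rw [this]; group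
        _ = _ := by group
    · exact (hG.coprime_compl.symm.coprime_dvd_left
        ((Subgroup.card_range_dvd ρ).trans (Subgroup.card_dvd_of_le le_sup_left)))
    · rintro ⟨_, v, rfl⟩ hne x hx
      by_contra hx1
      refine hne (Subtype.ext (MulEquiv.ext fun z => Subtype.ext ?_))
      have hvC := hfix v v.2 x x.2 (fun e => hx1 (Subtype.ext e)) (congrArg Subtype.val hx)
      show ((ρ v z : H) : L) = z
      rw [hρ, hr.central hG v hvC z z.2, mul_inv_cancel_right]
  obtain ⟨⟨_, g, rfl⟩, hgen⟩ := IsCyclic.exists_generator (α := ρ.range)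
  have hgU : (g : L) ∈ U := g.2
  have hgC : Subgroup.zpowers (g : L) ⊔ C = U := by
    refine le_antisymm (sup_le (Subgroup.zpowers_le.2 hgU) hr.chief.C_le) fun v hv => ?_
    obtain ⟨m, hm⟩ := Subgroup.mem_zpowers_iff.1 (hgen ⟨_, ⟨⟨v, hv⟩, rfl⟩⟩)
    have hm' : ρ (g ^ m) = ρ ⟨v, hv⟩ := by
      rw [map_zpow]
      simpa using congrArg Subtype.val hm
    have hc : ((g : L) ^ m)⁻¹ * v ∈ C := by
      refine hr.mem_C_of (U.mul_mem (U.inv_mem (U.zpow_mem hgU m)) hv) fun a ha => ?_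
      have := congrArg Subtype.val (DFunLike.congr_fun hm' ⟨a, ha⟩)
      rw [hρ, hρ, SubgroupClass.coe_zpow] at this
      calc ((g : L) ^ m)⁻¹ * v * a = ((g : L) ^ m)⁻¹ * (v * a * v⁻¹) * v := by group
        _ = _ := by rw [show v * a * v⁻¹ = _ from this.symm]; group
    rw [← mul_inv_cancel_left ((g : L) ^ m) v]
    exact Subgroup.mul_mem_sup (Subgroup.zpow_mem_zpowers _ m) hc
  have hUg : Subgroup.zpowers (g : L) = U := by
    haveI := hG.U_nil
    have htop := eq_top_of_sup_commutator hG.U_nil ((Subgroup.zpowers (g : L)).subgroupOf U) (by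
      apply Subgroup.map_injective U.subtype_injective
      rw [Subgroup.map_sup, Subgroup.map_subgroupOf_eq_of_le (Subgroup.zpowers_le.2 hgU),
        commutator_def, Subgroup.map_commutator, ← MonoidHom.range_eq_map, Subgroup.range_subtype]
      refine le_antisymm (sup_le (Subgroup.zpowers_le.2 hgU) (Subgroup.commutator_le_self U)) ?_
      conv_lhs => rw [← hgC]
      exact sup_le_sup_left hr.C_eq.le _)
    have := Subgroup.subgroupOf_eq_top.1 htop
    exact le_antisymm (Subgroup.zpowers_le.2 hgU) this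
  have hC : C = ⊥ := by
    rw [hr.C_eq, eq_bot_iff, Subgroup.commutator_le]
    intro a ha b hb
    rw [← hUg, Subgroup.mem_zpowers_iff] at ha hb
    obtain ⟨m, rfl⟩ := ha
    obtain ⟨n, rfl⟩ := hb
    rw [Subgroup.mem_bot, commutatorElement_eq_one_iff_mul_comm, ← zpow_add, ← zpow_add, add_comm]
  refine ⟨(Subgroup.isCyclic_iff_exists_zpowers_eq_top _).2 ⟨_, hUg⟩, ?_, fun u hu hu1 x hx e => ?_⟩
  swap
  · by_contra hx1
    have := hfix u hu x hx hx1 (by rw [e, mul_inv_cancel_right])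
    rw [hC, Subgroup.mem_bot] at this
    exact hu1 this
  have hexp : ∀ x : H, x ^ p = 1 := fun x => Subtype.ext (by
    rw [SubmonoidClass.coe_pow]; exact hr.exponent x x.2)
  have hpow : ∀ (x : H) (a b : (ZMod p)ˣ),
      x ^ ((a * b : (ZMod p)ˣ) : ZMod p).val = x ^ ((a : ZMod p).val * (b : ZMod p).val) := by
    intro x a b
    rw [pow_eq_pow_iff_modEq]
    refine Nat.ModEq.of_dvd (orderOf_dvd_of_pow_eq_one (hexp x)) ?_
    rw [← ZMod.natCast_eq_natCast_iff]
    simp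
  let X := {x : H // x ≠ 1}
  let smul : U × (ZMod p)ˣ → X → X := fun a x => ⟨ρ a.1 x.1 ^ (a.2 : ZMod p).val, fun e => by
    refine x.2 ?_
    have h1 : (ρ a.1 x.1 ^ (a.2 : ZMod p).val) ^ ((a.2⁻¹ : (ZMod p)ˣ) : ZMod p).val = ρ a.1 x.1 := by
      rw [← pow_mul, ← hpow, mul_inv_cancel, Units.val_one, ZMod.val_one, pow_one]
    rw [e, one_pow] at h1
    exact (ρ a.1).injective (h1.symm.trans (map_one _).symm)⟩
  letI : MulAction (U × (ZMod p)ˣ) X :=
    { smul := smul
      one_smul := fun x => by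
        apply Subtype.ext
        show ρ 1 x.1 ^ ((1 : (ZMod p)ˣ) : ZMod p).val = x.1
        rw [map_one, MulAut.one_apply, Units.val_one, ZMod.val_one, pow_one]
      mul_smul := fun a b x => by
        apply Subtype.ext
        show ρ (a.1 * b.1) x.1 ^ ((a.2 * b.2 : (ZMod p)ˣ) : ZMod p).val =
          ρ a.1 (ρ b.1 x.1 ^ (b.2 : ZMod p).val) ^ (a.2 : ZMod p).val
        rw [map_mul, MulAut.mul_apply, map_pow, ← pow_mul, mul_comm a.2 b.2, hpow] }
  have hst : ∀ x : X, MulAction.stabilizer (U × (ZMod p)ˣ) x = ⊥ := by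
    intro x
    rw [eq_bot_iff]
    rintro ⟨v, k⟩ hk
    rw [MulAction.mem_stabilizer_iff] at hk
    have hk' : ρ v x.1 ^ (k : ZMod p).val = x.1 := congrArg Subtype.val hk
    have h1 : ρ v x.1 = x.1 ^ ((k⁻¹ : (ZMod p)ˣ) : ZMod p).val := by
      conv_rhs => rw [← hk']
      rw [← pow_mul, ← hpow, mul_inv_cancel, Units.val_one, ZMod.val_one, pow_one]
    have hv : (v : L) ∈ C := hr.eigen hG hirr v.2 x.1.2 (fun e => x.2 (Subtype.ext e)) (by
      rw [← hρ, h1, SubmonoidClass.coe_pow])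
    rw [hC, Subgroup.mem_bot] at hv
    have hv1 : v = 1 := Subtype.ext hv
    subst hv1
    rw [map_one, MulAut.one_apply] at hk'
    have hord : orderOf x.1 = p := orderOf_eq_prime (hexp _) x.2
    conv_rhs at hk' => rw [← pow_one x.1]
    rw [pow_eq_pow_iff_modEq, hord, ← ZMod.natCast_eq_natCast_iff] at hk'
    exact Subgroup.mem_bot.2 (Prod.ext rfl (Units.ext (by simpa using hk')))
  have hcard : Nat.card (U × (ZMod p)ˣ) ∣ Nat.card X := by
    exact Dvd.intro_left _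
      ((Nat.card_congr (MulAction.selfEquivOrbitsQuotientProd hst)).trans (Nat.card_prod _ _)).symm
  rw [Nat.card_prod, Nat.card_units, Nat.card_zmod] at hcard
  haveI : Fintype H := Fintype.ofFinite _
  have hX : Nat.card X = p ^ q - 1 := by
    rw [← hr.card_H, Nat.card_eq_fintype_card, Nat.card_eq_fintype_card, Fintype.card_subtype_compl,
      Fintype.card_subtype_eq]
  rwa [hX] at hcard

end Group

variable {G : Type u} [Group G] [Fintype G] {A A₀ : Set G} {L : Subgroup G} [Fintype L]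
  {R : G → Subgroup G} {K H U W₁ W₂ C : Subgroup L} {p q : ℕ}

omit [Fintype G] in
theorem ind_inner_one [K.Normal] {θ : K → ℂ} (hθ : IsIrrCharacter K θ) (h1 : θ ≠ fun _ => 1) :
    classInner (indFun K θ) (indFun K (fun _ => (1 : ℂ))) = 0 := by
  haveI : Fintype K := Fintype.ofFinite _
  rw [classInner_indFun_normal, Finset.sum_eq_zero fun g _ => ?_, mul_zero]
  exact Coherence.irr_inner_ne hθ CharCore.isIrrCharacter_one h1

set_option maxHeartbeats 800000 in
/-- Few members of degree `q u` are trivial on `C`. -/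
theorem card_members_le (hG : GroupHyp K H U W₁ W₂ p q) (hr : Reduced H U W₂ C p q)
    (P : PF.PrimeDade A A₀ L R K K W₁ W₂) (S : Setup A₀ L R K W₁ W₂)
    {Rs : (L → ℂ) → Finset (G → ℂ)}
    (hS : IsCoherenceSystem (inducedIrrAbove K ⊥) (dadeIsometry A₀ L R) Rs)
    (hbd : ∀ (A : Subgroup L) [A.Normal], A < K →
      IsCoherent (inducedIrrAbove K A) {1}ᶜ (dadeIsometry A₀ L R) →
      A.relIndex K - 1 ≤ 2 * q * C.relIndex U)
    (T : Finset (L → ℂ))
    (hT : ∀ φ ∈ T, φ ∈ inducedIrrAbove K C ∧ φ 1 = (q : ℂ) * C.relIndex U) : T.card ≤ q := by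
  classical
  haveI := hG.K_normal
  haveI := hG.H_normal
  obtain ⟨χ, F⟩ := P.pti.exists_fam
  obtain ⟨η, E⟩ := PF.exists_eta L W₁ W₂ P.cyc P.pti.odd
  have hs := P.pti.split
  haveI := hs.finite_dual
  haveI : Fintype ↥(D1 W₁ W₂) := Fintype.ofFinite _
  haveI : Fintype ↥(D2 W₁ W₂) := Fintype.ofFinite _
  have hJ : Fintype.card ↥(D2 W₁ W₂) = p := by
    rw [← Nat.card_eq_fintype_card, hs.card_d2, hG.card_W₂]
  obtain ⟨hpq, δ, r, hδS, hr1, hodd, hΓ, hΓr, z, hz, hδ⟩ := rows_of_not_coherent hG hr S hS hbd E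
  haveI : Fintype K := Fintype.ofFinite _
  have hu3 := (hr.u_facts hG).2.2
  have hq0 := hG.hq.pos
  set Sset : Set (L → ℂ) := {φ | φ ∈ inducedIrrAbove K C ∧ φ 1 = (q : ℂ) * C.relIndex U} with hSset
  have hbot : Sset ⊆ inducedIrrAbove K ⊥ := fun φ hφ => Coherence.seq_subset_bot K C hφ.1
  have hind : Sset ⊆ PF.indAbove K K := by rw [PF.indAbove_self]; exact hbot
  have hconj : ∀ φ ∈ Sset, conjFun φ ∈ Sset := fun φ hφ => ⟨Coherence.seq_conj K hφ.1, by
    rw [Coherence.conjFun_one_of_char (Coherence.seq_isCharacter K hφ.1)]; exact hφ.2⟩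
  have hμ : ∀ j ∈ D2 W₁ W₂, j ≠ 1 → PF.mu K χ j ∈ Sset := by
    intro j hj hj1
    obtain ⟨hs1, hd, ht⟩ := fam_degree hr hG F hj hj1
    refine ⟨⟨_, F.restrict_irr j, fun e => fam_nontrivH hG F hj hj1 fun a _ => by rw [e], ?_, rfl⟩, ?_⟩
    · intro a ha
      show (sgn χ j • χ j) a = (sgn χ j • χ j) (1 : K)
      simp only [hs1, one_smul]
      exact ht a ha
    · rw [P.mu_one F, hG.card_W₁, hs1, one_mul, hd]
  obtain ⟨⟨j, hj⟩, hj1'⟩ := Fintype.exists_ne_of_one_lt_card (by rw [hJ]; exact hG.hp.one_lt)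
    (1 : ↥(D2 W₁ W₂))
  have hj1 : j ≠ 1 := fun e => hj1' (Subtype.ext e)
  set Ti := T.filter fun φ : L → ℂ => IsIrrCharacter L φ with hTi
  set D := (Finset.univ : Finset ↥(D2 W₁ W₂)).erase 1
  have hsplit : T ⊆ D.image (fun l => PF.mu K χ l.1) ∪ Ti := by
    intro φ hφ
    rcases P.mem_cases F (hind (hT φ hφ)) with ⟨l, hl, hl1, rfl⟩ | hirr
    · exact Finset.mem_union_left _ (Finset.mem_image.2 ⟨⟨l, hl⟩,
        Finset.mem_erase.2 ⟨fun e => hl1 (congrArg Subtype.val e), Finset.mem_univ _⟩, rfl⟩)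
    · exact Finset.mem_union_right _ (Finset.mem_filter.2 ⟨hφ, hirr⟩)
  have hcard : T.card ≤ (p - 1) + Ti.card := by
    refine (Finset.card_le_card hsplit).trans ((Finset.card_union_le _ _).trans ?_)
    refine Nat.add_le_add_right (Finset.card_image_le.trans (le_of_eq ?_)) _
    rw [Finset.card_erase_of_mem (Finset.mem_univ _), Finset.card_univ, hJ]
  rcases Ti.eq_empty_or_nonempty with hemp | ⟨φ₀, hφ₀⟩
  · rw [hemp, Finset.card_empty] at hcard
    omega
  obtain ⟨-, τ₁, hτ₁, hag⟩ := S1517.result Sset _ Rs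
    (Coherence.sys_subset hS hbot ⟨_, hμ j hj hj1⟩ hconj)
    (fun φ hφ ψ hψ => hφ.2.trans hψ.2.symm)
  obtain ⟨k, hk, hk1, -, hjk⟩ := P.mu_conj F hj hj1 hG.odd
  have hirr0 := (Finset.mem_filter.1 hφ₀).2
  have hcol := P.coherent_col E F hG.odd hind hconj hτ₁ hag hj hj1 hk hjk (hμ j hj hj1)
    (hT φ₀ (Finset.mem_filter.1 hφ₀).1)
    (fun e => P.mu_not_irr F hj (e ▸ hirr0)) (fun e => P.mu_not_irr F hk (e ▸ hirr0))
  set Γ := dadeIsometry A₀ L R δ with hΓdef
  set Rr := ∑ i, r i with hRr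
  have hcolΓ : ∀ l ∈ D2 W₁ W₂, classInner (PF.col η l) Γ = (Rr : ℂ) := by
    intro l hl
    rw [PF.col, CharCore.classInner_sum_left, hRr, Int.cast_sum]
    refine Finset.sum_congr rfl fun i _ => ?_
    rw [← CharCore.conj_classInner, hΓr i ⟨l, hl⟩, map_intCast]
  obtain ⟨m, hm, hm0⟩ : ∃ m : ℤ, classInner (τ₁ (PF.mu K χ j)) Γ = (m : ℂ) ∧ 1 ≤ m ^ 2 := by
    have hR : 1 ≤ Rr ^ 2 := one_le_sq fun e => by rw [e] at hodd; exact absurd hodd (by decide)
    have hsj := (fam_degree hr hG F hj hj1).1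
    rcases hcol with e | e <;> rw [e, hsj]
    · exact ⟨Rr, by rw [one_smul, hcolΓ j hj], hR⟩
    · exact ⟨-Rr, by rw [one_smul, CharCore.classInner_neg_left, hcolΓ k hk, Int.cast_neg],
        by rw [neg_sq]; exact hR⟩
  have hq1 : (q : ℂ) * C.relIndex U ≠ (q : ℂ) := fun e => by
    have : q * C.relIndex U = q * 1 := by
      rw [mul_one]; exact_mod_cast e
    have := Nat.eq_of_mul_eq_mul_left hq0 this
    omega
  have hone : z 1 = (q : ℂ) := (seqT_irr hr hG F hz).2.1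
  have hδinner : ∀ φ ∈ Sset, classInner φ δ = 0 := by
    rintro φ hφ
    rw [hδ, CharCore.classInner_sub_right, hS.orthogonal φ (hbot hφ) z
      (Coherence.seq_subset_bot K _ hz) (fun e => hq1 (by rw [← hφ.2, e, hone])), sub_zero]
    obtain ⟨θ, hθ, hθ1, -, rfl⟩ := hφ.1
    exact ind_inner_one hθ hθ1
  have hval : ∀ φ ∈ Ti, classInner Γ (τ₁ φ) = (m : ℂ) := by
    intro φ hφ
    have hφS : φ ∈ Sset := hT φ (Finset.mem_filter.1 hφ).1
    have hz1 := Coherence.zspan_subset (hμ j hj hj1)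
    have hz2 := Coherence.zspan_subset hφS
    set α := PF.mu K χ j - φ with hα
    have hαm : α ∈ zspanOn Sset {1}ᶜ := Coherence.mem_zspanOn_one.2
      ⟨Coherence.zspan_sub hz1 hz2, by
        rw [hα, Pi.sub_apply, (hμ j hj hj1).2, hφS.2, sub_self]⟩
    have hαS : Supp W₁ α := by
      refine ⟨Coherence.gen_sub (Coherence.gen_of_char (Coherence.seq_isCharacter K (hμ j hj hj1).1))
        (Coherence.gen_of_char (Coherence.seq_isCharacter K hφS.1)),
        by rw [hα, Pi.sub_apply, (hμ j hj hj1).2, hφS.2, sub_self], fun w hw hw1 => ?_⟩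
      have hwK : w ∉ K := fun e => hw1 (Subgroup.mem_bot.1 (hG.K_inf ▸ ⟨e, hw⟩))
      rw [hα, Pi.sub_apply, P.mem_off (hind (hμ j hj hj1)) hwK, P.mem_off (hind hφS) hwK, sub_self]
    have h0 : classInner (τ₁ α) Γ = 0 := by
      rw [hag _ hαm, hΓdef, S.inner hαS hδS, hα, CharCore.classInner_sub_left,
        hδinner _ (hμ j hj hj1), hδinner _ hφS, sub_self]
    rw [hα, Coherence.iso_map_sub hτ₁ hz1 hz2 (Coherence.zspan_neg hz2),
      CharCore.classInner_sub_left, hm, sub_eq_zero] at h0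
    rw [← CharCore.conj_classInner, ← h0, map_intCast]
  let v : (↥(D1 W₁ W₂) × ↥(D2 W₁ W₂)) ⊕ Ti → G → ℂ :=
    Sum.elim (fun a => η (a.1.1 * a.2.1)) (fun φ => τ₁ φ)
  have hTiS : ∀ φ : Ti, (φ : L → ℂ) ∈ Sset := fun φ => hT φ (Finset.mem_filter.1 φ.2).1
  have horth : ∀ (φ : Ti) ω, classInner (τ₁ φ) (η ω) = 0 := fun φ ω =>
    P.coherent_irr_orth E F hG.odd hind hconj hτ₁ hag (hTiS φ) (Finset.mem_filter.1 φ.2).2 ω
  letI : DecidableEq ((↥(D1 W₁ W₂) × ↥(D2 W₁ W₂)) ⊕ Ti) := Classical.decEq _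
  have hv : ∀ a b, classInner (v a) (v b) = if a = b then 1 else 0 := by
    rintro (⟨a, b⟩ | a) (⟨a', b'⟩ | b)
    · simp only [v, Sum.elim_inl, E.orthonormal]
      by_cases h : a.1 * b.1 = a'.1 * b'.1
      · obtain ⟨h1, h2⟩ := mul_inj W₁ W₂ a.2 a'.2 b.2 b'.2 h
        rw [Subtype.ext h1, Subtype.ext h2]; simp
      · rw [if_neg h, if_neg fun e => h (by cases e; rfl)]
    · simp only [v, Sum.elim_inl, Sum.elim_inr, reduceCtorEq, if_false]
      rw [← CharCore.conj_classInner, horth, map_zero]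
    · simp only [v, Sum.elim_inl, Sum.elim_inr, reduceCtorEq, if_false, horth]
    · simp only [v, Sum.elim_inr]
      rw [hτ₁.2.2.1 _ (Coherence.zspan_subset (hTiS a)) _ (Coherence.zspan_subset (hTiS b))]
      by_cases e : a = b
      · rw [if_pos (by rw [e]), e, Coherence.irr_inner_self (Finset.mem_filter.1 b.2).2]
      · rw [if_neg fun h => e (Sum.inr_injective h), Coherence.irr_inner_ne
          (Finset.mem_filter.1 a.2).2 (Finset.mem_filter.1 b.2).2 fun h => e (Subtype.ext h)]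
  have hb := (sum_sq_le hv (θ := Γ) (c := Sum.elim (fun a => r a.1) fun _ => m)
    (fun a => by
      rcases a with a | a
      · exact hΓr a.1 a.2
      · exact hval a a.2) (m := (q : ℤ) + 1) (by rw [hΓ]; push_cast; rfl)).1
  rw [Fintype.sum_sum_type] at hb
  simp only [Sum.elim_inl, Sum.elim_inr, Fintype.sum_prod_type, Finset.sum_const, Finset.card_univ,
    hJ, Fintype.card_coe, nsmul_eq_mul] at hb
  rw [← Finset.mul_sum] at hb
  have h1 : 1 ≤ ∑ i, r i ^ 2 := le_trans (by rw [hr1]; norm_num)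
    (Finset.single_le_sum (fun i _ => sq_nonneg (r i)) (Finset.mem_univ 1))
  have h2 : (p : ℤ) + Ti.card ≤ (q : ℤ) + 1 := by nlinarith
  have := hG.hp.two_le
  omega

set_option maxHeartbeats 800000 in
/-- `U` is irreducible on `H`. -/
theorem irreducible (hG : GroupHyp K H U W₁ W₂ p q) (hr : Reduced H U W₂ C p q)
    (P : PF.PrimeDade A A₀ L R K K W₁ W₂) (S : Setup A₀ L R K W₁ W₂)
    {Rs : (L → ℂ) → Finset (G → ℂ)}
    (hS : IsCoherenceSystem (inducedIrrAbove K ⊥) (dadeIsometry A₀ L R) Rs)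
    (hbd : ∀ (A : Subgroup L) [A.Normal], A < K →
      IsCoherent (inducedIrrAbove K A) {1}ᶜ (dadeIsometry A₀ L R) →
      A.relIndex K - 1 ≤ 2 * q * C.relIndex U) :
    ∀ N : Subgroup L, N ≤ H → U ≤ Subgroup.normalizer (N : Set L) → N = ⊥ ∨ N = H := by
  classical
  rcases hr.chief.dichotomy hG hr.U_ne hr.faithful with hirr | ⟨a, ha, hline, hgen⟩
  · exact fun N h1 h2 => hirr N bot_le h1 h2
  exfalso
  haveI := hG.K_normal
  haveI := hG.H_normal
  haveI := hr.C_normal hG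
  haveI : Fact p.Prime := ⟨hG.hp⟩
  haveI : Fintype K := Fintype.ofFinite _
  haveI : Fintype W₁ := Fintype.ofFinite _
  obtain ⟨hpq, -⟩ : p < q ∧ True := by
    obtain ⟨η, E⟩ := PF.exists_eta L W₁ W₂ P.cyc P.pti.odd
    haveI := P.pti.split.finite_dual
    haveI : Fintype ↥(D1 W₁ W₂) := Fintype.ofFinite _
    exact ⟨(rows_of_not_coherent hG hr S hS hbd E).1, trivial⟩
  have ha0 := hr.chief.not_mem_of_gen hG.hp.one_lt hG.hq.ne_zero hgen
  obtain ⟨k, hk1, hk, hkm⟩ := hr.chief.exists_lineChar ha ha0 hline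
  rw [bot_sup_eq] at hgen
  have haw : ∀ w : L, w * a * w⁻¹ ∈ H := fun w => hG.H_normal.conj_mem a ha w
  have hWU : ∀ w ∈ W₁, ∀ v ∈ U, w⁻¹ * v * w ∈ U := by
    intro w hw v hv
    have := (Subgroup.mem_normalizer_iff.1 (inv_mem (hG.U_norm hw)) v).1 hv
    rwa [inv_inv] at this
  have hmove : ∀ w ∈ W₁, ∀ v ∈ U,
      v * (w * a * w⁻¹) * v⁻¹ = (w * a * w⁻¹) ^ (k (w⁻¹ * v * w)).val := by
    intro w hw v hv
    have := Subgroup.mem_bot.1 (hk _ (hWU w hw v hv))
    rw [mul_inv_eq_one] at this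
    rw [conj_pow, ← this]
    group
  have hcentral : ∀ v ∈ U, (∀ w ∈ W₁, k (w⁻¹ * v * w) = 1) → v ∈ C := by
    intro v hv hall
    have hle : H ≤ Subgroup.centralizer ({v} : Set L) := by
      rw [← hgen, Subgroup.closure_le]
      rintro _ ⟨w, hw, rfl⟩
      rw [SetLike.mem_coe, Subgroup.mem_centralizer_singleton_iff]
      have := hmove w hw v hv
      rw [hall w hw, ZMod.val_one, pow_one] at this
      calc w * a * w⁻¹ * v = v * (w * a * w⁻¹) * v⁻¹ * v := by rw [this]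
        _ = v * (w * a * w⁻¹) := by group
    exact hr.mem_C_of hv fun x hx => (Subgroup.mem_centralizer_singleton_iff.1 (hle hx)).symm
  -- the bound on `u`
  set s := (p - 1) / 2 with hs
  obtain ⟨s', hs'⟩ := hG.p_odd
  have hps : p - 1 = 2 * s := by omega
  let kU : U →* ZMod p :=
    { toFun := fun v => k v
      map_one' := hk1
      map_mul' := fun v t => hkm v v.2 t t.2 }
  let ku : U →* (ZMod p)ˣ := kU.toHomUnits
  have hku : ∀ v : U, ((ku v : (ZMod p)ˣ) : ZMod p) = k v := fun v => rfl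
  let cw : W₁ → U →* U := fun w => MonoidHom.mk'
    (fun v => ⟨(w : L)⁻¹ * v * w, hWU w w.2 v v.2⟩) fun v t => Subtype.ext (by simp [mul_assoc])
  let Ψ : U →* ({w : W₁ // w ≠ 1} → (ZMod p)ˣ) :=
    Pi.monoidHom fun w => ku.comp (cw w.1) / ku
  have hker : Ψ.ker ≤ C.subgroupOf U := by
    intro v hv
    have hv' : ∀ w ∈ W₁, k (w⁻¹ * v * w) = k v := by
      intro w hw
      by_cases hw1 : w = 1
      · simp [hw1]
      have := congrFun (MonoidHom.mem_ker.1 hv) ⟨⟨w, hw⟩, fun e => hw1 (congrArg Subtype.val e)⟩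
      have h2 := congrArg Units.val (div_eq_one.1 this)
      exact h2
    refine Subgroup.mem_subgroupOf.2 (hr.mem_C_of_fixed hG v.2 fun z hz => ?_)
    have hzv : z * (v : L) * z⁻¹ ∈ U := (Subgroup.mem_normalizer_iff.1 (hG.U_norm hz) _).1 v.2
    refine hcentral _ (U.mul_mem hzv (U.inv_mem v.2)) fun w hw => ?_
    have h1 := hv' (z⁻¹ * w) (W₁.mul_mem (W₁.inv_mem hz) hw)
    have e : w⁻¹ * (z * (v : L) * z⁻¹ * (v : L)⁻¹) * w =
        (z⁻¹ * w)⁻¹ * v * (z⁻¹ * w) * (w⁻¹ * (v : L)⁻¹ * w) := by group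
    have h2 := hv' w hw
    have h3 : k (w⁻¹ * (v : L) * w) * k (w⁻¹ * (v : L)⁻¹ * w) = 1 := by
      rw [← hkm _ (hWU w hw _ v.2) _ (hWU w hw _ (U.inv_mem v.2)), ← hk1]
      congr 1; group
    rw [e, hkm _ (hWU _ (W₁.mul_mem (W₁.inv_mem hz) hw) _ v.2) _ (hWU w hw _ (U.inv_mem v.2)),
      h1, ← h2, h3]
  have hu : C.relIndex U ≤ s ^ (q - 1) := by
    have h1 : (C.subgroupOf U).index ≤ Nat.card Ψ.range := by
      rw [← Subgroup.index_ker]
      exact Nat.le_of_dvd (Nat.pos_of_ne_zero Subgroup.index_ne_zero_of_finite)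
        (Subgroup.index_dvd_of_le hker)
    have hsq : ∀ y ∈ Ψ.range, ∀ w, y w ^ s = 1 := by
      rintro _ ⟨v, rfl⟩ w
      have h1 : Ψ v w ^ (2 * s) = 1 := by
        rw [← hps]
        exact ZMod.units_pow_card_sub_one_eq_one p _
      have h2 : Ψ v w ^ orderOf v = 1 := by
        rw [← Pi.pow_apply, ← map_pow, pow_orderOf_eq_one, map_one]
        rfl
      refine orderOf_dvd_iff_pow_eq_one.1 (Nat.Coprime.dvd_of_dvd_mul_left ?_
        (orderOf_dvd_of_pow_eq_one h1))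
      exact (hG.odd_of_dvd (((orderOf_dvd_of_pow_eq_one h2).trans (orderOf_dvd_natCard v)).trans
        (Subgroup.card_subgroup_dvd_card U))).coprime_two_right
    have h2 : Nat.card Ψ.range ≤
        Nat.card ({w : W₁ // w ≠ 1} → {y : (ZMod p)ˣ // y ^ s = 1}) :=
      Nat.card_le_card_of_injective (fun y w => ⟨y.1 w, hsq y.1 y.2 w⟩) fun y y' e =>
        Subtype.ext (funext fun w => congrArg Subtype.val (congrFun e w))
    have h3 : Nat.card {y : (ZMod p)ˣ // y ^ s = 1} ≤ s := by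
      rw [Nat.card_eq_fintype_card, Fintype.card_subtype]
      exact IsCyclic.card_pow_eq_one_le (by have := hG.hp.two_le; omega)
    have h4 : Nat.card {w : W₁ // w ≠ 1} = q - 1 := by
      rw [Nat.card_eq_fintype_card, Fintype.card_subtype_compl, Fintype.card_subtype_eq,
        ← Nat.card_eq_fintype_card, hG.card_W₁]
    rw [Nat.card_fun, h4] at h2
    exact h1.trans (h2.trans (Nat.pow_le_pow_left h3 _))
  -- characters of `H` of full support
  haveI : IsMulCommutative H := ⟨⟨fun x y => Subtype.ext (hr.abelian x x.2 y y.2)⟩⟩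
  letI : CommGroup H := IsMulCommutative.instCommGroup
  let aw : W₁ → H := fun w => ⟨_, haw w⟩
  have hexp : ∀ x : H, x ^ p = 1 := fun x => Subtype.ext (by
    rw [SubmonoidClass.coe_pow]; exact hr.exponent x x.2)
  haveI : NeZero p := ⟨hG.hp.ne_zero⟩
  let ev : (H →* ℂˣ) → (W₁ → rootsOfUnity p ℂ) := fun f w => ⟨f (aw w), by
    rw [mem_rootsOfUnity, ← map_pow, hexp, map_one]⟩
  have hev : Function.Injective ev := by
    intro f f' e
    have hle : H ≤ (f.eqLocus f').map H.subtype := by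
      conv_lhs => rw [← hgen]
      rw [Subgroup.closure_le]
      rintro _ ⟨w, hw, rfl⟩
      exact ⟨aw ⟨w, hw⟩, congrArg Subtype.val (congrFun e ⟨w, hw⟩), rfl⟩
    refine MonoidHom.ext fun x => ?_
    obtain ⟨y, hy, hyx⟩ := hle x.2
    rw [← Subtype.ext hyx]
    exact hy
  have hroots : Nat.card (rootsOfUnity p ℂ) = p := by
    exact Complex.card_rootsOfUnity p
  have hbij : Function.Bijective ev := by
    haveI : NeZero ((Monoid.exponent H : ℕ) : ℂ) :=
      ⟨by exact_mod_cast Monoid.exponent_ne_zero_of_finite⟩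
    refine hev.bijective_of_nat_card_le (le_of_eq ?_)
    rw [Nat.card_fun, hroots, hG.card_W₁, CommGroup.card_monoidHom_of_hasEnoughRootsOfUnity,
      hr.card_H]
  let Full := {f : H →* ℂˣ // ∀ w, ev f w ≠ 1}
  haveI : Finite (W₁ → rootsOfUnity p ℂ) := inferInstance
  haveI : Finite (H →* ℂˣ) := Finite.of_injective ev hev
  haveI : Fintype Full := Fintype.ofFinite _
  have hFull : Fintype.card Full = (p - 1) ^ q := by
    haveI : Fintype (rootsOfUnity p ℂ) := Fintype.ofFinite _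
    let e₁ : Full ≃ {y : W₁ → rootsOfUnity p ℂ // ∀ w, y w ≠ 1} :=
      Equiv.subtypeEquiv (Equiv.ofBijective ev hbij) fun f => Iff.rfl
    let e₂ : {y : W₁ → rootsOfUnity p ℂ // ∀ w, y w ≠ 1} ≃
        (W₁ → {z : rootsOfUnity p ℂ // z ≠ 1}) :=
      Equiv.subtypePiEquivPi (p := fun _ z => z ≠ 1)
    rw [← Nat.card_eq_fintype_card, Nat.card_congr (e₁.trans e₂), Nat.card_fun, hG.card_W₁,
      Nat.card_eq_fintype_card, Fintype.card_subtype_compl, Fintype.card_subtype_eq,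
      ← Nat.card_eq_fintype_card, hroots]
  have hstab : ∀ f : Full, ∀ v ∈ U,
      (∀ x : H, f.1 (conjH hG.H_normal v x) = f.1 x) → v ∈ C := by
    intro f v hv hfix
    refine hcentral v hv fun w hw => ?_
    have e : conjH hG.H_normal v (aw ⟨w, hw⟩) = aw ⟨w, hw⟩ ^ (k (w⁻¹ * v * w)).val :=
      Subtype.ext (by rw [SubmonoidClass.coe_pow]; exact hmove w hw v hv)
    have hne : f.1 (aw ⟨w, hw⟩) ≠ 1 := fun h => f.2 ⟨w, hw⟩ (Subtype.ext h)
    have hord : orderOf (f.1 (aw ⟨w, hw⟩)) = p :=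
      orderOf_eq_prime (by rw [← map_pow, hexp, map_one]) hne
    have h1 := hfix (aw ⟨w, hw⟩)
    rw [e, map_pow] at h1
    conv_rhs at h1 => rw [← pow_one (f.1 _)]
    rw [pow_eq_pow_iff_modEq, hord, ← ZMod.natCast_eq_natCast_iff] at h1
    simpa using h1
  have hu3 := (hr.u_facts hG).2.2
  let Φ : Full → L → ℂ := fun f => indFun K (indLam hr hG f.1)
  have hΦ : ∀ f, Φ f ∈ inducedIrrAbove K C ∧ Φ f 1 = (q : ℂ) * C.relIndex U := by
    intro f
    obtain ⟨h1, h2, h3⟩ := indLam_spec hr hG (hstab f)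
    refine ⟨⟨_, h1, fun e => ?_, h3, rfl⟩, by
      show indFun K _ 1 = _
      rw [CharInd.indFun_apply_one, hG.card_K.1, h2]⟩
    have := congrFun e 1
    rw [h2] at this
    have : C.relIndex U = 1 := by exact_mod_cast this
    omega
  have hle := card_members_le hG hr P S hS hbd (Finset.univ.image Φ) fun φ hφ => by
    obtain ⟨f, -, rfl⟩ := Finset.mem_image.1 hφ
    exact hΦ f
  have hfib : ∀ φ ∈ Finset.univ.image Φ,
      (Finset.univ.filter fun f => Φ f = φ).card ≤ q * C.relIndex U := by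
    intro φ hφ
    obtain ⟨f₀, -, hf₀⟩ := Finset.mem_image.1 hφ
    have hφm := hΦ f₀
    rw [hf₀] at hφm
    haveI : ((H ⊔ C).subgroupOf K).Normal := Subgroup.normal_subgroupOf
    haveI : Fintype ((H ⊔ C).subgroupOf K) := Fintype.ofFinite _
    have hφc : IsCharacter L φ := Coherence.seq_isCharacter K hφm.1
    have hφK := CharCore.isCharacter_restrict hφc K
    set rr : ↥((H ⊔ C).subgroupOf K) → ℂ := fun d => φ ((d : K) : L) with hrr
    have hrc : IsCharacter ↥((H ⊔ C).subgroupOf K) rr :=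
      CharCore.isCharacter_restrict hφK ((H ⊔ C).subgroupOf K)
    let lin : Full → IrrCharacter ↥((H ⊔ C).subgroupOf K) := fun f =>
      ⟨extLam hr hG f.1, CharCore.isIrrCharacter_hom (f.1.comp (projH hr hG))⟩
    have hlin : Function.Injective lin := fun f f' e =>
      Subtype.ext (extLam_injective hr hG (congrArg Subtype.val e))
    choose n hn using fun χ : IrrCharacter ↥((H ⊔ C).subgroupOf K) =>
      Coherence.inner_char_nat (CharCore.irr_isCharacter χ) hrc
    set F₁ := Finset.univ.filter fun f => Φ f = φ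
    have hpos : ∀ f ∈ F₁, 1 ≤ n (lin f) := by
      intro f hf
      rw [Nat.one_le_iff_ne_zero]
      intro h0
      have h1 : classInner (Φ f) φ = 0 := by
        show classInner (indFun K (indFun ((H ⊔ C).subgroupOf K) (extLam hr hG f.1))) φ = 0
        rw [CharInd.classInner_indFun_left K _ (CharCore.IsCharacter.isClassFunction hφc),
          CharInd.classInner_indFun_left _ _ (CharCore.IsCharacter.isClassFunction hφK)]
        exact (hn (lin f)).trans (by rw [h0, Nat.cast_zero])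
      rw [(Finset.mem_filter.1 hf).2, Coherence.inner_self_eq_zero] at h1
      have := hφm.2
      rw [h1, Pi.zero_apply] at this
      exact (mul_ne_zero (Nat.cast_ne_zero.2 hG.hq.ne_zero)
        (Nat.cast_ne_zero.2 (by omega : C.relIndex U ≠ 0))) this.symm
    have hval : ((q * C.relIndex U : ℕ) : ℝ) =
        ∑ χ : IrrCharacter ↥((H ⊔ C).subgroupOf K), (n χ : ℝ) * ((χ : ↥((H ⊔ C).subgroupOf K) → ℂ) 1).re := by
      have h1 := congrArg Complex.re (congrFun (CharCore.IsCharacter.eq_sum_classInner hrc) 1)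
      simp only [Finset.sum_apply, Pi.smul_apply, smul_eq_mul, Complex.re_sum] at h1
      rw [show rr 1 = ((q * C.relIndex U : ℕ) : ℂ) by
        rw [hrr]; push_cast; exact hφm.2, Complex.natCast_re] at h1
      rw [h1]
      refine Finset.sum_congr rfl fun χ _ => ?_
      rw [← CharCore.conj_classInner, hn, map_natCast, Complex.mul_re, Complex.natCast_re,
        Complex.natCast_im, zero_mul, sub_zero]
    have hnn : ∀ χ : IrrCharacter ↥((H ⊔ C).subgroupOf K), 0 ≤ ((χ : ↥((H ⊔ C).subgroupOf K) → ℂ) 1).re := fun χ => by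
      obtain ⟨d, hd⟩ := CharCore.IsCharacter.exists_degree (CharCore.irr_isCharacter χ)
      simp [hd]
    have : (F₁.card : ℝ) ≤ ((q * C.relIndex U : ℕ) : ℝ) := by
      rw [hval]
      refine le_trans ?_ (Finset.sum_le_sum_of_subset_of_nonneg (Finset.subset_univ (F₁.image lin))
        fun χ _ _ => mul_nonneg (Nat.cast_nonneg _) (hnn χ))
      rw [Finset.sum_image (fun x _ y _ e => hlin e), Finset.card_eq_sum_ones, Nat.cast_sum]
      refine Finset.sum_le_sum fun f hf => ?_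
      have h1 : ((lin f : ↥((H ⊔ C).subgroupOf K) → ℂ) 1).re = 1 := by simp [lin, extLam]
      rw [h1, mul_one, Nat.cast_one]
      exact_mod_cast hpos f hf
    exact_mod_cast this
  have hcount := Finset.card_le_mul_card_image (f := Φ) (Finset.univ : Finset Full)
    (q * C.relIndex U) hfib
  rw [Finset.card_univ, hFull] at hcount
  have h1 : (p - 1) ^ q ≤ q ^ 2 * s ^ (q - 1) :=
    calc (p - 1) ^ q ≤ q * C.relIndex U * (Finset.univ.image Φ).card := hcount
      _ ≤ q * s ^ (q - 1) * q := by gcongr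
      _ = q ^ 2 * s ^ (q - 1) := by ring
  have hq5 : 5 ≤ q := by
    have := hG.hp.two_le
    obtain ⟨b, hb⟩ := hG.q_odd
    omega
  have hs1 : 1 ≤ s := by have := hG.hp.two_le; omega
  obtain ⟨m, hm⟩ := Nat.exists_eq_succ_of_ne_zero (show q ≠ 0 by omega)
  rw [hps, mul_pow, hm, Nat.succ_sub_one, pow_succ s m] at h1
  have h2 := sq_lt_two_pow hq5
  rw [hm] at h2
  have h3 : 2 ^ m.succ * s ≤ m.succ ^ 2 := by
    refine Nat.le_of_mul_le_mul_right ?_ (pow_pos (show 0 < s by omega) m)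
    calc 2 ^ m.succ * s * s ^ m = 2 ^ m.succ * (s ^ m * s) := by ring
      _ ≤ _ := h1
  have h4 : 2 ^ m.succ * 1 ≤ 2 ^ m.succ * s := Nat.mul_le_mul_left _ hs1
  omega

end Cfsg.Agent.OddLocal44.PF11
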