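import Mathlib.Algebra.BigOperators.Ring.Finset
import Mathlib.Algebra.Order.BigOperators.Group.Finset
import Mathlib.Algebra.Order.BigOperators.Ring.Finset
import Mathlib.Data.Fintype.BigOperators
import Mathlib.Data.ZMod.Basic
import Mathlib.Tactic.Linarith
import Mathlib.Tactic.Ring
import Mathlib.Tactic.LinearCombination

set_option autoImplicit false

/-!
Integer grids of small norm (Peterfalvi (11.8)).
-/

namespace Cfsg.Agent.OddLocal44.PF11

open Finset

variable {I J : Type*} [Fintype I] [Fintype J] [DecidableEq I] [DecidableEq J]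

lemma one_le_sq {a : ℤ} (h : a ≠ 0) : 1 ≤ a ^ 2 := by
  have := mul_self_pos.2 h
  nlinarith

/-- An additive grid with corner `1` and norm at most `|I|` is a column or has constant rows. -/
theorem grid_cases (hI : 3 ≤ Fintype.card I) (hJ : 3 ≤ Fintype.card J) (i₀ : I) (j₀ : J)
    (e : I → J → ℤ) (hadd : ∀ i j, e i j = e i j₀ + e i₀ j - e i₀ j₀) (h00 : e i₀ j₀ = 1)
    (hle : ∑ i, ∑ j, e i j ^ 2 ≤ (Fintype.card I : ℤ)) :
    (∀ i j, e i j = if j = j₀ then 1 else 0) ∨
      ((∀ i j, e i j = e i j₀) ∧ Fintype.card J ≤ Fintype.card I) := by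
  by_cases hy : ∀ j, e i₀ j = 1
  · right
    have hrow : ∀ i j, e i j = e i j₀ := fun i j => by rw [hadd i j, hy j, h00]; ring
    refine ⟨hrow, ?_⟩
    have h1 : ∑ j, e i₀ j ^ 2 ≤ (Fintype.card I : ℤ) :=
      le_trans (Finset.single_le_sum (fun i _ => Finset.sum_nonneg fun j _ => sq_nonneg (e i j))
        (Finset.mem_univ i₀)) hle
    simp only [hy, one_pow, Finset.sum_const, Finset.card_univ, nsmul_eq_mul, mul_one] at h1
    exact_mod_cast h1
  left
  push Not at hy
  obtain ⟨j₁, hj₁⟩ := hy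
  let N : I → Finset J := fun i => univ.filter fun j => e i j ≠ 0
  have hN : ∀ i, ((N i).card : ℤ) ≤ ∑ j, e i j ^ 2 := by
    intro i
    calc ((N i).card : ℤ) = ∑ _j ∈ N i, (1 : ℤ) := by simp
      _ ≤ ∑ j ∈ N i, e i j ^ 2 := Finset.sum_le_sum fun j hj => one_le_sq (Finset.mem_filter.1 hj).2
      _ ≤ ∑ j, e i j ^ 2 := Finset.sum_le_univ_sum_of_nonneg fun j => sq_nonneg _
  have htot : ∑ i, (N i).card ≤ Fintype.card I := by
    have : ((∑ i, (N i).card : ℕ) : ℤ) ≤ (Fintype.card I : ℤ) := by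
      push_cast
      exact (Finset.sum_le_sum fun i _ => hN i).trans hle
    exact_mod_cast this
  -- no row is constantly zero
  have hpos : ∀ i, 1 ≤ (N i).card := by
    intro i
    rw [Nat.one_le_iff_ne_zero, Ne, Finset.card_eq_zero]
    intro hemp
    have hz : ∀ j, e i j = 0 := fun j => by
      by_contra hne
      exact Finset.notMem_empty j (hemp ▸ Finset.mem_filter.2 ⟨Finset.mem_univ j, hne⟩)
    have := hadd i j₁
    rw [hz j₁, hz j₀, h00] at this
    exact hj₁ (by omega)
  -- all rows are equal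
  have hx : ∀ i, e i j₀ = 1 := by
    by_contra hno
    push Not at hno
    obtain ⟨i₁, hi₁⟩ := hno
    have hne : i₁ ≠ i₀ := fun h => hi₁ (h ▸ h00)
    have hsum : Fintype.card J ≤ (N i₁).card + (N i₀).card := by
      refine le_trans ?_ (Finset.card_union_le _ _)
      rw [← Finset.card_univ]
      refine Finset.card_le_card fun j _ => ?_
      by_contra hmem
      simp only [N, Finset.mem_union, Finset.mem_filter, Finset.mem_univ, true_and, not_or,
        not_not] at hmem
      have := hadd i₁ j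
      rw [hmem.1, hmem.2, h00] at this
      exact hi₁ (by omega)
    have hrest : ∑ i ∈ ({i₁, i₀} : Finset I), (N i).card + ∑ i ∈ univ \ {i₁, i₀}, 1 ≤
        ∑ i, (N i).card := by
      rw [← Finset.sum_sdiff (Finset.subset_univ ({i₁, i₀} : Finset I)) (f := fun i => (N i).card),
        add_comm]
      exact Nat.add_le_add_right (Finset.sum_le_sum fun i _ => hpos i) _
    rw [Finset.sum_pair hne, Finset.sum_const, smul_eq_mul, mul_one,
      Finset.card_sdiff_of_subset (Finset.subset_univ _), Finset.card_pair hne,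
      Finset.card_univ] at hrest
    omega
  have heq : ∀ i j, e i j = e i₀ j := fun i j => by rw [hadd i j, hx, h00]; ring
  intro i j
  rw [heq]
  split_ifs with hj
  · rw [hj, h00]
  by_contra hne
  have h2 : 2 ≤ ∑ l, e i₀ l ^ 2 := by
    refine le_trans ?_ (Finset.sum_le_univ_sum_of_nonneg (s := {j₀, j}) fun l => sq_nonneg _)
    rw [Finset.sum_pair (Ne.symm hj), h00]
    have := one_le_sq hne
    linarith
  simp only [heq, Finset.sum_const, Finset.card_univ, nsmul_eq_mul] at hle
  have : (3 : ℤ) ≤ Fintype.card I := by exact_mod_cast hI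
  nlinarith

/-- A column `r` symmetric under an involution with one fixed point, of small norm, sums to zero. -/
theorem column_sum_zero (σ : I → I) (hσ : ∀ i, σ (σ i) = i) (i₀ : I) (hfix : ∀ i, σ i = i → i = i₀)
    (r : I → ℤ) (h0 : r i₀ = 0) (hsym : ∀ i, r (σ i) = r i) {n : ℤ} (hn : 1 ≤ n)
    (hle : n * ((∑ i, r i) * ((∑ i, r i) - 2)) + ∑ i, r i ^ 2 ≤ 1) : ∑ i, r i = 0 := by
  obtain ⟨k, hk⟩ : (2 : ℤ) ∣ ∑ i, r i := by
    refine (ZMod.intCast_zmod_eq_zero_iff_dvd _ 2).1 ?_
    push_cast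
    refine Finset.sum_involution (fun i _ => σ i) ?_ ?_ (fun i _ => Finset.mem_univ _)
      (fun i _ => hσ i)
    · intro i _
      rw [hsym]
      exact CharTwo.add_self_eq_zero _
    · intro i _ hne he
      rw [hfix i he, h0] at hne
      exact hne Int.cast_zero
  rw [hk] at hle ⊢
  by_contra hne
  obtain ⟨i, hi⟩ : ∃ i, r i ≠ 0 := by
    by_contra h
    push Not at h
    exact hne (by rw [← hk]; exact Finset.sum_eq_zero fun i _ => h i)
  have hne' : σ i ≠ i := fun h => hi (hfix i h ▸ h0)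
  have h2 : r i ^ 2 + r (σ i) ^ 2 ≤ ∑ l, r l ^ 2 := by
    rw [← Finset.sum_pair (f := fun l => r l ^ 2) hne'.symm]
    exact Finset.sum_le_univ_sum_of_nonneg fun l => sq_nonneg _
  rw [hsym] at h2
  have h3 := one_le_sq hi
  have hk2 : 0 ≤ k * (k - 1) := by
    rcases le_or_gt k 0 with h | h
    · nlinarith
    · nlinarith
  nlinarith

/-- An antisymmetric column of a grid of norm at most `2`, additive off the first row and column,
vanishes. -/
theorem antisym_column (hJ : 2 ≤ Fintype.card J) (σ : I → I) (i₀ : I)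
    (hfix : ∀ i, σ i = i → i = i₀) (j₀ : J) (e : I → J → ℤ) (s : J → ℤ) (h0 : e i₀ j₀ = 0)
    (hanti : ∀ i, e (σ i) j₀ = - e i j₀)
    (hadd : ∀ i, i ≠ i₀ → ∀ j, j ≠ j₀ → e i j = e i j₀ + s j)
    (hle : ∑ i, ∑ j, e i j ^ 2 ≤ 2) : ∀ i, e i j₀ = 0 := by
  intro i
  by_contra hi
  have hne : σ i ≠ i := fun h => hi (hfix i h ▸ h0)
  have hii : i ≠ i₀ := fun h => hi (h ▸ h0)
  have hσi : σ i ≠ i₀ := fun h => by
    have h' := hanti i
    rw [h, h0] at h'
    exact hi (by omega)
  obtain ⟨j, hj⟩ := Fintype.exists_ne_of_one_lt_card (by omega) j₀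
  have hi2 := hadd i hii j hj
  have hs2 := hadd _ hσi j hj
  rw [hanti i] at hs2
  -- one of the entries in column `j` is nonzero
  have h1 : ∑ p ∈ ({(i, j₀), (σ i, j₀), (i, j), (σ i, j)} : Finset (I × J)), e p.1 p.2 ^ 2 ≤ 2 := by
    refine le_trans (Finset.sum_le_univ_sum_of_nonneg fun p => sq_nonneg _) ?_
    rw [Fintype.sum_prod_type]
    exact hle
  rw [Finset.sum_insert (by simp [hne.symm, hj.symm]), Finset.sum_insert (by simp [hne, hj.symm]),
    Finset.sum_pair (by simp [hne.symm]), hanti i, hi2, hs2] at h1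
  have h3 := one_le_sq hi
  nlinarith [sq_nonneg (s j)]

end Cfsg.Agent.OddLocal44.PF11
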