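import Cfsg.Agent.OddLocal44.PF11.Lemmas
import Cfsg.Agent.S1545

set_option autoImplicit false

/-!
The hypotheses of Peterfalvi, §11, and their first consequences.
-/

open scoped commutatorElement

namespace Cfsg.Agent.OddLocal44.PF11

open Cfsg Cfsg.Agent

universe u v

/-- The group theoretic part of the hypotheses of Peterfalvi, §11, inside `L = M`. -/
structure GroupHyp {L : Type u} [Group L] (K H U W₁ W₂ : Subgroup L) (p q : ℕ) : Prop where
  odd : Odd (Nat.card L)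
  solvable : Group.IsSolvable K
  K_normal : K.Normal
  H_normal : H.Normal
  H_nil : Group.IsNilpotent H
  H_hall : (Nat.card H).Coprime H.index
  HU : H ⊔ U = K
  H_inf_U : H ⊓ U = ⊥
  U_nil : Group.IsNilpotent U
  U_norm : W₁ ≤ Subgroup.normalizer (U : Set L)
  K_inf : K ⊓ W₁ = ⊥
  K_sup : K ⊔ W₁ = ⊤
  hq : q.Prime
  hp : p.Prime
  hpq : p ≠ q
  card_W₁ : Nat.card W₁ = q
  card_W₂ : Nat.card W₂ = p
  W₂_le : W₂ ≤ H
  W₂_le' : W₂ ≤ ⁅K, K⁆
  cent : ∀ x ∈ W₁, x ≠ 1 → K ⊓ Subgroup.centralizer ({x} : Set L) = W₂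

/-- The data from Peterfalvi, §9: the chief factor `H / H₀` and the centraliser `C` of it in `U`. -/
structure ChiefHyp {L : Type u} [Group L] (H U W₂ H₀ C : Subgroup L) (p q : ℕ) : Prop where
  normal : H₀.Normal
  le : H₀ ≤ H
  card_eq : H₀.relIndex H = p ^ q
  W₂_inf : W₂ ⊓ H₀ = ⊥
  comm : ⁅H, H⁆ ≤ H₀
  pow : ∀ x ∈ H, x ^ p ∈ H₀
  mem_C : ∀ x, x ∈ C ↔ x ∈ U ∧ ∀ h ∈ H, x * h * x⁻¹ * h⁻¹ ∈ H₀

variable {L : Type u} [Group L]

section Group

variable [Finite L] {K H U W₁ W₂ H₀ C : Subgroup L} {p q : ℕ}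

namespace GroupHyp

lemma H_le (hG : GroupHyp K H U W₁ W₂ p q) : H ≤ K := hG.HU ▸ le_sup_left

lemma U_le (hG : GroupHyp K H U W₁ W₂ p q) : U ≤ K := hG.HU ▸ le_sup_right

lemma W₁_ne (hG : GroupHyp K H U W₁ W₂ p q) : W₁ ≠ ⊥ := fun h => by
  have := hG.card_W₁
  rw [h, Subgroup.card_bot] at this
  exact hG.hq.ne_one this.symm

lemma exists_w (hG : GroupHyp K H U W₁ W₂ p q) : ∃ w ∈ W₁, w ≠ 1 :=
  (Subgroup.bot_or_exists_ne_one W₁).resolve_left hG.W₁_ne

lemma odd_of_dvd (hG : GroupHyp K H U W₁ W₂ p q) {d : ℕ} (hd : d ∣ Nat.card L) : Odd d :=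
  Odd.of_dvd_nat hG.odd hd

lemma q_odd (hG : GroupHyp K H U W₁ W₂ p q) : Odd q :=
  hG.odd_of_dvd (hG.card_W₁ ▸ Subgroup.card_subgroup_dvd_card W₁)

lemma p_odd (hG : GroupHyp K H U W₁ W₂ p q) : Odd p :=
  hG.odd_of_dvd (hG.card_W₂ ▸ Subgroup.card_subgroup_dvd_card W₂)

lemma q_ne_two (hG : GroupHyp K H U W₁ W₂ p q) : q ≠ 2 := fun h => by
  have := hG.q_odd
  rw [h] at this
  exact absurd this (by decide)

lemma p_ne_two (hG : GroupHyp K H U W₁ W₂ p q) : p ≠ 2 := fun h => by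
  have := hG.p_odd
  rw [h] at this
  exact absurd this (by decide)

lemma fpf (hG : GroupHyp K H U W₁ W₂ p q) {w u : L} (hw : w ∈ W₁) (hw1 : w ≠ 1) (hu : u ∈ U)
    (h : w * u = u * w) : u = 1 := by
  have h1 : u ∈ W₂ := by
    rw [← hG.cent w hw hw1]
    exact ⟨hG.U_le hu, Subgroup.mem_centralizer_singleton_iff.2 h.symm⟩
  exact Subgroup.mem_bot.1 (hG.H_inf_U ▸ ⟨hG.W₂_le h1, hu⟩)

lemma card_K (hG : GroupHyp K H U W₁ W₂ p q) :
    K.index = q ∧ Nat.card H * Nat.card U = Nat.card K ∧ H.index = Nat.card ↥(U ⊔ W₁) ∧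
      H ⊓ (U ⊔ W₁) = ⊥ := by
  haveI := hG.K_normal
  haveI := hG.H_normal
  have hd : Disjoint K W₁ := disjoint_iff.2 hG.K_inf
  have hc : Subgroup.IsComplement' K W₁ := Subgroup.isComplement'_of_disjoint_and_mul_eq_univ hd (by
    rw [← Subgroup.normal_mul, hG.K_sup, Subgroup.coe_top])
  have hidx : K.index = q := by
    have := hc.symm.index_eq_card
    rwa [hG.card_W₁] at this
  have hnU : U ⊔ W₁ ≤ Subgroup.normalizer (U : Set L) := sup_le Subgroup.le_normalizer hG.U_norm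
  have hinf : H ⊓ (U ⊔ W₁) = ⊥ := by
    rw [eq_bot_iff]
    rintro x ⟨hxH, hx⟩
    have hx' : x ∈ ((U ⊔ W₁ : Subgroup L) : Set L) := hx
    rw [Subgroup.coe_mul_of_right_le_normalizer_left U W₁ hG.U_norm] at hx'
    obtain ⟨a, ha, b, hb, rfl⟩ := Set.mem_mul.1 hx'
    have hb1 : b ∈ K := by
      have := K.mul_mem (K.inv_mem (hG.U_le ha)) (hG.H_le hxH)
      rwa [inv_mul_cancel_left] at this
    have : b = 1 := Subgroup.mem_bot.1 (hG.K_inf ▸ ⟨hb1, hb⟩)
    subst this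
    rw [mul_one] at hxH ⊢
    exact hG.H_inf_U ▸ ⟨hxH, ha⟩
  refine ⟨hidx, ?_, ?_, hinf⟩
  · have hc2 : Subgroup.IsComplement' (H.subgroupOf K) (U.subgroupOf K) := by
      refine Subgroup.isComplement'_of_disjoint_and_mul_eq_univ ?_ ?_
      · rw [disjoint_iff, eq_bot_iff]
        intro x hx
        exact Subgroup.mem_bot.2 (Subtype.ext (Subgroup.mem_bot.1 (hG.H_inf_U ▸ ⟨hx.1, hx.2⟩)))
      · ext x
        simp only [Set.mem_univ, iff_true]
        have hx : (x : L) ∈ ((H ⊔ U : Subgroup L) : Set L) := by rw [hG.HU]; exact x.2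
        rw [Subgroup.normal_mul] at hx
        obtain ⟨a, ha, b, hb, hab⟩ := Set.mem_mul.1 hx
        exact Set.mem_mul.2 ⟨⟨a, hG.H_le ha⟩, ha, ⟨b, hG.U_le hb⟩, hb, Subtype.ext hab⟩
    have := hc2.card_mul
    rwa [Nat.card_congr (Subgroup.subgroupOfEquivOfLe hG.H_le).toEquiv,
      Nat.card_congr (Subgroup.subgroupOfEquivOfLe hG.U_le).toEquiv] at this
  · refine (Subgroup.isComplement'_of_disjoint_and_mul_eq_univ (disjoint_iff.2 hinf) ?_).symm.index_eq_card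
    rw [← Subgroup.normal_mul, ← sup_assoc, hG.HU, hG.K_sup, Subgroup.coe_top]

lemma coprime_compl (hG : GroupHyp K H U W₁ W₂ p q) :
    (Nat.card H).Coprime (Nat.card ↥(U ⊔ W₁)) := hG.card_K.2.2.1 ▸ hG.H_hall

/-- A normal subgroup between `W₂` and `K` has index congruent to one modulo `q`. -/
lemma index_modEq (hG : GroupHyp K H U W₁ W₂ p q) (A : Subgroup L) [A.Normal] (hAK : A ≤ K)
    (hWA : W₂ ≤ A) (hq : ¬ q ∣ Nat.card A) : A.relIndex K ≡ 1 [MOD q] := by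
  haveI := hG.K_normal
  haveI : Fact q.Prime := ⟨hG.hq⟩
  refine index_modEq_one q K A W₁ hAK hG.card_W₁ hq fun x hx hxw => hWA ?_
  obtain ⟨w, hw, hw1⟩ := hG.exists_w
  rw [← hG.cent w hw hw1]
  exact ⟨hx, Subgroup.mem_centralizer_singleton_iff.2 (hxw w hw).symm⟩

lemma not_q_dvd (hG : GroupHyp K H U W₁ W₂ p q) (A : Subgroup L) (hAK : A ≤ K) :
    ¬ q ∣ Nat.card A := by
  intro hdvd
  haveI : Fact q.Prime := ⟨hG.hq⟩
  have hd : q ∣ Nat.card K := hdvd.trans (Subgroup.card_dvd_of_le hAK)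
  obtain ⟨-, hKc, hHi, hinf⟩ := hG.card_K
  rw [← hKc] at hd
  have hW : q ∣ Nat.card ↥(U ⊔ W₁) := hG.card_W₁ ▸ Subgroup.card_dvd_of_le le_sup_right
  rcases hG.hq.dvd_mul.1 hd with h | h
  · exact hG.hq.not_dvd_one ((hG.coprime_compl.gcd_eq_one) ▸ Nat.dvd_gcd h hW)
  · -- `W₁` would fix a nontrivial element of `U`
    let act : MulAction W₁ U :=
      { smul := fun w u => ⟨(w : L) * u * (w : L)⁻¹,
          (Subgroup.mem_normalizer_iff.1 (hG.U_norm w.2) _).1 u.2⟩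
        one_smul := fun u => by
          apply Subtype.ext
          show ((1 : W₁) : L) * u * ((1 : W₁) : L)⁻¹ = (u : L)
          simp
        mul_smul := fun a b u => by
          apply Subtype.ext
          show ((a * b : W₁) : L) * u * ((a * b : W₁) : L)⁻¹
            = (a : L) * ((b : L) * u * (b : L)⁻¹) * (a : L)⁻¹
          simp [mul_assoc] }
    have hpW : IsPGroup q W₁ := IsPGroup.of_card (n := 1) (by rw [hG.card_W₁, pow_one])
    have h1 : (1 : U) ∈ MulAction.fixedPoints W₁ U := fun w => by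
      apply Subtype.ext
      show (w : L) * ((1 : U) : L) * (w : L)⁻¹ = ((1 : U) : L)
      simp
    obtain ⟨b, hb, hb1⟩ := hpW.exists_fixed_point_of_prime_dvd_card_of_fixed_point U h h1
    obtain ⟨w, hw, hw1⟩ := hG.exists_w
    refine hb1 (Subtype.ext (Eq.symm (hG.fpf hw hw1 b.2 ?_)))
    have h2 : w * (b : L) * w⁻¹ = (b : L) := congrArg Subtype.val (hb ⟨w, hw⟩)
    calc w * (b : L) = w * (b : L) * w⁻¹ * w := by group
      _ = (b : L) * w := by rw [h2]

/-- `U` centralizes every normal subgroup of `L` in `H` meeting `W₂` trivially. -/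
lemma U_centralizes (hG : GroupHyp K H U W₁ W₂ p q) (hU : U ≠ ⊥) (N : Subgroup L) [N.Normal]
    (hNH : N ≤ H) (hN : W₂ ⊓ N = ⊥) : ∀ u ∈ U, ∀ a ∈ N, u * a = a * u := by
  haveI := hG.H_nil
  have hsolvH : Group.IsSolvable H := inferInstance
  have hUW : U ⊓ W₁ = ⊥ := le_bot_iff.1 (hG.K_inf ▸ inf_le_inf_right W₁ hG.U_le)
  have hfix : N ⊓ Subgroup.centralizer (W₁ : Set L) = ⊥ := by
    obtain ⟨w, hw, hw1⟩ := hG.exists_w
    rw [eq_bot_iff]
    rintro x ⟨hxN, hxc⟩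
    rw [← hN]
    refine ⟨?_, hxN⟩
    rw [← hG.cent w hw hw1]
    exact ⟨hG.H_le (hNH hxN), Subgroup.mem_centralizer_singleton_iff.2
      (Subgroup.mem_centralizer_iff.1 hxc w hw).symm⟩
  have h := S1545.result U W₁ N hU hG.W₁_ne hUW
    (fun e he u hu => (Subgroup.mem_normalizer_iff.1 (hG.U_norm he) u).1 hu)
    (fun e he he1 u hu hc => hG.fpf he he1 hu hc)
    (fun x _ a ha => (inferInstance : N.Normal).conj_mem a ha x)
    (le_bot_iff.1 (hG.card_K.2.2.2 ▸ inf_le_inf_right _ hNH))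
    (solvable_of_solvable_injective (Subgroup.inclusion_injective hNH))
    (hG.coprime_compl.coprime_dvd_left (Subgroup.card_dvd_of_le hNH))
  have h2 : N ⊓ Subgroup.centralizer ((U ⊔ W₁ : Subgroup L) : Set L) = ⊥ :=
    le_bot_iff.1 (hfix ▸ inf_le_inf_left N (Subgroup.centralizer_le (show (W₁ : Set L) ⊆ _ from
      SetLike.coe_subset_coe.2 le_sup_right)))
  rw [h2, hfix, Subgroup.card_bot, one_pow, one_mul, one_mul] at h
  have hle : N ⊓ Subgroup.centralizer (U : Set L) = N :=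
    Subgroup.eq_of_le_of_card_ge inf_le_left h.le
  intro u hu a ha
  rw [← hle] at ha
  exact Subgroup.mem_centralizer_iff.1 ha.2 u hu

end GroupHyp

namespace ChiefHyp

lemma C_le (hc : ChiefHyp H U W₂ H₀ C p q) : C ≤ U := fun _ hx => ((hc.mem_C _).1 hx).1

/-- `C` centralizes `H`. -/
lemma C_centralizes (hc : ChiefHyp H U W₂ H₀ C p q) (hG : GroupHyp K H U W₁ W₂ p q) (hU : U ≠ ⊥) :
    ∀ c ∈ C, ∀ h ∈ H, c * h = h * c := by
  haveI := hc.normal
  intro c hcC h hh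
  obtain ⟨hcU, hcH⟩ := (hc.mem_C c).1 hcC
  set a := h⁻¹ * (c * h * c⁻¹) with ha
  have haH₀ : a ∈ H₀ := by
    have := hc.normal.conj_mem _ (hcH h hh) h⁻¹
    rw [ha]; convert this using 1; group
  have hca : c * a = a * c := hG.U_centralizes hU H₀ hc.le hc.W₂_inf c hcU a haH₀
  have hpow : ∀ n : ℕ, c ^ n * h * (c ^ n)⁻¹ = h * a ^ n := by
    intro n
    induction n with
    | zero => simp
    | succ n ih =>
      have hcan : Commute c (a ^ n) := Commute.pow_right hca n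
      calc c ^ (n + 1) * h * (c ^ (n + 1))⁻¹ = c * (c ^ n * h * (c ^ n)⁻¹) * c⁻¹ := by
            rw [pow_succ']; group
        _ = (c * h * c⁻¹) * (c * a ^ n * c⁻¹) := by rw [ih]; group
        _ = h * a * a ^ n := by rw [hcan.eq, ha]; group
        _ = h * a ^ (n + 1) := by rw [pow_succ' a n, mul_assoc]
  have h1 : a ^ orderOf c = 1 := by
    have := hpow (orderOf c)
    rw [pow_orderOf_eq_one, one_mul, inv_one, mul_one] at this
    exact mul_eq_left.1 this.symm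
  have h2 : a = 1 := orderOf_eq_one_iff.1 (Nat.eq_one_of_dvd_coprimes hG.coprime_compl
    (Subgroup.orderOf_dvd_natCard H (hc.le haH₀))
    ((orderOf_dvd_of_pow_eq_one h1).trans
      (Subgroup.orderOf_dvd_natCard _ (Subgroup.mem_sup_left hcU))))
  rw [ha, inv_mul_eq_one] at h2
  calc c * h = c * h * c⁻¹ * c := by group
    _ = h * c := by rw [← h2]

/-- `C` is normal in `L`. -/
lemma C_normal (hc : ChiefHyp H U W₂ H₀ C p q) (hG : GroupHyp K H U W₁ W₂ p q) (hU : U ≠ ⊥) :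
    C.Normal := by
  rw [← Subgroup.normalizer_eq_top_iff, eq_top_iff, ← hG.K_sup, ← hG.HU]
  have hn : ∀ x : L, (∀ a ∈ C, x * a * x⁻¹ ∈ C) → x ∈ Subgroup.normalizer (C : Set L) := by
    intro x hx
    rw [Subgroup.mem_normalizer_iff]
    intro a
    refine ⟨hx a, fun ha => ?_⟩
    haveI : Finite C := inferInstance
    let f : C → C := fun a => ⟨x * a * x⁻¹, hx a a.2⟩
    obtain ⟨b, hb⟩ := (Finite.injective_iff_surjective.1 (fun a b hab => Subtype.ext (by
      simpa [f] using congrArg Subtype.val hab) : Function.Injective f)) ⟨_, ha⟩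
    have : (b : L) = a := by simpa [f] using congrArg Subtype.val hb
    exact this ▸ b.2
  have hUW : ∀ x ∈ Subgroup.normalizer (U : Set L), x ∈ Subgroup.normalizer (C : Set L) := by
    intro x hx
    refine hn x fun a ha => (hc.mem_C _).2 ⟨(Subgroup.mem_normalizer_iff.1 hx a).1 (hc.C_le ha),
      fun h hh => ?_⟩
    have := hc.normal.conj_mem _ (((hc.mem_C a).1 ha).2 (x⁻¹ * h * x) (by
      simpa using hG.H_normal.conj_mem h hh x⁻¹)) x
    convert this using 1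
    group
  refine sup_le (sup_le (fun x hx => hn x fun a ha => ?_) fun x hx => hUW x (Subgroup.le_normalizer hx))
    fun x hx => hUW x (hG.U_norm hx)
  rw [← hc.C_centralizes hG hU a ha x hx, mul_inv_cancel_right]
  exact ha

lemma card_sup (hG : GroupHyp K H U W₁ W₂ p q) [H.Normal] {A : Subgroup L} [A.Normal] (hA : A ≤ H)
    {B : Subgroup L} (hB : B ≤ U) : Nat.card ↥(A ⊔ B) = Nat.card A * Nat.card B := by
  refine Nat.card_congr (Equiv.symm (Equiv.ofBijective (fun x : A × B =>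
    (⟨(x.1 : L) * x.2, Subgroup.mul_mem_sup x.1.2 x.2.2⟩ : ↥(A ⊔ B))) ⟨?_, ?_⟩)) |>.trans (Nat.card_prod A B)
  · rintro ⟨a, b⟩ ⟨a', b'⟩ h
    have h' : (a : L) * b = a' * b' := congrArg Subtype.val h
    have h1 : (a' : L)⁻¹ * a = b' * (b : L)⁻¹ := by
      calc (a' : L)⁻¹ * a = (a' : L)⁻¹ * (a * b) * (b : L)⁻¹ := by group
        _ = b' * (b : L)⁻¹ := by rw [h']; group
    have h2 : (a' : L)⁻¹ * a ∈ H ⊓ U := ⟨H.mul_mem (H.inv_mem (hA a'.2)) (hA a.2),
      h1 ▸ U.mul_mem (hB b'.2) (U.inv_mem (hB b.2))⟩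
    rw [hG.H_inf_U, Subgroup.mem_bot] at h2
    have ha : a' = a := Subtype.ext (inv_mul_eq_one.1 h2)
    subst ha
    exact Prod.ext rfl (Subtype.ext (mul_left_cancel h'))
  · rintro ⟨x, hx⟩
    obtain ⟨a, ha, b, hb, rfl⟩ := Subgroup.mem_sup_of_normal_left.1 hx
    exact ⟨(⟨a, ha⟩, ⟨b, hb⟩), rfl⟩

end ChiefHyp

end Group

end Cfsg.Agent.OddLocal44.PF11
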