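import Cfsg.Agent.OddLocal44.PF11.Main
import Cfsg.Agent.PF10.NoV
import Cfsg.Agent.PF12.Main
import Cfsg.Agent.PF13.PairStructure

set_option autoImplicit false

/-!
Peterfalvi (12.7) without hypotheses, from §10 and §11.
-/

namespace Cfsg.Agent.OddLocal44.PF11

open Cfsg Cfsg.Agent

universe u

variable {G : Type u} [Group G] [Fintype G]

/-- Peterfalvi (12.7). -/
theorem frobeniusOne (hG : IsMinSimpleOddOrder G) : BGSummary.FrobeniusOne G :=
  PF12.frobenius (PF13.pf12Inputs hG (shape34 hG) (PF10.noV hG))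

end Cfsg.Agent.OddLocal44.PF11
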