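import Mathlib.GroupTheory.PGroup
import Mathlib.GroupTheory.Nilpotent
import Mathlib.GroupTheory.Order.Min
import Mathlib.Algebra.Group.Subgroup.Order
import Mathlib.Algebra.GroupWithZero.Basic
import Mathlib.GroupTheory.Commutator.Basic
import Mathlib.Algebra.Group.Subgroup.Finite
import Mathlib.GroupTheory.QuotientGroup.Finite
import Mathlib.GroupTheory.SpecificGroups.Cyclic
import Mathlib.Tactic.Group

set_option autoImplicit false

/-!
Group theoretic lemmas for Peterfalvi, §11.
-/

open scoped commutatorElement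

namespace Cfsg.Agent.OddLocal44.PF11

/-- In a finite nilpotent group a supplement of the derived subgroup is the whole group. -/
theorem eq_top_of_sup_commutator {G : Type*} [Group G] [Finite G] (hG : Group.IsNilpotent G)
    (S : Subgroup G) (h : S ⊔ commutator G = ⊤) : S = ⊤ := by
  rcases eq_top_or_exists_le_coatom S with h' | ⟨M, hM, hSM⟩
  · exact h'
  exfalso
  haveI := hG
  haveI : M.Normal := Subgroup.NormalizerCondition.normal_of_coatom M normalizerCondition_of_isNilpotent hM
  obtain ⟨x, -, hx⟩ : ∃ x ∈ (⊤ : Subgroup G), x ∉ M := SetLike.exists_of_lt hM.lt_top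
  have hsup : M ⊔ Subgroup.zpowers x = ⊤ :=
    hM.2 _ (lt_of_le_of_ne le_sup_left fun he => hx (he ▸ Subgroup.mem_sup_right (Subgroup.mem_zpowers x)))
  have hmap : ∀ g : G, ∃ k : ℤ, (QuotientGroup.mk' M) g = (QuotientGroup.mk' M x) ^ k := by
    intro g
    have hg : g ∈ M ⊔ Subgroup.zpowers x := hsup ▸ Subgroup.mem_top g
    obtain ⟨m, hm, z, hz, rfl⟩ := Subgroup.mem_sup_of_normal_left.1 hg
    obtain ⟨k, rfl⟩ := Subgroup.mem_zpowers_iff.1 hz
    refine ⟨k, ?_⟩
    rw [map_mul, map_zpow, (QuotientGroup.eq_one_iff m).2 hm |> fun e => (show QuotientGroup.mk' M m = 1 from e),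
      one_mul]
  have hc : commutator G ≤ M := by
    rw [commutator_def, Subgroup.commutator_le]
    intro a _ b _
    obtain ⟨k, hk⟩ := hmap a
    obtain ⟨l, hl⟩ := hmap b
    have : QuotientGroup.mk' M ⁅a, b⁆ = 1 := by
      rw [map_commutatorElement, hk, hl, commutatorElement_eq_one_iff_mul_comm, ← zpow_add, ← zpow_add,
        add_comm]
    exact (QuotientGroup.eq_one_iff _).1 this
  have : (⊤ : Subgroup G) ≤ M := h ▸ sup_le hSM hc
  exact hM.1 (top_le_iff.1 this)

/-- A finite group with a nondegenerate alternating pairing into a group of prime order has square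
order. -/
theorem exists_sq_of_pairing {Z : Type*} [CommGroup Z] (p : ℕ) [hp : Fact p.Prime]
    (hZ : Nat.card Z = p) :
    ∀ n : ℕ, ∀ (V : Type*) [Group V] [Finite V], Nat.card V = n → ∀ β : V → V → Z,
      (∀ a b c, β (a * b) c = β a c * β b c) → (∀ a b c, β a (b * c) = β a b * β a c) →
      (∀ a, β a a = 1) → (∀ a, (∀ b, β a b = 1) → a = 1) → ∃ m, n = m ^ 2 := by
  intro n
  induction n using Nat.strong_induction_on with
  | _ n ih =>
  intro V _ _ hn β h1 h2 halt hnd
  by_cases hV : ∀ x : V, x = 1
  · refine ⟨1, ?_⟩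
    rw [← hn, one_pow, Nat.card_eq_one_iff_unique]
    exact ⟨⟨fun a b => by rw [hV a, hV b]⟩, ⟨1⟩⟩
  push Not at hV
  obtain ⟨x, hx⟩ := hV
  obtain ⟨y, hy⟩ : ∃ y, β x y ≠ 1 := by
    by_contra h
    push Not at h
    exact hx (hnd x h)
  have hsw : ∀ a b, β b a = (β a b)⁻¹ := by
    intro a b
    have := halt (a * b)
    rw [h1, h2, h2, halt, halt, one_mul, mul_one] at this
    exact eq_inv_of_mul_eq_one_right this
  let φ : V →* Z × Z :=
    { toFun := fun z => (β x z, β y z)
      map_one' := by
        have e : ∀ a, β a 1 = 1 := fun a => by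
          have := h2 a 1 1
          rw [mul_one] at this
          exact mul_eq_left.1 this.symm
        rw [e, e]
        rfl
      map_mul' := fun a b => by rw [h2, h2]; rfl }
  haveI : Finite Z := Nat.finite_of_card_ne_zero (by rw [hZ]; exact hp.out.ne_zero)
  have hgen : ∀ b : Z, b ≠ 1 → ∀ z : Z, ∃ k : ℤ, b ^ k = z := fun b hb z =>
    Subgroup.mem_zpowers_iff.1 (mem_zpowers_of_prime_card hZ hb)
  have hsurj : Function.Surjective φ := by
    rintro ⟨a, b⟩
    obtain ⟨k, hk⟩ := hgen _ hy a
    have hy' : β y x ≠ 1 := by rw [hsw]; exact inv_ne_one.2 hy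
    obtain ⟨l, hl⟩ := hgen _ hy' b
    refine ⟨y ^ k * x ^ l, ?_⟩
    have e1 : φ y = (β x y, 1) := Prod.ext rfl (halt y)
    have e2 : φ x = (1, β y x) := Prod.ext (halt x) rfl
    rw [map_mul, map_zpow, map_zpow, e1, e2, Prod.pow_mk, Prod.pow_mk, one_zpow, one_zpow, hk, hl,
      Prod.mk_mul_mk, mul_one, one_mul]
  have hcard : n = Nat.card φ.ker * p ^ 2 := by
    rw [← hn, ← φ.ker.card_mul_index, Subgroup.index_ker, MonoidHom.range_eq_top.2 hsurj,
      Subgroup.card_top, Nat.card_prod, hZ, sq]
  have hlt : Nat.card φ.ker < n := by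
    rw [hcard]
    exact lt_mul_of_one_lt_right Nat.card_pos (one_lt_pow₀ hp.out.one_lt (by norm_num))
  obtain ⟨m, hm⟩ := ih _ hlt φ.ker rfl (fun a b => β a b) (fun a b c => h1 a b c)
    (fun a b c => h2 a b c) (fun a => halt a) (fun a ha => by
      apply Subtype.ext
      apply hnd
      have hax : β (a : V) x = 1 := by
        have := congrArg Prod.fst (MonoidHom.mem_ker.1 a.2)
        rw [hsw x, show β x (a : V) = 1 from this, inv_one]
      have hay : β (a : V) y = 1 := by
        have := congrArg Prod.snd (MonoidHom.mem_ker.1 a.2)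
        rw [hsw y, show β y (a : V) = 1 from this, inv_one]
      intro b
      obtain ⟨w, hw⟩ := hsurj (φ b)
      let ψ : V →* Z :=
        { toFun := fun z => β (a : V) z
          map_one' := by
            have := h2 (a : V) 1 1
            rw [mul_one] at this
            exact mul_eq_left.1 this.symm
          map_mul' := fun c d => h2 _ c d }
      -- `b` is a product of powers of `x`, `y` and an element of the kernel
      obtain ⟨k, hk⟩ := hgen _ hy (φ b).1
      obtain ⟨l, hl⟩ := hgen _ (show β y x ≠ 1 by rw [hsw]; exact inv_ne_one.2 hy) (φ b).2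
      have hker : (y ^ k * x ^ l)⁻¹ * b ∈ φ.ker := by
        rw [MonoidHom.mem_ker, map_mul, map_inv, map_mul, map_zpow, map_zpow,
          show φ y = (β x y, 1) from Prod.ext rfl (halt y),
          show φ x = (1, β y x) from Prod.ext (halt x) rfl, Prod.pow_mk, Prod.pow_mk, one_zpow, one_zpow,
          hk, hl, Prod.mk_mul_mk]
        simp
      have h3 : ψ ((y ^ k * x ^ l)⁻¹ * b) = 1 := ha ⟨_, hker⟩
      rw [map_mul, map_inv, map_mul, map_zpow, map_zpow, show ψ y = 1 from hay, show ψ x = 1 from hax,
        one_zpow, one_zpow, mul_one, inv_one, one_mul] at h3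
      exact h3)
  exact ⟨m * p, by rw [hcard, hm, mul_pow]⟩

/-- Cosets of a normal subgroup fixed by an operator of prime order coprime to it: if the fixed
points lie in the subgroup, the index is congruent to one. -/
theorem index_modEq_one {L : Type*} [Group L] [Finite L] (q : ℕ) [hq : Fact q.Prime]
    (K A W : Subgroup L) (hAK : A ≤ K) [A.Normal] [K.Normal] (hW : Nat.card W = q)
    (hcop : ¬ q ∣ Nat.card A) (hfix : ∀ x ∈ K, (∀ w ∈ W, w * x = x * w) → x ∈ A) :
    A.relIndex K ≡ 1 [MOD q] := by
  let B := A.subgroupOf K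
  let act : MulAction W (K ⧸ B) :=
    { smul := fun w c => Quotient.map' (fun k : K => (⟨(w : L) * k * (w : L)⁻¹,
        (inferInstance : K.Normal).conj_mem k k.2 w⟩ : K)) (fun a b hab => by
          rw [QuotientGroup.leftRel_apply] at hab ⊢
          show ((⟨(w : L) * a * (w : L)⁻¹, _⟩ : K)⁻¹ * ⟨(w : L) * b * (w : L)⁻¹, _⟩ : K) ∈ A.subgroupOf K
          rw [Subgroup.mem_subgroupOf] at *
          simp only [Subgroup.coe_mul, Subgroup.coe_inv] at hab ⊢
          convert (inferInstance : A.Normal).conj_mem _ hab (w : L) using 1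
          group) c
      one_smul := fun c => by
        induction c using Quotient.inductionOn' with
        | h k =>
          show Quotient.mk'' _ = Quotient.mk'' k
          congr 1
          apply Subtype.ext
          simp
      mul_smul := fun w v c => by
        induction c using Quotient.inductionOn' with
        | h k =>
          show Quotient.mk'' _ = Quotient.mk'' _
          congr 1
          apply Subtype.ext
          simp [mul_assoc] }
  have hpW : IsPGroup q W := IsPGroup.of_card (n := 1) (by rw [hW, pow_one])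
  have hmod := hpW.card_modEq_card_fixedPoints (K ⧸ B)
  suffices h : Nat.card (MulAction.fixedPoints W (K ⧸ B)) = 1 by
    rw [h] at hmod
    exact hmod
  have hbase : ((1 : K) : K ⧸ B) ∈ MulAction.fixedPoints W (K ⧸ B) := by
    intro w
    show Quotient.mk'' _ = Quotient.mk'' _
    congr 1
    apply Subtype.ext
    simp
  have huniq : ∀ c ∈ MulAction.fixedPoints W (K ⧸ B), c = ((1 : K) : K ⧸ B) := by
    intro c hc
    induction c using QuotientGroup.induction_on with
    | H k =>
    have hk : ∀ w : W, (k : L)⁻¹ * ((w : L) * k * (w : L)⁻¹) ∈ A := by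
      intro w
      have h1 : Quotient.mk'' k = (Quotient.mk'' (⟨(w : L) * k * (w : L)⁻¹,
        (inferInstance : K.Normal).conj_mem k k.2 w⟩ : K) : K ⧸ B) := (hc w).symm
      rw [Quotient.eq'', QuotientGroup.leftRel_apply] at h1
      exact Subgroup.mem_subgroupOf.1 h1
    -- act on the coset
    let act' : MulAction W A :=
      { smul := fun w a => ⟨(k : L)⁻¹ * ((w : L) * k * (w : L)⁻¹) * ((w : L) * a * (w : L)⁻¹),
          A.mul_mem (hk w) ((inferInstance : A.Normal).conj_mem a a.2 _)⟩
        one_smul := fun a => by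
          apply Subtype.ext
          show (k : L)⁻¹ * (((1 : W) : L) * k * ((1 : W) : L)⁻¹)
            * (((1 : W) : L) * a * ((1 : W) : L)⁻¹) = (a : L)
          simp
        mul_smul := fun w v a => by
          apply Subtype.ext
          show (k : L)⁻¹ * (((w * v : W) : L) * k * ((w * v : W) : L)⁻¹)
              * (((w * v : W) : L) * a * ((w * v : W) : L)⁻¹)
            = (k : L)⁻¹ * ((w : L) * k * (w : L)⁻¹) * ((w : L)
              * ((k : L)⁻¹ * ((v : L) * k * (v : L)⁻¹) * ((v : L) * a * (v : L)⁻¹)) * (w : L)⁻¹)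
          rw [Subgroup.coe_mul]
          group }
    obtain ⟨a, ha⟩ : (MulAction.fixedPoints W A).Nonempty := by
      letI := act'
      exact hpW.nonempty_fixed_point_of_prime_not_dvd_card A hcop
    have hka : (k : L) * a ∈ A := by
      refine hfix _ (K.mul_mem k.2 (hAK a.2)) fun w hw => ?_
      have h1 : (k : L)⁻¹ * (w * k * w⁻¹) * (w * a * w⁻¹) = (a : L) := congrArg Subtype.val (ha ⟨w, hw⟩)
      calc w * ((k : L) * a) = k * ((k : L)⁻¹ * (w * k * w⁻¹) * (w * a * w⁻¹)) * w := by group
        _ = k * a * w := by rw [h1]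
    have hkA : (k : L) ∈ A := by
      have := A.mul_mem hka (A.inv_mem a.2)
      rwa [mul_inv_cancel_right] at this
    rw [QuotientGroup.eq]
    exact Subgroup.mem_subgroupOf.2 (by simpa using hkA)
  rw [Nat.card_eq_one_iff_unique]
  exact ⟨⟨fun a b => Subtype.ext ((huniq _ a.2).trans (huniq _ b.2).symm)⟩, ⟨⟨_, hbase⟩⟩⟩

end Cfsg.Agent.OddLocal44.PF11
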