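import Cfsg.Agent.OddLocal44.PF11.Galois
import Cfsg.Agent.PF13.Structure
import Cfsg.Agent.PF8.TypeP
import Cfsg.Agent.PF.PrimeCoherent
import Cfsg.Agent.BGSummary.FittingHallStructure

set_option autoImplicit false
set_option linter.unusedSectionVars false

/-!
Peterfalvi, §11, for a maximal subgroup of type III or IV of a minimal simple group of odd order.
-/

namespace Cfsg.Agent.OddLocal44.PF11

open Cfsg Cfsg.Agent

universe u

variable {G : Type u} [Group G]

/-- The derived group of `M`, inside `M`. -/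
abbrev derSub (M : Subgroup G) : Subgroup M := (⁅M, M⁆ : Subgroup G).subgroupOf M

variable [Finite G] (hG : IsMinSimpleOddOrder G)
variable {M W₁ U W₂ : Subgroup G} (hM : IsCoatom M) (hP : IsTypePWith M W₁ U W₂)
variable (hT : IsOfTypeIII M ∨ IsOfTypeIV M)
include hG hM hP hT

/-- `U ≠ 1`. -/
theorem U_ne_bot : U ≠ ⊥ := by
  have h := PF8.typeInputs hG
  obtain ⟨⟨U₀, hKU⟩, -, -⟩ := PF8.decomp_of_typePWith hG hM hP
  obtain ⟨hK, hU₀, hne⟩ := (BGSummary.typeIII_IV_stmt hG h M hM W₁ U₀ hKU).mp hT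
  intro hU
  refine hne (le_antisymm ((PF8.summaryInputs hG).fitting_core M hM).2.1 ?_)
  rw [show sigmaCore M = ⁅M, M⁆ by rw [(h.derived M hM W₁ U₀ hKU hK).1, hU₀, bot_sup_eq]]
  intro x hx
  obtain ⟨a, ha, b, hb, rfl⟩ := hP.U_compl.2.2.2 x hx
  rw [hU, Subgroup.mem_bot] at hb
  rwa [hb, mul_one]

theorem not_typeII : ¬ IsOfTypeII M := by
  have h := PF8.typeInputs hG
  obtain ⟨⟨U₀, hKU⟩, -, -⟩ := PF8.decomp_of_typePWith hG hM hP
  exact fun hII => ((BGSummary.typeII_stmt hG h M hM W₁ U₀ hKU).mp hII).2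
    ((BGSummary.typeIII_IV_stmt hG h M hM W₁ U₀ hKU).mp hT).2.1

theorem prime_W₂ : (Nat.card W₂).Prime := by
  obtain ⟨S, V, hS, hV, -, hII, -⟩ := PF8.exists_partner hG hM hP
  exact PF8.prime_W₁ hG hS hV (Or.inl (hII.resolve_left (not_typeII hG hM hP hT)))

/-- The group hypotheses of §11. -/
theorem groupHyp :
    GroupHyp (derSub M) ((fittingHallOf M).subgroupOf M) (U.subgroupOf M) (W₁.subgroupOf M)
      (W₂.subgroupOf M) (Nat.card W₂) (Nat.card W₁) := by
  have hKle : ⁅M, M⁆ ≤ M := Subgroup.commutator_le_self M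
  have hFle : fittingHallOf M ≤ M := BGUniq.fittingHallOf_le M
  obtain ⟨-, hW₁M, hKW, hMd⟩ := hP.W₁_compl
  obtain ⟨hFd, hUd, hFU, hdU⟩ := hP.U_compl
  have hW₂H : W₂ ≤ fittingHallOf M := hP.W₂_le.trans inf_le_left
  have hKn : (derSub M).Normal :=
    Subgroup.normal_subgroupOf_of_le_normalizer
      (BGSummary.commutator_normal hG (PF8.typeInputs hG))
  have hHe : (fittingHallOf M).subgroupOf M = fittingHall M :=
    Subgroup.comap_map_eq_self_of_injective M.subtype_injective _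
  refine ⟨Odd.of_dvd_nat hG.1 (Subgroup.card_subgroup_dvd_card M), ?_, hKn, ?_, ?_, ?_, ?_, ?_, ?_,
    ?_, ?_, ?_, PF8.prime_W₁ hG hM hP (Or.inr hT), prime_W₂ hG hM hP hT, ?_,
    Nat.card_congr (Subgroup.subgroupOfEquivOfLe hW₁M).toEquiv,
    Nat.card_congr (Subgroup.subgroupOfEquivOfLe (hW₂H.trans hFle)).toEquiv, ?_, ?_, ?_⟩
  · haveI := BGSigma.coatom_isSolvable hG hM
    infer_instance
  · rw [hHe]; infer_instance
  · rw [hHe]; exact BGUniq.fittingHall_isNilpotent M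
  · rw [hHe]; exact BGUniq.fittingHall_coprime M
  · rw [derSub, ← Subgroup.subgroupOf_sup hFle (hUd.trans hKle)]
    congr 1
    exact le_antisymm (sup_le hFd hUd) fun x hx => by
      obtain ⟨a, ha, b, hb, rfl⟩ := hdU x hx
      exact Subgroup.mul_mem_sup ha hb
  · rw [eq_bot_iff]
    intro x hx
    exact Subgroup.mem_bot.2 (Subtype.ext (Subgroup.mem_bot.1 (hFU ▸ ⟨hx.1, hx.2⟩)))
  · haveI := hP.U_nilpotent
    exact Group.nilpotent_of_mulEquiv (Subgroup.subgroupOfEquivOfLe (hUd.trans hKle)).symm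
  · intro x hx
    rw [Subgroup.mem_normalizer_iff]
    intro y
    exact Subgroup.mem_normalizer_iff.1 (hP.U_normal hx) y
  · rw [eq_bot_iff]
    intro x hx
    exact Subgroup.mem_bot.2 (Subtype.ext (Subgroup.mem_bot.1 (hKW ▸ ⟨hx.1, hx.2⟩)))
  · rw [derSub, ← Subgroup.subgroupOf_sup hKle hW₁M, Subgroup.subgroupOf_eq_top]
    intro x hx
    obtain ⟨a, ha, b, hb, rfl⟩ := hMd x hx
    exact Subgroup.mul_mem_sup ha hb
  · intro e
    have := PF8.coprime_W hG hM hP
    rw [← e, Nat.coprime_self] at this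
    exact (prime_W₂ hG hM hP hT).ne_one this
  · exact fun x hx => hW₂H hx
  · intro x hx
    have h2 : (x : G) ∈ ⁅⁅M, M⁆, ⁅M, M⁆⁆ := (hP.W₂_le hx).2
    have e : (⁅derSub M, derSub M⁆).map M.subtype = ⁅⁅M, M⁆, ⁅M, M⁆⁆ := by
      rw [Subgroup.map_commutator, Subgroup.map_subgroupOf_eq_of_le hKle]
    rw [← e] at h2
    obtain ⟨y, hy, hyx⟩ := h2
    rwa [← Subtype.ext hyx]
  · intro x hx hx1
    have h2 := hP.W₂_centralizer (x : G) hx fun e => hx1 (Subtype.ext e)
    ext y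
    simp only [Subgroup.mem_inf, Subgroup.mem_subgroupOf, Subgroup.mem_centralizer_singleton_iff,
      ← h2]
    rw [← Subtype.val_inj]
    rfl

theorem primeTI : OddChar.PrimeTI.Hyp (derSub M) (W₁.subgroupOf M) (W₂.subgroupOf M) := by
  have hg := groupHyp hG hM hP hT
  have hW₁M : W₁ ≤ M := hP.W₁_compl.2.1
  have hW₂M : W₂ ≤ M := (hP.W₂_le.trans inf_le_left).trans (BGUniq.fittingHallOf_le M)
  haveI := hP.W₁_cyclic
  haveI : Fact (Nat.card W₂).Prime := ⟨prime_W₂ hG hM hP hT⟩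
  refine ⟨hg.K_normal, hg.K_inf, hg.K_sup, hg.W₁_ne,
    isCyclic_of_surjective _ (Subgroup.subgroupOfEquivOfLe hW₁M).symm.surjective, ?_, ?_,
    isCyclic_of_prime_card hg.card_W₂,
    fun x hx => hP.U_compl.1 ((hP.W₂_le hx).1),
    hg.cent, Odd.of_dvd_nat hg.odd (Subgroup.card_subgroup_dvd_card _)⟩
  · rw [hg.card_W₁]; exact hP.W₁_hall
  · intro h
    have := hg.card_W₂
    rw [h, Subgroup.card_bot] at this
    exact (prime_W₂ hG hM hP hT).ne_one this.symm

theorem map_W : (W₁.subgroupOf M).map M.subtype = W₁ ∧ (W₂.subgroupOf M).map M.subtype = W₂ :=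
  ⟨Subgroup.map_subgroupOf_eq_of_le hP.W₁_compl.2.1,
    Subgroup.map_subgroupOf_eq_of_le ((hP.W₂_le.trans inf_le_left).trans (BGUniq.fittingHallOf_le M))⟩

theorem mem_typeA {x : M} (hx : x ∈ derSub M) (hx1 : x ≠ 1) : (x : G) ∈ typeA M := by
  rw [typeA, if_neg (PF8.not_typeI hG hM hP)]
  refine ⟨hx, fun e => hx1 (Subtype.ext e), x, ?_, fun e => hx1 (Subtype.ext e), rfl⟩
  rw [typeCore, if_pos hT]
  exact hx

theorem primeDade :
    PF.PrimeDade (typeA M) (typeA0 M) M (supportR M) (derSub M) (derSub M) (W₁.subgroupOf M)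
      (W₂.subgroupOf M) := by
  obtain ⟨e1, e2⟩ := map_W hG hM hP hT
  refine ⟨primeTI hG hM hP hT, ?_, (groupHyp hG hM hP hT).K_normal, (primeTI hG hM hP hT).le, le_rfl,
    fun x hx => ?_, fun x hx hx1 _ _ _ _ => mem_typeA hG hM hP hT hx hx1, Set.subset_union_left,
    fun w h1 h2 => ?_, PF8.dade_typeA0 hG (PF8.summaryInputs hG) hM⟩
  · rw [e1, e2]; exact hP.selfNormalizing
  · rw [typeA, if_neg (PF8.not_typeI hG hM hP)] at hx
    exact hx.1
  · refine Or.inr ⟨PF8.not_typeI hG hM hP, W₁, U, W₂, hP, 1, M.one_mem, (w : M), ?_, h1, h2, by simp⟩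
    have hw := Subgroup.mem_map_of_mem M.subtype w.2
    rwa [Subgroup.map_sup, e1, e2] at hw

/-- `U` does not centralize `M_F`. -/
theorem not_centralizes :
    ¬ ∀ u ∈ U.subgroupOf M, ∀ h ∈ (fittingHallOf M).subgroupOf M, u * h = h * u := by
  intro hall
  have hg := groupHyp hG hM hP hT
  haveI := hg.K_normal
  haveI := hg.H_normal
  haveI := hg.H_nil
  haveI := hg.U_nil
  have hHe : (fittingHallOf M).subgroupOf M = fittingHall M :=
    Subgroup.comap_map_eq_self_of_injective M.subtype_injective _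
  let φ : ((fittingHallOf M).subgroupOf M) × (U.subgroupOf M) →* derSub M :=
    { toFun := fun x => ⟨(x.1 : M) * x.2, (derSub M).mul_mem (hg.H_le x.1.2) (hg.U_le x.2.2)⟩
      map_one' := Subtype.ext (by simp)
      map_mul' := fun x y => Subtype.ext (by
        show ((x.1 * y.1 : _) : M) * ((x.2 * y.2 : _) : M) = (x.1 : M) * x.2 * ((y.1 : M) * y.2)
        rw [Subgroup.coe_mul, Subgroup.coe_mul]
        calc (x.1 : M) * y.1 * (x.2 * y.2) = (x.1 : M) * (y.1 * x.2) * y.2 := by group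
          _ = (x.1 : M) * (x.2 * y.1) * y.2 := by rw [hall _ x.2.2 _ y.1.2]
          _ = _ := by group) }
  have hnil : Group.IsNilpotent (derSub M) := by
    refine Group.nilpotent_of_surjective φ fun x => ?_
    obtain ⟨a, ha, v, hv, e⟩ := exists_decomp hg x
    exact ⟨(⟨a, ha⟩, ⟨v, hv⟩), Subtype.ext e.symm⟩
  have hle : derSub M ≤ fittingHall M := BGUniq.le_fittingHall hg.K_normal hnil (by
    rw [hg.card_K.1]
    exact ((hg.hq.coprime_iff_not_dvd).2 (hg.not_q_dvd _ le_rfl)).symm)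
  refine U_ne_bot hG hM hP hT ?_
  have hU : U.subgroupOf M = ⊥ := by
    rw [eq_bot_iff, ← hg.H_inf_U]
    exact le_inf ((hg.U_le.trans hle).trans hHe.ge) le_rfl
  rw [← Subgroup.map_subgroupOf_eq_of_le (hP.U_compl.2.1.trans (Subgroup.commutator_le_self M)),
    hU, Subgroup.map_bot]

/-- `U'` centralizes `M_F`. -/
theorem derived_centralizes :
    ∀ x ∈ ⁅U.subgroupOf M, U.subgroupOf M⁆, ∀ h ∈ (fittingHallOf M).subgroupOf M,
      x * h = h * x := by
  intro x hx h hh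
  have hg := groupHyp hG hM hP hT
  haveI := hg.H_normal
  set H := (fittingHallOf M).subgroupOf M
  have hUle : U ≤ M := hP.U_compl.2.1.trans (Subgroup.commutator_le_self M)
  have hFle : fittingHallOf M ≤ M := BGUniq.fittingHallOf_le M
  have h2 : (x : G) ∈ fittingHallOf M ⊔ (M ⊓ Subgroup.centralizer (fittingHallOf M : Set G)) := by
    refine hP.derived_two_le ?_
    have hx' : (x : G) ∈ (⁅U.subgroupOf M, U.subgroupOf M⁆).map M.subtype := ⟨x, hx, rfl⟩
    rw [Subgroup.map_commutator, Subgroup.map_subgroupOf_eq_of_le hUle] at hx'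
    exact Subgroup.commutator_mono hP.U_compl.2.1 hP.U_compl.2.1 hx'
  have hn : (M ⊓ Subgroup.centralizer (fittingHallOf M : Set G)) ≤
      Subgroup.normalizer (fittingHallOf M : Set G) :=
    inf_le_left.trans (BGSummary.le_normalizer_fittingHallOf M)
  rw [← SetLike.mem_coe, Subgroup.coe_mul_of_right_le_normalizer_left _ _ hn] at h2
  obtain ⟨a, ha, c, ⟨hcM, hcC⟩, hac⟩ := Set.mem_mul.1 h2
  have haH : (⟨a, hFle ha⟩ : M) ∈ H := ha
  have hcH : ∀ y ∈ H, (⟨c, hcM⟩ : M) * y = y * ⟨c, hcM⟩ := fun y hy =>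
    Subtype.ext (Subgroup.mem_centralizer_iff.1 hcC y hy).symm
  have hxac : x = (⟨a, hFle ha⟩ : M) * ⟨c, hcM⟩ := Subtype.ext hac.symm
  set n := orderOf (⟨a, hFle ha⟩ : M) with hn'
  have hxU : x ∈ U.subgroupOf M := Subgroup.commutator_le_self _ hx
  obtain ⟨m, hm⟩ := exists_pow_eq_self_of_coprime
    (hg.coprime_U (Subgroup.mem_sup_left hxU) haH).symm
  have hcomm : Commute (⟨a, hFle ha⟩ : M) ⟨c, hcM⟩ := (hcH _ haH).symm
  have hxn : x ^ n = (⟨c, hcM⟩ : M) ^ n := by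
    rw [hxac, hcomm.mul_pow, hn', pow_orderOf_eq_one, one_mul]
  have h3 : Commute ((x ^ n) ^ m) h := by
    rw [hxn]
    exact ((show Commute (⟨c, hcM⟩ : M) h from hcH h hh).pow_left n).pow_left m
  rw [hn'] at h3
  rw [← hm]
  exact h3

omit hG hM hP hT in
theorem card_subgroupOf {A M : Subgroup G} (hA : A ≤ M) :
    Nat.card (A.subgroupOf M) = Nat.card A :=
  Nat.card_congr (Subgroup.subgroupOfEquivOfLe hA).toEquiv

omit hM hP hT in
/-- Peterfalvi (11.3)-(11.8): the shape of a maximal subgroup of type III or IV. -/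
theorem shape34 [Fintype G] : PF13.Shape34 G := by
  classical
  intro M W₁ U W₂ hM hP hT
  haveI : Fintype M := Fintype.ofFinite _
  have hg := groupHyp hG hM hP hT
  have P := primeDade hG hM hP hT
  obtain ⟨hU1, ⟨Rs, hS⟩, hnc⟩ := PF13.system_of_34 hG hM hP hT
  have hUH := not_centralizes hG hM hP hT
  obtain ⟨H₀, C, hc⟩ := exists_chief hg hU1 hUH
  obtain ⟨hr, hbd⟩ := reduce hg hS hU1 hUH hnc hc (derived_centralizes hG hM hP hT)
  have S : Setup (typeA0 M) M (supportR M) (derSub M) (W₁.subgroupOf M) (W₂.subgroupOf M) :=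
    ⟨P.pti, P.cyc, P.dade, fun x hx hx1 => P.leA₀ (mem_typeA hG hM hP hT hx hx1), P.offA₀⟩
  obtain ⟨hcyc, hdvd, hfree⟩ := hr.galois hg (irreducible hg hr P S hS hbd)
  have hlt : Nat.card W₂ < Nat.card W₁ := by
    obtain ⟨η, E⟩ := PF.exists_eta M (W₁.subgroupOf M) (W₂.subgroupOf M) P.cyc P.pti.odd
    haveI := P.pti.split.finite_dual
    haveI : Fintype ↥(OddChar.CycTI.D1 (W₁.subgroupOf M) (W₂.subgroupOf M)) := Fintype.ofFinite _
    exact (rows_of_not_coherent hg hr S hS hbd E).1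
  have hFle : fittingHallOf M ≤ M := BGUniq.fittingHallOf_le M
  have hUle : U ≤ M := hP.U_compl.2.1.trans (Subgroup.commutator_le_self M)
  rw [card_subgroupOf hUle] at hdvd
  refine ⟨?_, ⟨⟨⟨fun a b => Subtype.ext (congrArg Subtype.val
    (hr.abelian ⟨a, hFle a.2⟩ a.2 ⟨b, hFle b.2⟩ b.2) :)⟩⟩,
    fun x hx => congrArg Subtype.val (hr.exponent ⟨x, hFle hx⟩ hx)⟩, ?_, hdvd,
    fun u hu hu1 x hx e => congrArg Subtype.val (hfree ⟨u, hUle hu⟩ hu
      (fun e' => hu1 (congrArg Subtype.val e')) ⟨x, hFle hx⟩ hx (Subtype.ext e)), hlt⟩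
  · exact isCyclic_of_surjective _ (Subgroup.subgroupOfEquivOfLe hUle).surjective
  · rw [← card_subgroupOf hFle]
    exact hr.card_H

end Cfsg.Agent.OddLocal44.PF11
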